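import Mathlib
import Cfsg.Prelude.Def_GeometricClasses
import Cfsg.Agent.Lib.Aschbacher.Orthogonal
import Cfsg.Agent.Lib.SingMax.Basic
import Cfsg.Agent.Lib.MaxClass.OrthMax
import Cfsg.Agent.Lib.Classical.AlternatingRank

/-!
Elementary facts on non-degenerate quadratic forms in even dimension, in every characteristic.
-/

set_option autoImplicit false
set_option linter.style.haveILetI false
set_option linter.unusedSectionVars false

namespace Cfsg.Agent.Lib.MaxClass.OrthEven

open Cfsg Cfsg.Geo Matrix QuadraticMap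
open Cfsg.Agent.Lib.Aschbacher Cfsg.Agent.Lib.MaxClass

variable {ι : Type} [Fintype ι] [DecidableEq ι] {F : Type*} [Field F] {Q : QuadraticForm F (ι → F)}

theorem app_iso {g : GL ι F} (hg : g ∈ isometryGroup F ⇑Q) (y : ι → F) :
    Q ((g : Matrix ι ι F) *ᵥ y) = Q y :=
  Orth.mem_isometryGroup_iff.mp hg y

theorem polar_iso {g : GL ι F} (hg : g ∈ isometryGroup F ⇑Q) (x y : ι → F) :
    polar ⇑Q ((g : Matrix ι ι F) *ᵥ x) ((g : Matrix ι ι F) *ᵥ y) = polar ⇑Q x y :=
  SingMax.polar_of_iso (app_iso hg) x y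

theorem mulVec_inv_cancel (g : GL ι F) (y : ι → F) :
    (g : Matrix ι ι F) *ᵥ (((g⁻¹ : GL ι F) : Matrix ι ι F) *ᵥ y) = y := by
  rw [Matrix.mulVec_mulVec, Units.mul_inv, Matrix.one_mulVec]

theorem inv_mulVec_cancel (g : GL ι F) (y : ι → F) :
    ((g⁻¹ : GL ι F) : Matrix ι ι F) *ᵥ ((g : Matrix ι ι F) *ᵥ y) = y := by
  rw [Matrix.mulVec_mulVec, Units.inv_mul, Matrix.one_mulVec]

/-- The Gram matrix of the polar form. -/
theorem exists_polarGram (hQ : (QuadraticMap.polarBilin Q).Nondegenerate) :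
    ∃ G : GL ι F, IsFormGram (RingEquiv.refl F) G 1 ∧ ∀ u v, polar ⇑Q u v = formM (RingEquiv.refl F) (G : Matrix ι ι F) u v := by
  have hb : IsBilinearForm (polar ⇑Q) :=
    ⟨fun x y v => by rw [polar_add_left], fun c x v => by rw [polar_smul_left, smul_eq_mul],
      fun v x y => by rw [polar_add_right], fun c v x => by rw [polar_smul_right, smul_eq_mul]⟩
  have hnd : IsNondegenerateForm (polar ⇑Q) := by
    intro v hv
    obtain ⟨x, hx⟩ : ∃ x, polar ⇑Q v x ≠ 0 := by
      by_contra h
      push Not at h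
      exact hv (hQ.1 v h)
    exact ⟨⟨x, by rwa [polar_comm]⟩, ⟨x, hx⟩⟩
  obtain ⟨G, hG, -⟩ := exists_gram_bilinear hb hnd
  refine ⟨G, ⟨fun _ => rfl, ?_⟩, fun u v => by rw [← hG]⟩
  rw [twist_refl, one_smul]
  refine formM_injective (RingEquiv.refl F) fun u v => ?_
  rw [formM_transpose, ← hG, polar_comm]

theorem invariant_polarGram {G : GL ι F}
    (hG : ∀ u v, polar ⇑Q u v = formM (RingEquiv.refl F) (G : Matrix ι ι F) u v) {H : Subgroup (GL ι F)}
    (hH : H ≤ isometryGroup F ⇑Q) : Invariant (RingEquiv.refl F) H (G : Matrix ι ι F) :=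
  invariant_iff_fixes.mpr (by
    rintro _ ⟨x, hx, rfl⟩ u v
    rw [← hG, ← hG, polar_iso (hH hx)])

theorem eq_half_polar (h2 : (2 : F) ≠ 0) (v : ι → F) : Q v = (2 : F)⁻¹ * polar ⇑Q v v := by
  rw [polar_self, nsmul_eq_mul, Nat.cast_ofNat, ← mul_assoc, inv_mul_cancel₀ h2, one_mul]

theorem polar_self_two (h2 : (2 : F) = 0) (v : ι → F) : polar ⇑Q v v = 0 := by
  rw [polar_self, nsmul_eq_mul, Nat.cast_ofNat, h2, zero_mul]

/-- In characteristic two non-degenerate subspaces have even dimension. -/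
theorem even_finrank_of_nondegenerateOn (h2 : (2 : F) = 0) {W : Submodule F (ι → F)}
    (hW : IsNondegenerateOn (polar ⇑Q) W) : Even (Module.finrank F W) := by
  let B : W →ₗ[F] W →ₗ[F] F := ((QuadraticMap.polarBilin Q).compl₂ W.subtype).comp W.subtype
  have h := Cfsg.Agent.Lib.AlternatingRank.even_finrank_range_of_alt _ (rfl : Module.finrank F W = _) B
    (fun v => polar_self_two h2 (v : ι → F))
  have hinj : Function.Injective B := by
    rw [← LinearMap.ker_eq_bot, LinearMap.ker_eq_bot']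
    intro w hw
    by_contra h0
    obtain ⟨-, x, hx, hwx⟩ := hW (w : ι → F) w.2 (fun h => h0 (Subtype.ext h))
    exact hwx (LinearMap.congr_fun hw ⟨x, hx⟩)
  rwa [LinearMap.finrank_range_of_inj hinj] at h

/-- The common zeros of additive maps that are semilinear for squaring form a subspace. -/
theorem exists_common_zero [Finite F] (h2 : (2 : F) = 0) {M : Type*} [AddCommGroup M] [Module F M]
    [FiniteDimensional F M] {k : ℕ} (f : Fin k → M → F) (hadd : ∀ i u v, f i (u + v) = f i u + f i v)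
    (hsmul : ∀ i (c : F) v, f i (c • v) = c ^ 2 * f i v) :
    ∃ Z : Submodule F M, (∀ v, v ∈ Z ↔ ∀ i, f i v = 0) ∧ Module.finrank F M ≤ Module.finrank F Z + k := by
  haveI : CharP F 2 := CharTwo.of_one_ne_zero_of_two_eq_zero one_ne_zero h2
  let s := (frobeniusEquiv F 2).symm
  have hs : ∀ x : F, s (x ^ 2) = x := fun x => (frobeniusEquiv F 2).symm_apply_apply x
  let φ : M →ₗ[F] Fin k → F :=
    { toFun := fun v i => s (f i v)
      map_add' := fun u v => funext fun i => by simp [hadd]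
      map_smul' := fun c v => funext fun i => by simp [hsmul, hs] }
  refine ⟨LinearMap.ker φ, fun v => ?_, ?_⟩
  · rw [LinearMap.mem_ker]
    exact ⟨fun h i => by simpa [φ] using congrFun h i, fun h => funext fun i => by simp [φ, h]⟩
  · have h1 := φ.finrank_range_add_finrank_ker
    have h3 : Module.finrank F φ.range ≤ k := by simpa using Submodule.finrank_le φ.range
    omega

/-- A subspace invariant under an irreducible group is trivial. -/
theorem eq_top_of_invariant {H : Subgroup (GL ι F)} (hirr : ActsIrreducibly (matrixSet H))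
    {W : Submodule F (ι → F)} (hW : ∀ g ∈ H, ∀ w ∈ W, (g : Matrix ι ι F) *ᵥ w ∈ W) (h0 : W ≠ ⊥) : W = ⊤ :=
  (actsIrreducibly_iff.mp hirr W hW).resolve_left h0

theorem ne_bot_of_finrank {W : Submodule F (ι → F)} (h : 0 < Module.finrank F W) : W ≠ ⊥ := by
  rintro rfl
  rw [finrank_bot] at h
  omega

end Cfsg.Agent.Lib.MaxClass.OrthEven
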