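import Mathlib
import Cfsg.Prelude.Def_GeometricClasses
import Cfsg.Agent.Lib.MaxClass.OrthEven.Basics

/-!
Reducible and imprimitive groups of isometries of an even-dimensional quadratic space, and groups
normalising a field, in every characteristic.
-/

set_option autoImplicit false
set_option linter.style.haveILetI false
set_option linter.unusedSectionVars false

namespace Cfsg.Agent.Lib.MaxClass.OrthEven

open Cfsg Cfsg.Geo Matrix QuadraticMap
open Cfsg.Agent.Lib.Aschbacher Cfsg.Agent.Lib.MaxClass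

variable {ι : Type} [Fintype ι] [DecidableEq ι] {F : Type*} [Field F] [Fintype F] {Q : QuadraticForm F (ι → F)}

/-- Stabilisers of subspaces. -/
def SubspaceCase (Q : QuadraticForm F (ι → F)) (H : Subgroup (GL ι F)) : Prop :=
  (∃ W : Submodule F (ι → F), W ≠ ⊥ ∧ IsTotallySingularQuad (⇑Q) W ∧ H ≤ subspaceStabilizer W) ∨
  (∃ W : Submodule F (ι → F), W ≠ ⊥ ∧ W ≠ ⊤ ∧ IsNondegenerateOn (polar ⇑Q) W ∧ H ≤ subspaceStabilizer W) ∨
  ((2 : F) = 0 ∧ ∃ v : ι → F, Q v ≠ 0 ∧ H ≤ subspaceStabilizer (F ∙ v))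

/-- Stabilisers of decompositions. -/
def DecompCase (Q : QuadraticForm F (ι → F)) (H : Subgroup (GL ι F)) : Prop :=
  (∃ (t k : ℕ) (D : Fin t → Submodule F (ι → F)), IsOrthogonalMDecomposition (⇑Q) k D ∧
    H ≤ decompositionStabilizer D) ∨
  (∃ (k : ℕ) (D : Fin 2 → Submodule F (ι → F)), 2 * k = Fintype.card ι ∧ IsMDecomposition k D ∧
    (∀ i, IsTotallySingularQuad (⇑Q) (D i)) ∧ H ≤ decompositionStabilizer D)

/-- Normalisers of field extensions. -/
def FieldCase (Q : QuadraticForm F (ι → F)) (H : Subgroup (GL ι F)) : Prop :=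
  ∃ (r : ℕ) (K : Subalgebra F (Matrix ι ι F)), r.Prime ∧ r ∣ Fintype.card ι ∧ IsFieldSubalgebra r K ∧
    H ≤ subalgebraNormalizer K ∧
    ((IsSelfAdjointFor (polar ⇑Q) K ∧ ∀ k ∈ K, ∀ v, (2 : F) = 0 → polar ⇑Q (k *ᵥ v) v = 0) ∨
      (r = 2 ∧ IsAdjointClosedFor (polar ⇑Q) K ∧ ¬ IsSelfAdjointFor (polar ⇑Q) K ∧
        ∀ k ∈ K, ∃ c : F, ∀ v, Q (k *ᵥ v) = c * Q v))

theorem subspaceCase_of_reducible (hQ : (QuadraticMap.polarBilin Q).Nondegenerate) {H : Subgroup (GL ι F)}
    (hH : H ≤ isometryGroup F ⇑Q) (hred : ¬ ActsIrreducibly (matrixSet H)) : SubspaceCase Q H := by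
  obtain ⟨G, hF, hG⟩ := exists_polarGram hQ
  rcases exists_subspace_of_reducible hF (invariant_polarGram hG hH) hred with
    ⟨W, hW0, hts, hle⟩ | ⟨W, U, hW0, hU0, hi, hs, -, -, hndW, -, -, -, hWi, -⟩
  swap
  · refine Or.inr (Or.inl ⟨W, hW0, fun h => hU0 ?_, ?_, le_subspaceStabilizer hWi⟩)
    · rw [h, top_inf_eq] at hi; exact hi
    · rw [show polar ⇑Q = formM (RingEquiv.refl F) (G : Matrix ι ι F) from funext fun u => funext (hG u)]
      exact hndW
  have hpol : ∀ u ∈ W, ∀ v ∈ W, polar ⇑Q u v = 0 := fun u hu v hv => by rw [hG]; exact hts u hu v hv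
  by_cases h2 : (2 : F) = 0
  swap
  · exact Or.inl ⟨W, hW0, fun w hw => by rw [eq_half_polar h2, hpol w hw w hw, mul_zero], hle⟩
  obtain ⟨Z, hZ, hZd⟩ := exists_common_zero h2 (M := W) (fun (_ : Fin 1) (w : W) => Q (w : ι → F))
    (fun _ u v => by
      show Q ((u : ι → F) + (v : ι → F)) = _
      rw [QuadraticMap.map_add (⇑Q), hpol u u.2 v v.2, add_zero])
    (fun _ c v => by
      show Q (c • (v : ι → F)) = _
      rw [QuadraticMap.map_smul, smul_eq_mul, pow_two])
  by_cases hZ0 : Z = ⊥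
  · right; right
    rw [hZ0, finrank_bot] at hZd
    have hW1 : Module.finrank F W = 1 := le_antisymm hZd (Submodule.one_le_finrank_iff.mpr hW0)
    obtain ⟨v, hv, hv0⟩ := W.ne_bot_iff.mp hW0
    have hWv : W = F ∙ v := (Submodule.eq_of_le_of_finrank_eq
      ((Submodule.span_singleton_le_iff_mem v W).mpr hv) (by rw [finrank_span_singleton hv0, hW1])).symm
    refine ⟨h2, v, fun hQv => ?_, hWv ▸ hle⟩
    have : (⟨v, hv⟩ : W) ∈ Z := (hZ _).mpr fun _ => hQv
    rw [hZ0, Submodule.mem_bot] at this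
    exact hv0 (congrArg Subtype.val this)
  · refine Or.inl ⟨Z.map W.subtype, fun h => hZ0 ?_, ?_, fun g hg => ?_⟩
    · exact Submodule.map_injective_of_injective W.injective_subtype (by rw [h, Submodule.map_bot])
    · rintro _ ⟨z, hz, rfl⟩
      exact (hZ z).mp hz 0
    · have hgW : ∀ w, w ∈ W ↔ (g : Matrix ι ι F) *ᵥ w ∈ W := hle hg
      show ∀ z, z ∈ Z.map W.subtype ↔ (g : Matrix ι ι F) *ᵥ z ∈ Z.map W.subtype
      have hmem : ∀ z, z ∈ Z.map W.subtype ↔ z ∈ W ∧ Q z = 0 := by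
        intro z
        constructor
        · rintro ⟨z, hz, rfl⟩
          exact ⟨z.2, (hZ z).mp hz 0⟩
        · rintro ⟨hz, hQz⟩
          exact ⟨⟨z, hz⟩, (hZ _).mpr fun _ => hQz, rfl⟩
      intro z
      rw [hmem, hmem, ← hgW, app_iso (hH hg)]

theorem decompCase_of_imprimitive (hQ : (QuadraticMap.polarBilin Q).Nondegenerate) (hn : 8 ≤ Fintype.card ι)
    {H : Subgroup (GL ι F)} (hH : H ≤ isometryGroup F ⇑Q) (hirr : ActsIrreducibly (matrixSet H))
    (him : HasImprimitive H) : DecompCase Q H := by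
  classical
  obtain ⟨G, hF, hG⟩ := exists_polarGram hQ
  have hfun : polar ⇑Q = formM (RingEquiv.refl F) (G : Matrix ι ι F) := funext fun u => funext (hG u)
  rcases exists_decomposition_of_imprimitive hF (invariant_polarGram hG hH) him with
    ⟨t, e, he, hself⟩ | ⟨e, he, h01, h10⟩
  · obtain ⟨k, hk, hle⟩ := he.nondegenerate (fun _ => rfl) hself
    refine Or.inl ⟨t, k, _, ⟨by rw [hfun]; exact hk, fun i j => ?_⟩, hle⟩
    obtain ⟨g, hg, hgij⟩ := he.trans i j
    have hmap : (rangeOf (e i)).map (Matrix.toLin' (g : Matrix ι ι F)) = rangeOf (e j) := by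
      rw [map_rangeOf, hgij]
    have hinj : Function.Injective (Matrix.toLin' (g : Matrix ι ι F)) := fun x y hxy => by
      have := congrArg (fun u => ((g⁻¹ : GL ι F) : Matrix ι ι F) *ᵥ u) hxy
      simpa [toLin'_mulVec, Matrix.mulVec_mulVec] using this
    refine ⟨(Submodule.equivMapOfInjective _ hinj _).trans (LinearEquiv.ofEq _ _ hmap), fun w => ?_⟩
    show Q (Matrix.toLin' (g : Matrix ι ι F) w) = _
    rw [toLin'_mulVec, app_iso (hH hg)]
  obtain ⟨k, hk, hle⟩ := he.decomposition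
  have hcard := finrank_of_two_members hk
  refine Or.inr ⟨k, _, hcard, hk, ?_, hle⟩
  have hts : ∀ i, ∀ u ∈ rangeOf (e i), ∀ v ∈ rangeOf (e i), polar ⇑Q u v = 0 := by
    intro i u hu v hv
    rw [hG]
    fin_cases i
    · exact totallySingular_of_adj (fun _ => rfl) (he.idem 0) h01 (he.orth 1 0 (by decide)) u hu v hv
    · exact totallySingular_of_adj (fun _ => rfl) (he.idem 1) h10 (he.orth 0 1 (by decide)) u hu v hv
  by_cases h2 : (2 : F) = 0
  swap
  · exact fun i w hw => by rw [eq_half_polar h2, hts i w hw w hw, mul_zero]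
  -- in characteristic two the zeros of the form on the two members span an invariant subspace
  have hz : ∀ i, ∃ Z : Submodule F (ι → F), (∀ v, v ∈ Z ↔ v ∈ rangeOf (e i) ∧ Q v = 0) ∧
      k ≤ Module.finrank F Z + 1 := by
    intro i
    obtain ⟨Z, hZ, hZd⟩ := exists_common_zero h2 (M := rangeOf (e i))
      (fun (_ : Fin 1) (w : rangeOf (e i)) => Q (w : ι → F))
      (fun _ u v => by
        show Q ((u : ι → F) + (v : ι → F)) = _
        rw [QuadraticMap.map_add (⇑Q), hts i u u.2 v v.2, add_zero])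
      (fun _ c v => by
        show Q (c • (v : ι → F)) = _
        rw [QuadraticMap.map_smul, smul_eq_mul, pow_two])
    refine ⟨Z.map (rangeOf (e i)).subtype, fun v => ⟨?_, ?_⟩, ?_⟩
    · rintro ⟨z, hz, rfl⟩
      exact ⟨z.2, (hZ z).mp hz 0⟩
    · rintro ⟨hv, hQv⟩
      exact ⟨⟨v, hv⟩, (hZ _).mpr fun _ => hQv, rfl⟩
    · rw [Submodule.finrank_map_subtype_eq]
      have h' : Module.finrank F (rangeOf (e i)) = k := hk.finrank_eq i
      rwa [h'] at hZd
  choose Z hZmem hZd using hz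
  have hinv : ∀ g ∈ H, ∀ w ∈ Z 0 ⊔ Z 1, (g : Matrix ι ι F) *ᵥ w ∈ Z 0 ⊔ Z 1 := by
    intro g hg w hw
    obtain ⟨s, hs⟩ := he.perm g hg
    have hstep : ∀ i, ∀ z ∈ Z i, (g : Matrix ι ι F) *ᵥ z ∈ Z 0 ⊔ Z 1 := by
      intro i z hz
      obtain ⟨hzr, hzQ⟩ := (hZmem i z).mp hz
      have h1 : (g : Matrix ι ι F) *ᵥ z ∈ rangeOf (e (s i)) := by
        rw [← hs i, ← map_rangeOf]
        exact ⟨z, hzr, toLin'_mulVec _ _⟩
      have h2' : (g : Matrix ι ι F) *ᵥ z ∈ Z (s i) := (hZmem _ _).mpr ⟨h1, by rw [app_iso (hH hg), hzQ]⟩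
      rcases Fin.exists_fin_two.mp ⟨s i, rfl⟩ with h | h <;> rw [h] at h2'
      · exact Submodule.mem_sup_left h2'
      · exact Submodule.mem_sup_right h2'
    obtain ⟨a, ha, b, hb, rfl⟩ := Submodule.mem_sup.mp hw
    rw [Matrix.mulVec_add]
    exact Submodule.add_mem _ (hstep 0 a ha) (hstep 1 b hb)
  have hk4 : 4 ≤ k := by omega
  have htop : Z 0 ⊔ Z 1 = ⊤ := eq_top_of_invariant hirr hinv (ne_bot_of_finrank (by
    have h1 := Submodule.finrank_mono (le_sup_left : Z 0 ≤ Z 0 ⊔ Z 1)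
    have h3 := hZd 0
    omega))
  intro i w hw
  have hwm : w ∈ Z 0 ⊔ Z 1 := htop ▸ Submodule.mem_top
  obtain ⟨a, ha, b, hb, rfl⟩ := Submodule.mem_sup.mp hwm
  obtain ⟨ha1, ha2⟩ := (hZmem 0 a).mp ha
  obtain ⟨hb1, hb2⟩ := (hZmem 1 b).mp hb
  have hdis : Disjoint (rangeOf (e 0)) (rangeOf (e 1)) :=
    hk.indep.pairwiseDisjoint (show (0 : Fin 2) ≠ 1 by decide)
  fin_cases i
  · have hb0 : b = 0 := Submodule.disjoint_def.mp hdis b (by
      have := (rangeOf (e 0)).sub_mem hw ha1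
      rwa [add_sub_cancel_left] at this) hb1
    rw [hb0, add_zero, ha2]
  · have ha0 : a = 0 := Submodule.disjoint_def.mp hdis a ha1 (by
      have := (rangeOf (e 1)).sub_mem hw hb1
      rwa [add_sub_cancel_right] at this)
    rw [ha0, zero_add, hb2]

theorem fieldCase_of_extension (hQ : (QuadraticMap.polarBilin Q).Nondegenerate)
    {H : Subgroup (GL ι F)} (hn : 3 ≤ Fintype.card ι) (hnp : ¬ (Fintype.card ι).Prime)
    (hH : H ≤ isometryGroup F ⇑Q) (hirr : ActsIrreducibly (matrixSet H)) (hext : HasExtension H) :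
    FieldCase Q H := by
  classical
  haveI : Nonempty ι := Fintype.card_pos_iff.mp (by omega)
  obtain ⟨G, hF, hG⟩ := exists_polarGram hQ
  have hinvG := invariant_polarGram hG hH
  obtain ⟨r, K, hr, hK, hnorm, hstab, -⟩ := exists_stable_field hF hinvG hext
  have hrdvd := finrank_dvd_of_isFieldSubalgebra hK
  have hrlt : r < Fintype.card ι := lt_of_le_of_ne (Nat.le_of_dvd (by omega) hrdvd) fun h => hnp (h ▸ hr)
  refine ⟨r, K, hr, hrdvd, hK, hnorm, ?_⟩
  set A := adjM (RingEquiv.refl F) G with hA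
  have hadj : ∀ (k : Matrix ι ι F) u v, polar ⇑Q (k *ᵥ u) v = polar ⇑Q u (A k *ᵥ v) := fun k u v => by
    rw [hG, hG, formM_adjM (fun _ => rfl)]
  -- conjugates
  have hconj : ∀ g ∈ H, ∀ k ∈ K, ∃ k' ∈ K, k' = conjM g⁻¹ k ∧
      ∀ v, k *ᵥ ((g : Matrix ι ι F) *ᵥ v) = (g : Matrix ι ι F) *ᵥ (k' *ᵥ v) := by
    intro g hg k hk
    refine ⟨conjM g⁻¹ k, ?_, rfl, fun v => ?_⟩
    · rw [conjM_apply]
      exact (hnorm (H.inv_mem hg) k).mp hk
    · rw [conjM_apply, inv_inv, Matrix.mulVec_mulVec, Matrix.mulVec_mulVec, ← mul_assoc, ← mul_assoc,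
        Units.mul_inv, one_mul]
  let bK := Module.finBasisOfFinrankEq F K (show Module.finrank F K = r from hK.finrank_eq)
  by_cases hall : ∀ x ∈ K, A x = x
  · refine Or.inl ⟨fun k hk u v => by rw [hadj, hall k hk], fun k hk v h2 => ?_⟩
    obtain ⟨Z, hZ, hZd⟩ := exists_common_zero h2 (fun (i : Fin r) (v : ι → F) => polar ⇑Q ((bK i : Matrix ι ι F) *ᵥ v) v)
      (fun i u v => by
        simp only [Matrix.mulVec_add, polar_add_left, polar_add_right]
        rw [hadj _ v u, hall _ (bK i).2, polar_comm _ v]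
        linear_combination (polar ⇑Q ((bK i : Matrix ι ι F) *ᵥ u) v) * h2)
      (fun i c v => by simp only [Matrix.mulVec_smul, polar_smul_left, polar_smul_right, smul_eq_mul]; ring)
    rw [Module.finrank_fintype_fun_eq_card] at hZd
    have hcomb : ∀ v ∈ Z, ∀ k ∈ K, polar ⇑Q (k *ᵥ v) v = 0 := by
      intro v hv k hk
      have hrep := congrArg Subtype.val (bK.sum_repr ⟨k, hk⟩)
      simp only [AddSubmonoidClass.coe_finsetSum, SetLike.val_smul] at hrep
      rw [← hrep, Matrix.sum_mulVec, ← QuadraticMap.polarBilin_apply_apply, map_sum, LinearMap.sum_apply]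
      refine Finset.sum_eq_zero fun i _ => ?_
      rw [QuadraticMap.polarBilin_apply_apply, Matrix.smul_mulVec, polar_smul_left, (hZ v).mp hv i, smul_zero]
    have hZtop : Z = ⊤ := by
      refine eq_top_of_invariant hirr (fun g hg v hv => (hZ _).mpr fun i => ?_) (ne_bot_of_finrank (by omega))
      obtain ⟨k', hk', -, hk'v⟩ := hconj g hg _ (bK i).2
      rw [hk'v, polar_iso (hH hg)]
      exact hcomb v hv k' hk'
    exact hcomb v (hZtop ▸ Submodule.mem_top) k hk
  push Not at hall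
  obtain ⟨x, hxK, hx⟩ := hall
  obtain ⟨hr2, hfix⟩ := stable_field_bilinear hF hr hK hstab hxK hx
  subst hr2
  have hnsa : ¬ IsSelfAdjointFor (polar ⇑Q) K := by
    intro hsa
    exact hx (eq_adjM (σ := RingEquiv.refl F) (G := G) (fun _ => rfl) fun u v => by
      rw [← hG, ← hG]; exact hsa x hxK u v).symm
  refine Or.inr ⟨rfl, fun k hk => ⟨A k, (hstab k).mpr hk, hadj k⟩, hnsa, fun k hk => ?_⟩
  have hnorm_val : ∀ k ∈ K, ∃ c : F, A k * k = c • 1 := fun k hk =>
    hfix _ (K.mul_mem ((hstab k).mpr hk) hk) (by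
      show A (A k * k) = A k * k
      rw [hA, adjM_mul, adjM_adjM hF])
  have hBk : ∀ k c, A k * k = c • 1 → ∀ u v, polar ⇑Q (k *ᵥ u) (k *ᵥ v) = c * polar ⇑Q u v := by
    intro k c hc u v
    rw [hadj, Matrix.mulVec_mulVec, hc, Matrix.smul_mulVec, Matrix.one_mulVec, polar_smul_right, smul_eq_mul]
  obtain ⟨c, hc⟩ := hnorm_val k hk
  refine ⟨c, ?_⟩
  by_cases h2 : (2 : F) = 0
  swap
  · intro v
    rw [eq_half_polar h2, hBk k c hc, eq_half_polar h2 v]
    ring
  -- two basis vectors of the field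
  obtain ⟨θ, hθ, hspan⟩ : ∃ θ ∈ K, ∀ k ∈ K, ∃ a b : F, k = a • 1 + b • θ := by
    have h1 : ∀ c : F, x ≠ c • 1 := fun c hc => hx (by rw [hc, hA, adjM_smul_one]; rfl)
    have hli : LinearIndependent F ![(1 : K), ⟨x, hxK⟩] := by
      refine (LinearIndependent.pair_iff' one_ne_zero).mpr fun c hc => ?_
      exact h1 c (congrArg Subtype.val hc).symm
    refine ⟨x, hxK, fun k hk => ?_⟩
    have hmem : (⟨k, hk⟩ : K) ∈ Submodule.span F (Set.range ![(1 : K), ⟨x, hxK⟩]) := by
      rw [hli.span_eq_top_of_card_eq_finrank (by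
        rw [Fintype.card_fin]; exact hK.finrank_eq.symm)]
      trivial
    obtain ⟨f, hf⟩ := (Submodule.mem_span_range_iff_exists_fun F).mp hmem
    rw [Fin.sum_univ_two] at hf
    exact ⟨f 0, f 1, (congrArg Subtype.val hf).symm⟩
  obtain ⟨cθ, hcθ⟩ := hnorm_val θ hθ
  obtain ⟨τ, hτ⟩ : ∃ τ : F, θ + A θ = τ • 1 := hfix _ (K.add_mem hθ ((hstab θ).mpr hθ)) (by
    show A (θ + A θ) = θ + A θ
    rw [hA, adjM_add, adjM_adjM hF, add_comm])
  have hτv : ∀ u v, polar ⇑Q u (θ *ᵥ v) + polar ⇑Q v (θ *ᵥ u) = τ * polar ⇑Q u v := by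
    intro u v
    rw [polar_comm (⇑Q) v, hadj, ← polar_add_right, ← Matrix.add_mulVec, hτ, Matrix.smul_mulVec, Matrix.one_mulVec,
      polar_smul_right, smul_eq_mul]
  obtain ⟨Z, hZ, hZd⟩ := exists_common_zero h2
    (fun (i : Fin 2) (v : ι → F) => ![Q (θ *ᵥ v) - cθ * Q v, polar ⇑Q v (θ *ᵥ v) - τ * Q v] i)
    (fun i u v => by
      fin_cases i
      · simp only [Matrix.cons_val_zero, Fin.zero_eta, Fin.isValue, Matrix.mulVec_add]
        rw [QuadraticMap.map_add (⇑Q), QuadraticMap.map_add (⇑Q) u, hBk θ cθ hcθ]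
        ring
      · simp only [Matrix.cons_val_one, Fin.mk_one, Fin.isValue, Matrix.cons_val_fin_one, Matrix.mulVec_add,
          polar_add_left, polar_add_right]
        rw [QuadraticMap.map_add (⇑Q) u]
        linear_combination hτv u v)
    (fun i c v => by
      fin_cases i <;>
        simp [Matrix.mulVec_smul, QuadraticMap.map_smul, polar_smul_left, polar_smul_right] <;> ring)
  rw [Module.finrank_fintype_fun_eq_card] at hZd
  -- on `Z` every element of the field is a similitude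
  have hsimZ : ∀ v ∈ Z, ∀ k ∈ K, ∀ c, A k * k = c • 1 → Q (k *ᵥ v) = c * Q v := by
    intro v hv k hk c hc
    have e1 : Q (θ *ᵥ v) - cθ * Q v = 0 := by simpa using (hZ v).mp hv 0
    have e2 : polar ⇑Q v (θ *ᵥ v) - τ * Q v = 0 := by simpa using (hZ v).mp hv 1
    obtain ⟨a, b, rfl⟩ := hspan k hk
    have hc' : (a * a + a * b * τ + b * b * cθ) • (1 : Matrix ι ι F) = c • 1 := by
      rw [← hc, hA, adjM_add, adjM_smul, adjM_smul, adjM_one, RingEquiv.refl_apply, RingEquiv.refl_apply, ← hA]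
      simp only [add_mul, mul_add, Matrix.smul_mul, Matrix.mul_smul, one_mul, mul_one, hcθ]
      rw [show A θ = τ • 1 - θ from eq_sub_of_add_eq' hτ]
      module
    have hcv : a * a + a * b * τ + b * b * cθ = c := by
      have := congrFun (congrFun hc' (Classical.arbitrary ι)) (Classical.arbitrary ι)
      simpa using this
    rw [Matrix.add_mulVec, Matrix.smul_mulVec, Matrix.smul_mulVec, Matrix.one_mulVec, QuadraticMap.map_add (⇑Q),
      QuadraticMap.map_smul, QuadraticMap.map_smul, polar_smul_left, polar_smul_right, ← hcv, smul_eq_mul,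
      smul_eq_mul, smul_eq_mul, smul_eq_mul]
    linear_combination (b * b) * e1 + (a * b) * e2
  have hZtop : Z = ⊤ := by
    refine eq_top_of_invariant hirr (fun g hg v hv => (hZ _).mpr ?_) (ne_bot_of_finrank (by omega))
    have hgood : ∀ k ∈ K, ∀ c, A k * k = c • 1 →
        Q (k *ᵥ ((g : Matrix ι ι F) *ᵥ v)) = c * Q ((g : Matrix ι ι F) *ᵥ v) := by
      intro k hk c hc
      obtain ⟨k', hk', hk'eq, hk'v⟩ := hconj g hg k hk
      have hc' : A k' * k' = c • 1 := by
        rw [hk'eq, hA, adjM_conjM (fun _ => rfl) hinvG (H.inv_mem hg), ← map_mul, ← hA, hc, map_smul, map_one]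
      rw [hk'v, app_iso (hH hg), app_iso (hH hg), hsimZ v hv k' hk' c hc']
    have e1 := hgood θ hθ cθ hcθ
    obtain ⟨c₁, hc₁⟩ := hnorm_val (1 + θ) (K.add_mem K.one_mem hθ)
    have e2 := hgood (1 + θ) (K.add_mem K.one_mem hθ) c₁ hc₁
    have hc₁v : 1 + τ + cθ = c₁ := by
      have hc' : (1 + τ + cθ) • (1 : Matrix ι ι F) = c₁ • 1 := by
        rw [← hc₁, hA, adjM_add, adjM_one, ← hA]
        simp only [add_mul, mul_add, one_mul, mul_one, hcθ]
        rw [show A θ = τ • 1 - θ from eq_sub_of_add_eq' hτ]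
        module
      have := congrFun (congrFun hc' (Classical.arbitrary ι)) (Classical.arbitrary ι)
      simpa using this
    rw [Matrix.add_mulVec, Matrix.one_mulVec, QuadraticMap.map_add (⇑Q)] at e2
    intro i
    fin_cases i
    · simp only [Matrix.cons_val_zero, Fin.zero_eta, Fin.isValue]
      linear_combination e1
    · simp only [Matrix.cons_val_one, Fin.mk_one, Fin.isValue, Matrix.cons_val_fin_one]
      linear_combination e2 - e1 - (Q ((g : Matrix ι ι F) *ᵥ v)) * hc₁v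
  exact fun v => hsimZ v (hZtop ▸ Submodule.mem_top) k hk c hc

end Cfsg.Agent.Lib.MaxClass.OrthEven
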