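import Mathlib
import Cfsg.Prelude.Def_GeometricClasses
import Cfsg.Agent.Lib.MaxClass.OrthEven.Basics
import Cfsg.Agent.Lib.MaxClass.SympTensorPlus
import Cfsg.Agent.Lib.SingMax.NonDegMain

/-!
Groups of isometries of an even-dimensional quadratic space preserving a tensor decomposition, or
normalising a group of symplectic type, in every characteristic.
-/

set_option autoImplicit false
set_option linter.style.haveILetI false
set_option linter.unusedSectionVars false

namespace Cfsg.Agent.Lib.MaxClass.OrthEven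

open Cfsg Cfsg.Geo Matrix QuadraticMap
open scoped Kronecker
open Cfsg.Agent.Lib.Aschbacher Cfsg.Agent.Lib.MaxClass
open Cfsg.Agent.Lib.MaxClass.SympTensorPlus (jTwo transpose_mul_jTwo_mul)

set_option maxHeartbeats 1000000

variable {ι : Type} [Fintype ι] [DecidableEq ι] {F : Type*} [Field F] [Fintype F] {Q : QuadraticForm F (ι → F)}

/-- The vector of a frame with given coordinates. -/
def frameVec {κ : Type} (e : ι ≃ κ) (B : GL ι F) (w : κ → F) : ι → F := (B : Matrix ι ι F) *ᵥ (w ∘ e)

theorem frameVec_add {κ : Type} (e : ι ≃ κ) (B : GL ι F) (v w : κ → F) :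
    frameVec e B (v + w) = frameVec e B v + frameVec e B w := by
  rw [frameVec, frameVec, frameVec, ← Matrix.mulVec_add]
  rfl

theorem frameVec_smul {κ : Type} (e : ι ≃ κ) (B : GL ι F) (c : F) (w : κ → F) :
    frameVec e B (c • w) = c • frameVec e B w := by
  rw [frameVec, frameVec, ← Matrix.mulVec_smul]
  rfl

theorem frameVec_zero {κ : Type} (e : ι ≃ κ) (B : GL ι F) : frameVec e B (0 : κ → F) = 0 := by
  rw [frameVec, show (0 : κ → F) ∘ e = 0 from rfl, Matrix.mulVec_zero]

theorem frameVec_injective {κ : Type} (e : ι ≃ κ) (B : GL ι F) : Function.Injective (frameVec e B) := by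
  intro v w h
  have h' := congrArg (fun u => ((B⁻¹ : GL ι F) : Matrix ι ι F) *ᵥ u) h
  simp only [frameVec, inv_mulVec_cancel] at h'
  funext a
  simpa using congrFun h' (e.symm a)

theorem framed_frameVec {κ : Type} [Fintype κ] [DecidableEq κ] (e : ι ≃ κ) (B : GL ι F) (k : Matrix κ κ F)
    (w : κ → F) : framed e B k *ᵥ frameVec e B w = frameVec e B (k *ᵥ w) := by
  rw [framed_apply, frameVec, frameVec, Matrix.mulVec_mulVec, mul_assoc, Units.inv_mul, mul_one,
    ← Matrix.mulVec_mulVec]
  congr 1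
  funext i
  simp only [Matrix.mulVec, dotProduct, Matrix.submatrix_apply, Function.comp_apply]
  exact Equiv.sum_comp e (fun a => k (e i) a * w a)

/-- The pure tensor of two vectors. -/
def pure2 {d m : ℕ} (x : Fin d → F) (y : Fin m → F) : Fin d × Fin m → F := fun p => x p.1 * y p.2

theorem kronecker_pure2 {d m : ℕ} (a : Matrix (Fin d) (Fin d) F) (b : Matrix (Fin m) (Fin m) F)
    (x : Fin d → F) (y : Fin m → F) : (a ⊗ₖ b) *ᵥ pure2 x y = pure2 (a *ᵥ x) (b *ᵥ y) := by
  funext p
  simp only [Matrix.mulVec, dotProduct, pure2, kroneckerMap_apply, Fintype.sum_prod_type, Finset.sum_mul_sum]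
  exact Finset.sum_congr rfl fun _ _ => Finset.sum_congr rfl fun _ _ => by ring

theorem polar_frame {G : GL ι F} (hG : ∀ u v, polar ⇑Q u v = formM (RingEquiv.refl F) (G : Matrix ι ι F) u v)
    {κ : Type} [Fintype κ] [DecidableEq κ] (e : ι ≃ κ) (B : GL ι F) (v w : κ → F) :
    polar ⇑Q (frameVec e B v) (frameVec e B w) = formM (RingEquiv.refl F) (gramIn (RingEquiv.refl F) G e B) v w := by
  rw [hG]
  exact formM_frame _ _ _ _ _ _

theorem formM_pure2 {d m : ℕ} (G₁ : Matrix (Fin d) (Fin d) F) (G₂ : Matrix (Fin m) (Fin m) F)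
    (x x' : Fin d → F) (y y' : Fin m → F) :
    formM (RingEquiv.refl F) (G₁ ⊗ₖ G₂) (pure2 x y) (pure2 x' y') =
      formM (RingEquiv.refl F) G₁ x x' * formM (RingEquiv.refl F) G₂ y y' := by
  simp only [formM, RingEquiv.refl_apply]
  rw [kronecker_pure2]
  simp only [dotProduct, pure2, Fintype.sum_prod_type, Finset.sum_mul_sum]
  exact Finset.sum_congr rfl fun _ _ => Finset.sum_congr rfl fun _ _ => by ring

/-- A form on `F^n` vanishing on all `(v, v)` over a field with two equal to zero. -/
theorem alternating_left_of_irreducible (h2 : (2 : F) = 0) {H : Subgroup (GL ι F)}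
    (hirr : ActsIrreducibly (matrixSet H)) {G : GL ι F} (hinv : Invariant (RingEquiv.refl F) H (G : Matrix ι ι F))
    {d m : ℕ} (hd : 2 ≤ d) (hm : 0 < m) {e : ι ≃ Fin d × Fin m} {B : GL ι F} {G₁ : GL (Fin d) F}
    {G₂ : GL (Fin m) F}
    (hA : gramIn (RingEquiv.refl F) G e B = (G₁ : Matrix (Fin d) (Fin d) F) ⊗ₖ (G₂ : Matrix (Fin m) (Fin m) F))
    (hsym : (G₁ : Matrix (Fin d) (Fin d) F)ᵀ = (G₁ : Matrix (Fin d) (Fin d) F))
    (hle : H ≤ tensorProductSubgroup d m e B) :
    ∀ x, formM (RingEquiv.refl F) (G₁ : Matrix (Fin d) (Fin d) F) x x = 0 := by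
  haveI : Nonempty (Fin d) := ⟨⟨0, by omega⟩⟩
  haveI : Nonempty (Fin m) := ⟨⟨0, hm⟩⟩
  set f := formM (RingEquiv.refl F) (G₁ : Matrix (Fin d) (Fin d) F) with hf
  have hfs : ∀ u v, f u v = f v u := fun u v => by rw [hf, ← formM_transpose, hsym]
  obtain ⟨R, hR, hRd⟩ := exists_common_zero h2 (fun (_ : Fin 1) x => f x x)
    (fun _ u v => by
      show f (u + v) (u + v) = f u u + f v v
      rw [hf, formM_add_left, formM_add_right, formM_add_right, ← hf, hfs v u]
      linear_combination (f u v) * h2)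
    (fun _ c v => by
      show f (c • v) (c • v) = c ^ 2 * f v v
      rw [hf, formM_smul_left, formM_smul_right, RingEquiv.refl_apply, pow_two, mul_assoc])
  rw [Module.finrank_fintype_fun_eq_card, Fintype.card_fin] at hRd
  intro x
  by_contra hx
  have hxR : x ∉ R := fun h => hx ((hR x).mp h 0)
  -- vectors all of whose columns lie in `R`
  let W : Submodule F (ι → F) :=
    { carrier := {v | ∀ j, (fun i => ((((B⁻¹ : GL ι F) : Matrix ι ι F) *ᵥ v) ∘ e.symm) (i, j)) ∈ R}
      zero_mem' := fun j => by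
        convert R.zero_mem using 1
        funext i
        simp
      add_mem' := fun {a b} ha hb j => by
        convert R.add_mem (ha j) (hb j) using 1
        funext i
        simp [Matrix.mulVec_add]
      smul_mem' := fun c a ha j => by
        convert R.smul_mem c (ha j) using 1
        funext i
        simp [Matrix.mulVec_smul] }
  have hcoord : ∀ w, ((((B⁻¹ : GL ι F) : Matrix ι ι F) *ᵥ frameVec e B w) ∘ e.symm) = w := fun w => by
    funext a
    simp [frameVec]
  have hinvW : ∀ g ∈ H, ∀ w ∈ W, (g : Matrix ι ι F) *ᵥ w ∈ W := by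
    intro g hg w hw j
    obtain ⟨a, b, c, hc, hval, ha, -⟩ := exists_similitudes hA (hle hg) (hinv g hg)
    rw [twist_refl] at ha
    rw [hval, frame_mulVec]
    set u := (((B⁻¹ : GL ι F) : Matrix ι ι F) *ᵥ w) ∘ e.symm with hu
    have hsum : (fun i => (((a : Matrix (Fin d) (Fin d) F) ⊗ₖ (b : Matrix (Fin m) (Fin m) F)) *ᵥ u) (i, j)) =
        ∑ l, (b : Matrix (Fin m) (Fin m) F) j l • ((a : Matrix (Fin d) (Fin d) F) *ᵥ fun i => u (i, l)) := by
      funext i
      simp only [Matrix.mulVec, dotProduct, Finset.sum_apply, Pi.smul_apply, smul_eq_mul, kroneckerMap_apply,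
        Fintype.sum_prod_type, Finset.mul_sum]
      rw [Finset.sum_comm]
      exact Finset.sum_congr rfl fun _ _ => Finset.sum_congr rfl fun _ _ => by ring
    rw [hsum]
    refine R.sum_mem fun l _ => R.smul_mem _ ((hR _).mpr fun _ => ?_)
    show f _ _ = 0
    rw [hf, formM_mulVec, twist_refl, ha, formM_smul, ← hf, (hR _).mp (hw l) 0, mul_zero]
  obtain ⟨r, hrR, hr0⟩ := R.ne_bot_iff.mp (fun h => by rw [h, finrank_bot] at hRd; omega)
  let j₀ : Fin m := ⟨0, hm⟩
  have hr_mem : frameVec e B (pure2 r (Pi.single j₀ 1)) ∈ W := fun j => by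
    rw [hcoord]
    have := R.smul_mem ((Pi.single j₀ (1 : F) : Fin m → F) j) hrR
    convert this using 1
    funext i
    simp [pure2, mul_comm]
  have hW : W = ⊤ := by
    refine eq_top_of_invariant hirr hinvW fun h => ?_
    rw [h, Submodule.mem_bot, ← frameVec_zero e B] at hr_mem
    obtain ⟨i, hi⟩ := Function.ne_iff.mp hr0
    have := congrFun (frameVec_injective e B hr_mem) (i, j₀)
    simp [pure2] at this
    exact hi this
  have hxmem : frameVec e B (pure2 x (Pi.single j₀ 1)) ∈ W := hW ▸ Submodule.mem_top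
  have := hxmem j₀
  rw [hcoord] at this
  exact hxR (by simpa [pure2] using this)

/-- The tensor product case: two alternating factors with the form vanishing on pure tensors, or two
symmetric factors in odd characteristic. -/
def TensorCase (Q : QuadraticForm F (ι → F)) (H : Subgroup (GL ι F)) : Prop :=
  ∃ (d m : ℕ) (e : ι ≃ Fin d × Fin m) (B : GL ι F) (G₁ : GL (Fin d) F) (G₂ : GL (Fin m) F), 2 ≤ d ∧ 2 ≤ m ∧
    H ≤ tensorProductSubgroup d m e B ∧
    (∀ G : GL ι F, (∀ u v, polar ⇑Q u v = formM (RingEquiv.refl F) (G : Matrix ι ι F) u v) →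
      gramIn (RingEquiv.refl F) G e B = (G₁ : Matrix (Fin d) (Fin d) F) ⊗ₖ (G₂ : Matrix (Fin m) (Fin m) F)) ∧
    IsTensorFormStructure id (polar ⇑Q) (formM (RingEquiv.refl F) (G₁ : Matrix (Fin d) (Fin d) F))
      (formM (RingEquiv.refl F) (G₂ : Matrix (Fin m) (Fin m) F)) e B ∧
    ((IsSymplecticForm (formM (RingEquiv.refl F) (G₁ : Matrix (Fin d) (Fin d) F)) ∧
        IsSymplecticForm (formM (RingEquiv.refl F) (G₂ : Matrix (Fin m) (Fin m) F)) ∧
        ∀ x y, Q (frameVec e B (pure2 x y)) = 0) ∨
      (Odd (Fintype.card F) ∧ IsSymmetricForm (formM (RingEquiv.refl F) (G₁ : Matrix (Fin d) (Fin d) F)) ∧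
        IsSymmetricForm (formM (RingEquiv.refl F) (G₂ : Matrix (Fin m) (Fin m) F))))

theorem two_eq_zero_or_odd : (2 : F) = 0 ∨ ((2 : F) ≠ 0 ∧ Odd (Fintype.card F)) := by
  by_cases h2 : (2 : F) = 0
  · exact Or.inl h2
  · refine Or.inr ⟨h2, ?_⟩
    by_contra h
    haveI := Forms.charP_two_of_not_odd (F := F) h
    exact h2 (CharTwo.two_eq_zero)

theorem tensorCase_of_tensor (hQ : (QuadraticMap.polarBilin Q).Nondegenerate) {H : Subgroup (GL ι F)}
    (hH : H ≤ isometryGroup F ⇑Q) (hirr : ActsIrreducibly (matrixSet H)) (ht : HasTensor H) : TensorCase Q H := by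
  classical
  obtain ⟨G, hF, hG⟩ := exists_polarGram hQ
  have hinv := invariant_polarGram hG hH
  obtain ⟨N, d, m, e, B, hNH, -, hd, hm, hmem, hle⟩ := ht
  obtain ⟨G₁, G₂, c₁, c₂, Nd, hA, hcc, hc1, h1, h2', -, -⟩ :=
    exists_tensor_gram hF (by omega) (by omega) e B hmem (hinv.mono hNH)
  rw [RingEquiv.refl_apply] at hc1
  rw [twist_refl] at h1 h2'
  have hGall : ∀ G' : GL ι F, (∀ u v, polar ⇑Q u v = formM (RingEquiv.refl F) (G' : Matrix ι ι F) u v) →
      gramIn (RingEquiv.refl F) G' e B = (G₁ : Matrix (Fin d) (Fin d) F) ⊗ₖ (G₂ : Matrix (Fin m) (Fin m) F) := by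
    intro G' hG'
    have : G' = G := Units.ext (formM_injective (RingEquiv.refl F) fun u v => by rw [← hG', hG])
    rw [this, hA]
  have hstr : IsTensorFormStructure id (polar ⇑Q) (formM (RingEquiv.refl F) (G₁ : Matrix (Fin d) (Fin d) F))
      (formM (RingEquiv.refl F) (G₂ : Matrix (Fin m) (Fin m) F)) e B := by
    rw [show polar ⇑Q = formM (RingEquiv.refl F) (G : Matrix ι ι F) from funext fun u => funext (hG u),
      show (id : F → F) = ⇑(RingEquiv.refl F) from rfl]
    exact tensorFormStructure_of_gram one_ne_zero (by rw [one_smul]; exact hA)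
  refine ⟨d, m, e, B, G₁, G₂, hd, hm, hle, hGall, hstr, ?_⟩
  have hsymF : ∀ {n : ℕ} (A : GL (Fin n) F), (A : Matrix (Fin n) (Fin n) F)ᵀ = (A : Matrix (Fin n) (Fin n) F) →
      IsSymmetricForm (formM (RingEquiv.refl F) (A : Matrix (Fin n) (Fin n) F)) := fun A hA' =>
    ⟨isBilinearForm_formM _, fun u v => by rw [← formM_transpose (A : Matrix _ _ F) v u, hA'],
      nondegenerate_formM _ A⟩
  -- alternating factors
  have halt : ((G₁ : Matrix (Fin d) (Fin d) F)ᵀ = -(G₁ : Matrix (Fin d) (Fin d) F) ∧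
      ∀ x, formM (RingEquiv.refl F) (G₁ : Matrix (Fin d) (Fin d) F) x x = 0) →
      ((G₂ : Matrix (Fin m) (Fin m) F)ᵀ = -(G₂ : Matrix (Fin m) (Fin m) F) ∧
      ∀ y, formM (RingEquiv.refl F) (G₂ : Matrix (Fin m) (Fin m) F) y y = 0) →
      IsSymplecticForm (formM (RingEquiv.refl F) (G₁ : Matrix (Fin d) (Fin d) F)) ∧
        IsSymplecticForm (formM (RingEquiv.refl F) (G₂ : Matrix (Fin m) (Fin m) F)) ∧
        ∀ x y, Q (frameVec e B (pure2 x y)) = 0 := by
    rintro ⟨t1, a1⟩ ⟨t2, a2⟩
    refine ⟨isSymplecticForm_formM G₁ t1 a1, isSymplecticForm_formM G₂ t2 a2, fun x y => ?_⟩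
    have hpol : ∀ x x' : Fin d → F, polar ⇑Q (frameVec e B (pure2 x y)) (frameVec e B (pure2 x' y)) = 0 := by
      intro x x'
      rw [polar_frame hG, hA, formM_pure2, a2, mul_zero]
    rcases two_eq_zero_or_odd (F := F) with h2 | ⟨h2, -⟩
    swap
    · rw [eq_half_polar h2, hpol, mul_zero]
    obtain ⟨Z, hZ, hZd⟩ := exists_common_zero h2 (fun (_ : Fin 1) x => Q (frameVec e B (pure2 x y)))
      (fun _ u v => by
        show Q _ = Q _ + Q _
        rw [show pure2 (u + v) y = pure2 u y + pure2 v y from funext fun p => add_mul _ _ _, frameVec_add,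
          QuadraticMap.map_add (⇑Q), hpol, add_zero])
      (fun _ c v => by
        show Q _ = c ^ 2 * Q _
        rw [show pure2 (c • v) y = c • pure2 v y from funext fun p => mul_assoc _ _ _, frameVec_smul,
          QuadraticMap.map_smul, smul_eq_mul, pow_two])
    rw [Module.finrank_fintype_fun_eq_card, Fintype.card_fin] at hZd
    -- `Z` is invariant under every matrix of the first factor
    let T : Submodule F (ι → F) :=
      { carrier := {v | ∃ z ∈ Z, v = frameVec e B (pure2 z y)}
        zero_mem' := ⟨0, Z.zero_mem, by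
          rw [show pure2 (0 : Fin d → F) y = 0 from funext fun p => zero_mul _, frameVec_zero]⟩
        add_mem' := fun {a b} ⟨z, hz, ha⟩ ⟨z', hz', hb⟩ => ⟨z + z', Z.add_mem hz hz', by
          rw [show pure2 (z + z') y = pure2 z y + pure2 z' y from funext fun p => add_mul _ _ _, frameVec_add,
            ha, hb]⟩
        smul_mem' := fun c a ⟨z, hz, ha⟩ => ⟨c • z, Z.smul_mem c hz, by
          rw [show pure2 (c • z) y = c • pure2 z y from funext fun p => mul_assoc _ _ _, frameVec_smul, ha]⟩ }
    have hXT : ∀ X ∈ spanAlg N, ∀ v ∈ T, X *ᵥ v ∈ T := by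
      intro X hX v hv
      rw [← Subalgebra.mem_toSubmodule, spanAlg_toSubmodule] at hX
      induction hX using Submodule.span_induction with
      | mem X hX =>
        obtain ⟨g, hg, rfl⟩ := hX
        obtain ⟨a, ha⟩ := (hmem _).mp (coe_mem_spanAlg hg)
        obtain ⟨z, hz, rfl⟩ := hv
        refine ⟨a *ᵥ z, (hZ _).mpr fun _ => ?_, ?_⟩
        · show Q _ = 0
          have h := app_iso (hH (hNH hg)) (frameVec e B (pure2 z y))
          rw [ha, framed_frameVec, kronecker_pure2, Matrix.one_mulVec, (hZ z).mp hz 0] at h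
          exact h
        · show (g : Matrix ι ι F) *ᵥ frameVec e B (pure2 z y) = _
          rw [ha, framed_frameVec, kronecker_pure2, Matrix.one_mulVec]
      | zero => rw [Matrix.zero_mulVec]; exact T.zero_mem
      | add X Y _ _ hx hy => rw [Matrix.add_mulVec]; exact T.add_mem hx hy
      | smul c X _ hx => rw [Matrix.smul_mulVec]; exact T.smul_mem c hx
    obtain ⟨r, hr, hr0⟩ := Z.ne_bot_iff.mp (fun h => by rw [h, finrank_bot] at hZd; omega)
    by_cases hy : y = 0
    · rw [hy, show pure2 x (0 : Fin m → F) = 0 from funext fun p => mul_zero _, frameVec_zero, map_zero]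
    obtain ⟨i, hi⟩ := Function.ne_iff.mp hr0
    set a := Matrix.vecMulVec x (Pi.single i (r i)⁻¹) with ha
    have har : a *ᵥ r = x := by
      rw [ha, Matrix.vecMulVec_mulVec, single_dotProduct, inv_mul_cancel₀ hi, MulOpposite.op_one, one_smul]
    obtain ⟨z, hz, hzv⟩ := hXT _ ((hmem _).mpr ⟨a, rfl⟩) (frameVec e B (pure2 r y)) ⟨r, hr, rfl⟩
    rw [framed_frameVec, kronecker_pure2, Matrix.one_mulVec, har] at hzv
    rw [hzv]
    exact (hZ z).mp hz 0
  rcases two_eq_zero_or_odd (F := F) with h2 | ⟨h2, hodd⟩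
  · have hneg : (-1 : F) = 1 := by linear_combination -h2
    have hc : c₁ = 1 := by
      rcases mul_self_eq_one_iff.mp hc1 with h | h
      · exact h
      · rw [h, hneg]
    subst hc
    rw [one_mul] at hcc
    subst hcc
    rw [one_smul] at h1 h2'
    have a1 := alternating_left_of_irreducible h2 hirr hinv hd (by omega) hA h1 hle
    have a2 := alternating_left_of_irreducible h2 hirr hinv hm (by omega) (gramIn_swap hA) h2'
      (hle.trans (tensorProduct_le_swap e B))
    exact Or.inl (halt ⟨by rw [h1, ← neg_one_smul F, hneg, one_smul], a1⟩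
      ⟨by rw [h2', ← neg_one_smul F, hneg, one_smul], a2⟩)
  · rcases mul_self_eq_one_iff.mp hc1 with h | h
    · subst h
      rw [one_mul] at hcc
      subst hcc
      rw [one_smul] at h1 h2'
      exact Or.inr ⟨hodd, hsymF G₁ h1, hsymF G₂ h2'⟩
    · subst h
      have hc2 : c₂ = -1 := by linear_combination -hcc
      subst hc2
      rw [neg_one_smul] at h1 h2'
      have hzero : ∀ {n : ℕ} (A : GL (Fin n) F), (A : Matrix (Fin n) (Fin n) F)ᵀ = -(A : Matrix (Fin n) (Fin n) F) →
          ∀ v, formM (RingEquiv.refl F) (A : Matrix (Fin n) (Fin n) F) v v = 0 := by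
        intro n A hA' v
        have h := formM_transpose (A : Matrix (Fin n) (Fin n) F) v v
        rw [hA', ← neg_one_smul F (A : Matrix (Fin n) (Fin n) F), formM_smul] at h
        exact (mul_eq_zero.mp (by linear_combination -h :
          (2 : F) * formM (RingEquiv.refl F) (A : Matrix (Fin n) (Fin n) F) v v = 0)).resolve_left h2
      exact Or.inl (halt ⟨h1, hzero G₁ h1⟩ ⟨h2', hzero G₂ h2'⟩)

theorem pow_eq_cases {r k : ℕ} (hr : 2 ≤ r) (hk : 1 ≤ k) {n : ℕ} (hn : n = 8 ∨ n = 10 ∨ n = 12)
    (h : n = r ^ k) : (n = 8 ∧ r = 2 ∧ k = 3) ∨ (k = 1 ∧ r = n) := by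
  have hk4 : k < 4 := by
    by_contra hc
    have h1 : 2 ^ 4 ≤ r ^ k := (Nat.pow_le_pow_right (by norm_num) (not_lt.mp hc)).trans (Nat.pow_le_pow_left hr k)
    omega
  have hr4 : k ≠ 1 → r ≤ 3 := by
    intro hk1
    by_contra hc
    have h1 : 4 ^ 2 ≤ r ^ k := (Nat.pow_le_pow_right (by norm_num) (show 2 ≤ k by omega)).trans
      (Nat.pow_le_pow_left (show 4 ≤ r by omega) k)
    omega
  rcases eq_or_ne k 1 with rfl | hk1
  · right; exact ⟨rfl, by rw [pow_one] at h; omega⟩
  left
  have := hr4 hk1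
  interval_cases k
  · exact absurd rfl hk1
  · interval_cases r <;> omega
  · interval_cases r <;> omega

/-- In dimension eight, and only there, a group of symplectic type occurs, for a form of plus type. -/
theorem plus_of_symplecticCore (hQ : (QuadraticMap.polarBilin Q).Nondegenerate)
    (hn : Fintype.card ι = 8 ∨ Fintype.card ι = 10 ∨ Fintype.card ι = 12) {H : Subgroup (GL ι F)}
    (hH : H ≤ isometryGroup F ⇑Q) (hsc : HasSymplecticCore H) :
    Fintype.card ι = 8 ∧ IsPlusTypeOn (⇑Q) ⊤ := by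
  classical
  haveI : Nonempty ι := Fintype.card_pos_iff.mp (by omega)
  obtain ⟨R, r, hRH, -, hR⟩ := hsc
  obtain ⟨k, hk, hnk, hcardR⟩ := hR.card_cases
  rcases pow_eq_cases hR.type.prime.two_le hk hn hnk with ⟨h8, hr, hk3⟩ | ⟨-, hr⟩
  swap
  · exfalso
    have := hR.type.prime
    rw [hr] at this
    rcases hn with h | h | h <;> rw [h] at this <;> norm_num at this
  subst hr hk3
  refine ⟨h8, ?_⟩
  have h2 : (2 : F) ≠ 0 := by exact_mod_cast hR.ne_char
  have hsc1 : ∀ x : GL ι F, x ∈ R → x ∈ scalars ι F → (x : Matrix ι ι F) = 1 ∨ (x : Matrix ι ι F) = -1 := by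
    intro x hx hxs
    obtain ⟨c, hc⟩ := (mem_scalars_iff x).mp hxs
    obtain ⟨v, hv⟩ := Forms.exists_nonsingular hQ (by omega : 0 < Fintype.card ι)
    have h := app_iso (hH (hRH hx)) v
    rw [hc, Matrix.smul_mulVec, Matrix.one_mulVec, QuadraticMap.map_smul, smul_eq_mul] at h
    rcases mul_self_eq_one_iff.mp (mul_right_cancel₀ hv (by rw [h, one_mul])) with h' | h'
    · exact Or.inl (by rw [hc, h', one_smul])
    · exact Or.inr (by rw [hc, h', neg_one_smul])
  have hone : (1 : Matrix ι ι F) ≠ -1 := by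
    intro h
    have := congrFun (congrFun h (Classical.arbitrary ι)) (Classical.arbitrary ι)
    simp only [Matrix.one_apply_eq, Matrix.neg_apply] at this
    exact h2 (by linear_combination this)
  -- commutators are signs
  have hpm : ∀ x ∈ R, ∀ y ∈ R, (x : Matrix ι ι F) * (y : Matrix ι ι F) = (y : Matrix ι ι F) * (x : Matrix ι ι F) ∨
      (x : Matrix ι ι F) * (y : Matrix ι ι F) = -((y : Matrix ι ι F) * (x : Matrix ι ι F)) := by
    intro x hx y hy
    have e : x * y = x * y * x⁻¹ * y⁻¹ * (y * x) := by group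
    have hmem := R.mul_mem (R.mul_mem (R.mul_mem hx hy) (R.inv_mem hx)) (R.inv_mem hy)
    rcases hsc1 _ hmem (hR.comm_scalar x hx y hy) with h | h
    · left
      rw [← Units.val_mul, ← Units.val_mul]
      conv_lhs => rw [e]
      rw [Units.val_mul, h, one_mul]
    · right
      rw [← Units.val_mul, ← Units.val_mul]
      conv_lhs => rw [e]
      rw [Units.val_mul, h, neg_one_mul]
  have hcen : ∀ x : R, (∀ y ∈ R, ((x : GL ι F) : Matrix ι ι F) * (y : Matrix ι ι F) =
      (y : Matrix ι ι F) * ((x : GL ι F) : Matrix ι ι F)) → x ∈ Subgroup.center R := by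
    intro x hx
    exact Subgroup.mem_center_iff.mpr fun y => Subtype.ext (Units.ext (hx y y.2).symm)
  have hsq : ∀ x ∈ R, (x : Matrix ι ι F) * (x : Matrix ι ι F) = 1 ∨ (x : Matrix ι ι F) * (x : Matrix ι ι F) = -1 := by
    intro x hx
    have hz := hcen ⟨x * x, R.mul_mem hx hx⟩ fun y hy => by
      show ((x * x : GL ι F) : Matrix ι ι F) * _ = _ * ((x * x : GL ι F) : Matrix ι ι F)
      rw [Units.val_mul]
      rcases hpm x hx y hy with h | h
      · rw [mul_assoc, h, ← mul_assoc, h, mul_assoc]
      · rw [mul_assoc, h, mul_neg, ← mul_assoc, h, neg_mul, neg_neg, mul_assoc]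
    have h := hsc1 _ (R.mul_mem hx hx) ((hR.center_iff _).mp hz)
    rwa [Units.val_mul] at h
  have hcenpos : 0 < Nat.card (Subgroup.center R) := Nat.card_pos
  -- two elements that do not commute
  obtain ⟨x, y, hx, hy, hxy⟩ : ∃ x y : GL ι F, x ∈ R ∧ y ∈ R ∧
      (x : Matrix ι ι F) * (y : Matrix ι ι F) = -((y : Matrix ι ι F) * (x : Matrix ι ι F)) := by
    by_contra hcon
    push Not at hcon
    have htop : Subgroup.center R = ⊤ := eq_top_iff.mpr fun x _ =>
      hcen x fun y hy => (hpm x x.2 y hy).resolve_right (hcon x y x.2 hy)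
    rw [htop, Subgroup.card_top] at hcardR
    have hRpos : 0 < Nat.card R := Nat.card_pos
    omega
  -- a non-central element commuting with both
  obtain ⟨z, hz, hzs, hzx, hzy⟩ : ∃ z : GL ι F, z ∈ R ∧ z ∉ scalars ι F ∧
      (z : Matrix ι ι F) * (x : Matrix ι ι F) = (x : Matrix ι ι F) * (z : Matrix ι ι F) ∧
      (z : Matrix ι ι F) * (y : Matrix ι ι F) = (y : Matrix ι ι F) * (z : Matrix ι ι F) := by
    let tag : R → Bool × Bool := fun g =>
      (decide (((g : GL ι F) : Matrix ι ι F) * (x : Matrix ι ι F) = (x : Matrix ι ι F) * ((g : GL ι F) : Matrix ι ι F)),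
       decide (((g : GL ι F) : Matrix ι ι F) * (y : Matrix ι ι F) = (y : Matrix ι ι F) * ((g : GL ι F) : Matrix ι ι F)))
    have hkey : ∀ (a b : R) (w : GL ι F), w ∈ R →
        (decide (((a : GL ι F) : Matrix ι ι F) * (w : Matrix ι ι F) = (w : Matrix ι ι F) * ((a : GL ι F) : Matrix ι ι F)) =
          decide (((b : GL ι F) : Matrix ι ι F) * (w : Matrix ι ι F) = (w : Matrix ι ι F) * ((b : GL ι F) : Matrix ι ι F))) →
        ((((b : GL ι F))⁻¹ * (a : GL ι F) : GL ι F) : Matrix ι ι F) * (w : Matrix ι ι F) =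
          (w : Matrix ι ι F) * ((((b : GL ι F))⁻¹ * (a : GL ι F) : GL ι F) : Matrix ι ι F) := by
      intro a b w hw hab
      rw [decide_eq_decide] at hab
      have hflip : ∀ g : GL ι F, ∀ s : F, (g : Matrix ι ι F) * (w : Matrix ι ι F) = s • ((w : Matrix ι ι F) * (g : Matrix ι ι F)) →
          s * s = 1 → ((g⁻¹ : GL ι F) : Matrix ι ι F) * (w : Matrix ι ι F) = s • ((w : Matrix ι ι F) * ((g⁻¹ : GL ι F) : Matrix ι ι F)) := by
        intro g s hgw hss
        have h := congrArg (fun X => ((g⁻¹ : GL ι F) : Matrix ι ι F) * X * ((g⁻¹ : GL ι F) : Matrix ι ι F)) hgw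
        simp only [Matrix.mul_smul, Matrix.smul_mul, ← mul_assoc, Units.inv_mul, one_mul] at h
        simp only [mul_assoc, Units.mul_inv, mul_one] at h
        rw [h, smul_smul, hss, one_smul]
      have hboth : ∃ s : F, s * s = 1 ∧
          ((a : GL ι F) : Matrix ι ι F) * (w : Matrix ι ι F) = s • ((w : Matrix ι ι F) * ((a : GL ι F) : Matrix ι ι F)) ∧
          ((b : GL ι F) : Matrix ι ι F) * (w : Matrix ι ι F) = s • ((w : Matrix ι ι F) * ((b : GL ι F) : Matrix ι ι F)) := by
        rcases hpm a a.2 w hw with ha | ha <;> rcases hpm b b.2 w hw with hb | hb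
        · exact ⟨1, one_mul 1, by rw [one_smul]; exact ha, by rw [one_smul]; exact hb⟩
        · exact ⟨1, one_mul 1, by rw [one_smul]; exact ha, by rw [one_smul]; exact hab.mp ha⟩
        · exact ⟨1, one_mul 1, by rw [one_smul]; exact hab.mpr hb, by rw [one_smul]; exact hb⟩
        · exact ⟨-1, by ring, by rw [neg_one_smul]; exact ha, by rw [neg_one_smul]; exact hb⟩
      obtain ⟨s, hss, ha, hb⟩ := hboth
      rw [Units.val_mul, mul_assoc, ha, Matrix.mul_smul, ← mul_assoc, hflip _ s hb hss, Matrix.smul_mul, smul_smul,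
        hss, one_smul, mul_assoc]
    by_contra hcon
    push Not at hcon
    let rep : Bool × Bool → R := Function.invFun tag
    have hsame : ∀ g : R, tag (rep (tag g)) = tag g := fun g => Function.invFun_eq ⟨g, rfl⟩
    have hcent : ∀ g : R, (rep (tag g))⁻¹ * g ∈ Subgroup.center R := by
      intro g
      have hg := hsame g
      simp only [tag, Prod.mk.injEq] at hg
      have h1 := hkey g (rep (tag g)) x hx hg.1.symm
      have h2 := hkey g (rep (tag g)) y hy hg.2.symm
      refine (hR.center_iff _).mpr ?_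
      by_contra hns
      exact hcon _ ((rep (tag g))⁻¹ * g).2 hns h1 h2
    let ψ : R → (Bool × Bool) × Subgroup.center R := fun g => (tag g, ⟨_, hcent g⟩)
    have hψ : Function.Injective ψ := by
      intro a b hab
      simp only [ψ, Prod.mk.injEq, Subtype.mk.injEq] at hab
      obtain ⟨h1, h2⟩ := hab
      rw [h1] at h2
      exact mul_left_cancel h2
    have h := Nat.card_le_card_of_injective ψ hψ
    rw [Nat.card_prod, hcardR, Nat.card_eq_fintype_card (α := Bool × Bool), Fintype.card_prod, Fintype.card_bool] at h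
    omega
  -- a non-central involution with an element anticommuting with it
  obtain ⟨u, w, hu, hw, huu, huw⟩ : ∃ u w : GL ι F, u ∈ R ∧ w ∈ R ∧ (u : Matrix ι ι F) * (u : Matrix ι ι F) = 1 ∧
      (u : Matrix ι ι F) * (w : Matrix ι ι F) = -((w : Matrix ι ι F) * (u : Matrix ι ι F)) := by
    rcases hsq z hz with hz2 | hz2
    · by_contra hcon
      push Not at hcon
      refine hzs ((hR.center_iff ⟨z, hz⟩).mp (hcen _ fun w hw => ?_))
      exact (hpm z hz w hw).resolve_right (hcon z w hz hw hz2)
    rcases hsq x hx with hx2 | hx2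
    · exact ⟨x, y, hx, hy, hx2, hxy⟩
    · refine ⟨x * z, y, R.mul_mem hx hz, hy, ?_, ?_⟩
      · rw [Units.val_mul, mul_assoc, ← mul_assoc (z : Matrix ι ι F), hzx, mul_assoc (x : Matrix ι ι F), ← mul_assoc,
          hz2, hx2, neg_one_mul, neg_neg]
      · rw [Units.val_mul, mul_assoc, hzy, ← mul_assoc, hxy, neg_mul, mul_assoc]
  -- its eigenspaces
  set W := LinearMap.ker (Matrix.toLin' (u : Matrix ι ι F) - LinearMap.id) with hW
  set U := LinearMap.ker (Matrix.toLin' (u : Matrix ι ι F) + LinearMap.id) with hU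
  have memW : ∀ v, v ∈ W ↔ (u : Matrix ι ι F) *ᵥ v = v := fun v => by
    rw [hW, LinearMap.mem_ker, LinearMap.sub_apply, sub_eq_zero, Matrix.toLin'_apply]; rfl
  have memU : ∀ v, v ∈ U ↔ (u : Matrix ι ι F) *ᵥ v = -v := fun v => by
    rw [hU, LinearMap.mem_ker, LinearMap.add_apply, add_eq_zero_iff_eq_neg, Matrix.toLin'_apply]; rfl
  have hflip : ∀ g : GL ι F, (u : Matrix ι ι F) * (g : Matrix ι ι F) = -((g : Matrix ι ι F) * (u : Matrix ι ι F)) →
      (∀ v ∈ W, (g : Matrix ι ι F) *ᵥ v ∈ U) ∧ ∀ v ∈ U, (g : Matrix ι ι F) *ᵥ v ∈ W := by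
    intro g hg
    constructor <;> intro v hv
    · rw [memU, Matrix.mulVec_mulVec, hg, Matrix.neg_mulVec, ← Matrix.mulVec_mulVec, (memW v).mp hv]
    · rw [memW, Matrix.mulVec_mulVec, hg, Matrix.neg_mulVec, ← Matrix.mulVec_mulVec, (memU v).mp hv,
        Matrix.mulVec_neg, neg_neg]
  have hsplit : ∀ v : ι → F, ∃ a ∈ W, ∃ b ∈ U, v = a + b := fun v => by
    refine ⟨(2 : F)⁻¹ • (v + (u : Matrix ι ι F) *ᵥ v), ?_, (2 : F)⁻¹ • (v - (u : Matrix ι ι F) *ᵥ v), ?_, ?_⟩
    · rw [memW, Matrix.mulVec_smul, Matrix.mulVec_add, Matrix.mulVec_mulVec, huu, Matrix.one_mulVec, add_comm]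
    · rw [memU, Matrix.mulVec_smul, Matrix.mulVec_sub, Matrix.mulVec_mulVec, huu, Matrix.one_mulVec, ← smul_neg,
        neg_sub]
    · rw [← smul_add, show v + (u : Matrix ι ι F) *ᵥ v + (v - (u : Matrix ι ι F) *ᵥ v) = (2 : F) • v by
        rw [two_smul]; abel, smul_smul, inv_mul_cancel₀ h2, one_smul]
  have horth : ∀ a ∈ W, ∀ b ∈ U, polar ⇑Q a b = 0 := fun a ha b hb => by
    have h := polar_iso (hH (hRH hu)) a b
    rw [(memW a).mp ha, (memU b).mp hb, polar_neg_right] at h
    exact (mul_eq_zero.mp (by linear_combination -h : (2 : F) * polar ⇑Q a b = 0)).resolve_left h2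
  have hnd : IsNondegenerateOn (polar ⇑Q) W := by
    intro a ha ha0
    obtain ⟨t, ht⟩ : ∃ t, polar ⇑Q a t ≠ 0 := by
      by_contra h
      push Not at h
      exact ha0 (hQ.1 a h)
    obtain ⟨a', ha', b', hb', rfl⟩ := hsplit t
    rw [polar_add_right, horth a ha b' hb', add_zero] at ht
    exact ⟨⟨a', ha', by rwa [polar_comm]⟩, ⟨a', ha', ht⟩⟩
  have hWU : Module.finrank F W = Module.finrank F U := by
    have hwu := hflip w huw
    have hi : Function.Injective (fun v => (w : Matrix ι ι F) *ᵥ v) := fun a b h => by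
      simpa [inv_mulVec_cancel] using congrArg (fun v => ((w⁻¹ : GL ι F) : Matrix ι ι F) *ᵥ v) h
    refine le_antisymm
      (LinearMap.finrank_le_finrank_of_injective (f := (Matrix.toLin' (w : Matrix ι ι F)).restrict
        (fun v hv => by rw [Matrix.toLin'_apply]; exact hwu.1 v hv)) ?_)
      (LinearMap.finrank_le_finrank_of_injective (f := (Matrix.toLin' (w : Matrix ι ι F)).restrict
        (fun v hv => by rw [Matrix.toLin'_apply]; exact hwu.2 v hv)) ?_) <;>
    · intro a b h
      have h' := congrArg Subtype.val h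
      simp only [LinearMap.restrict_apply, Matrix.toLin'_apply] at h'
      exact Subtype.ext (hi h')
  have hdis : W ⊓ U = ⊥ := by
    rw [eq_bot_iff]
    rintro v ⟨ha, hb⟩
    rw [Submodule.mem_bot]
    have h := ((memW v).mp ha).symm.trans ((memU v).mp hb)
    rw [eq_neg_iff_add_eq_zero, ← two_smul F, smul_eq_zero] at h
    exact h.resolve_left h2
  have hsum : Module.finrank F W + Module.finrank F U = Fintype.card ι := by
    have h := Submodule.finrank_sup_add_finrank_inf_eq W U
    rw [hdis, finrank_bot, add_zero, show W ⊔ U = ⊤ from top_unique fun v _ => by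
      obtain ⟨a, ha, b, hb, rfl⟩ := hsplit v
      exact Submodule.add_mem_sup ha hb, finrank_top, Module.finrank_fintype_fun_eq_card] at h
    exact h.symm
  exact SingMax.plusType_of_swap hQ hnd (j := 2) (by omega) (by omega) (g := w) (app_iso (hH (hRH hw)))
    fun a ha => mem_polarPerp.mpr fun a' ha' => horth a' ha' _ ((hflip w huw).1 a ha)

/-- In dimension eight, and only there, a tensor induced group occurs, for a form of plus type. -/
theorem plus_of_tensorInduced (hQ : (QuadraticMap.polarBilin Q).Nondegenerate)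
    (hn : Fintype.card ι = 8 ∨ Fintype.card ι = 10 ∨ Fintype.card ι = 12) {H : Subgroup (GL ι F)}
    (hH : H ≤ isometryGroup F ⇑Q) (hti : HasTensorInduced H) :
    Fintype.card ι = 8 ∧ IsPlusTypeOn (⇑Q) ⊤ := by
  classical
  obtain ⟨t, d, M, e, B, ht, hd, hMH, hMp, -, hmem, -, -, -, htrans, hle⟩ := hti
  have hcard := Fintype.card_congr e
  rw [Fintype.card_fun, Fintype.card_fin, Fintype.card_fin] at hcard
  rcases pow_eq_cases hd (by omega) hn hcard with ⟨h8, hd2, ht3⟩ | ⟨h, -⟩
  swap
  · omega
  subst hd2 ht3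
  refine ⟨h8, ?_⟩
  obtain ⟨G, hF, hG⟩ := exists_polarGram hQ
  obtain ⟨c, Gs, cs, hc, hA, hcs, hNd, -⟩ :=
    exists_power_gram hF (invariant_polarGram hG hH) hd e B hMH hMp hmem htrans hle
  have h1 : ∀ i, cs i * cs i = 1 := fun i => by simpa using (hcs i).1
  have hT : ∀ i, (Gs i : Matrix (Fin 2) (Fin 2) F)ᵀ = cs i • (Gs i : Matrix (Fin 2) (Fin 2) F) := fun i => by
    have h := (hcs i).2
    rwa [twist_refl] at h
  rcases two_eq_zero_or_odd (F := F) with h2 | ⟨h2, -⟩
  swap
  · exfalso
    have hneg : ∀ i, cs i = -1 := by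
      intro i
      rcases mul_self_eq_one_iff.mp (h1 i) with h | h
      swap
      · exact h
      exfalso
      obtain ⟨Nd, hspan, hperf, hNinv⟩ := hNd i
      have hdet : ∀ x ∈ Nd, (x : Matrix (Fin 2) (Fin 2) F).det = 1 := by
        intro x hx
        have hsub : Nd ≤ (Matrix.GeneralLinearGroup.det : GL (Fin 2) F →* Fˣ).ker := by
          rw [← hperf, Subgroup.commutator_le]
          intro a _ b _
          rw [MonoidHom.mem_ker, map_commutatorElement, commutatorElement_eq_one_iff_mul_comm, mul_comm]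
        exact congrArg Units.val (hsub hx)
      set Gi := ((Gs i : GL (Fin 2) F) : Matrix (Fin 2) (Fin 2) F) with hGi
      set J : Matrix (Fin 2) (Fin 2) F := ((((Gs i)⁻¹ : GL (Fin 2) F)) : Matrix (Fin 2) (Fin 2) F) * jTwo F with hJ
      have hJc : ∀ x ∈ Nd, J * (x : Matrix (Fin 2) (Fin 2) F) = (x : Matrix (Fin 2) (Fin 2) F) * J := by
        intro x hx
        have hxG := hNinv x hx
        rw [twist_refl] at hxG
        have hxj := transpose_mul_jTwo_mul (x : Matrix (Fin 2) (Fin 2) F)
        rw [hdet x hx, one_smul] at hxj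
        have e1 : (x : Matrix (Fin 2) (Fin 2) F)ᵀ * jTwo F =
            jTwo F * ((x⁻¹ : GL (Fin 2) F) : Matrix (Fin 2) (Fin 2) F) := by
          conv_rhs => rw [← hxj]
          rw [mul_assoc, Units.mul_inv, mul_one]
        have e2 : ((((Gs i)⁻¹ : GL (Fin 2) F)) : Matrix (Fin 2) (Fin 2) F) * (x : Matrix (Fin 2) (Fin 2) F)ᵀ =
            ((x⁻¹ : GL (Fin 2) F) : Matrix (Fin 2) (Fin 2) F) * ((((Gs i)⁻¹ : GL (Fin 2) F)) : Matrix (Fin 2) (Fin 2) F) := by
          have e3 : (x : Matrix (Fin 2) (Fin 2) F)ᵀ = Gi * ((x⁻¹ : GL (Fin 2) F) : Matrix (Fin 2) (Fin 2) F) *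
              ((((Gs i)⁻¹ : GL (Fin 2) F)) : Matrix (Fin 2) (Fin 2) F) := by
            conv_rhs => rw [← hxG]
            simp only [mul_assoc]
            rw [← mul_assoc (x : Matrix (Fin 2) (Fin 2) F), Units.mul_inv, one_mul, Units.mul_inv, mul_one]
          rw [e3, ← mul_assoc, ← mul_assoc, hGi, Units.inv_mul, one_mul]
        have e4 : ((x⁻¹ : GL (Fin 2) F) : Matrix (Fin 2) (Fin 2) F) * J =
            J * ((x⁻¹ : GL (Fin 2) F) : Matrix (Fin 2) (Fin 2) F) := by
          rw [hJ, mul_assoc, ← e1, ← mul_assoc, ← mul_assoc, e2]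
        have := congrArg (fun X => (x : Matrix (Fin 2) (Fin 2) F) * X * (x : Matrix (Fin 2) (Fin 2) F)) e4
        simpa [mul_assoc, Units.mul_inv_cancel_left] using this
      obtain ⟨s, hs⟩ := Matrix.mem_range_scalar_of_commute_single (M := J) (fun a b _ =>
        (commute_spanAlg (N := Nd) hJc (by rw [hspan]; trivial) :
          J * Matrix.single a b 1 = Matrix.single a b 1 * J).symm)
      have hj : jTwo F = s • Gi := by
        have : Gi * J = jTwo F := by rw [hJ, ← mul_assoc, hGi, Units.mul_inv, one_mul]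
        rw [← this, ← hs, Matrix.scalar_apply, ← Matrix.smul_one_eq_diagonal, Matrix.mul_smul, mul_one]
      have htr := congrArg Matrix.transpose hj
      rw [Matrix.transpose_smul, hGi, hT i, h, one_smul, ← hGi, ← hj] at htr
      have := congrFun (congrFun htr 0) 1
      simp [jTwo] at this
      exact h2 (by linear_combination -this)
    -- a product of three skew factors is skew
    have hsym : ∀ x y, gramIn (RingEquiv.refl F) G e B y x = gramIn (RingEquiv.refl F) G e B x y := by
      intro x y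
      have h := twist_gramIn hF e B
      rw [twist_refl, one_smul] at h
      exact congrFun (congrFun h x) y
    apply (isUnit_gramIn G e B (σ := RingEquiv.refl F)).ne_zero
    ext x y
    have h := hsym x y
    rw [hA] at h ⊢
    have hentry : ∀ i a b, (Gs i : Matrix (Fin 2) (Fin 2) F) b a = -(Gs i : Matrix (Fin 2) (Fin 2) F) a b := fun i a b => by
      have := congrFun (congrFun (hT i) a) b
      rw [hneg i, Matrix.smul_apply, Matrix.transpose_apply, neg_one_smul] at this
      exact this
    simp only [Matrix.smul_apply, smul_eq_mul, pureTensor, Matrix.of_apply, Fin.prod_univ_three,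
      Matrix.zero_apply] at h ⊢
    rw [hentry 0 (x 0) (y 0), hentry 1 (x 1) (y 1), hentry 2 (x 2) (y 2)] at h
    exact (mul_eq_zero.mp (by linear_combination -h : (2 : F) * _ = 0)).resolve_left h2
  -- characteristic two
  have halt : ∀ i, ∀ v, formM (RingEquiv.refl F) (Gs i : Matrix (Fin 2) (Fin 2) F) v v = 0 := by
    intro i
    obtain ⟨Nd, hspan, -, hNinv⟩ := hNd i
    set f := formM (RingEquiv.refl F) (Gs i : Matrix (Fin 2) (Fin 2) F) with hf
    have hfs : ∀ u v, f u v = f v u := fun u v => by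
      rcases mul_self_eq_one_iff.mp (h1 i) with h | h
      · rw [hf, ← formM_transpose, hT i, h, one_smul]
      · rw [hf, ← formM_transpose, hT i, h, show (-1 : F) = 1 by linear_combination -h2, one_smul]
    obtain ⟨Z, hZ, hZd⟩ := exists_common_zero h2 (fun (_ : Fin 1) x => f x x)
      (fun _ u v => by
        show f (u + v) (u + v) = f u u + f v v
        rw [hf, formM_add_left, formM_add_right, formM_add_right, ← hf, hfs v u]
        linear_combination (f u v) * h2)
      (fun _ s v => by
        show f (s • v) (s • v) = s ^ 2 * f v v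
        rw [hf, formM_smul_left, formM_smul_right, RingEquiv.refl_apply, pow_two, mul_assoc])
    rw [Module.finrank_fintype_fun_eq_card, Fintype.card_fin] at hZd
    have hZ' : Z = ⊤ := by
      refine eq_top_of_invariant (absIrred_of_span_top hspan).1 (fun g hg z hz => (hZ _).mpr fun _ => ?_)
        (ne_bot_of_finrank (by omega))
      show f _ _ = 0
      rw [hf, formM_mulVec, hNinv g hg, ← hf, (hZ z).mp hz 0]
    intro v
    exact (hZ v).mp (hZ' ▸ Submodule.mem_top) 0
  -- the span of the tensors with first factor a fixed vector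
  let δ : (Fin 3 → Fin 2) → (ι → F) := fun p => frameVec e B (Pi.single p 1)
  let vec : (Fin 3 → Fin 2) → (Fin 2 → F) → (ι → F) := fun p x =>
    frameVec e B (∑ a, x a • Pi.single (Function.update p 0 a) 1)
  have hpolδ : ∀ p q, polar ⇑Q (δ p) (δ q) = c * ∏ i, (Gs i : Matrix (Fin 2) (Fin 2) F) (p i) (q i) := by
    intro p q
    rw [polar_frame hG, hA, formM_single]
    simp [pureTensor]
  have hδzero : ∀ p, Q (δ p) = 0 := by
    intro p
    have hpure : ∀ x, vec p x = x 0 • δ (Function.update p 0 0) + x 1 • δ (Function.update p 0 1) := fun x => by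
      simp only [vec, δ, Fin.sum_univ_two, frameVec_add, frameVec_smul]
    have hpolz : ∀ a b, polar ⇑Q (δ (Function.update p 0 a)) (δ (Function.update p 0 b)) = 0 := by
      intro a b
      rw [hpolδ]
      refine mul_eq_zero_of_right _ (Finset.prod_eq_zero (Finset.mem_univ (1 : Fin 3)) ?_)
      have h := halt 1 (Pi.single (p 1) 1)
      rw [formM_single] at h
      rw [Function.update_of_ne (by decide), Function.update_of_ne (by decide)]
      exact h
    obtain ⟨Z, hZ, hZd⟩ := exists_common_zero h2 (fun (_ : Fin 1) x => Q (vec p x))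
      (fun _ u v => by
        show Q _ = Q _ + Q _
        have : vec p (u + v) = vec p u + vec p v := by
          rw [hpure, hpure, hpure, Pi.add_apply, Pi.add_apply]; module
        rw [this, QuadraticMap.map_add (⇑Q), hpure u, hpure v]
        simp only [polar_add_left, polar_add_right, polar_smul_left, polar_smul_right, hpolz, smul_zero, add_zero])
      (fun _ s v => by
        show Q _ = s ^ 2 * Q _
        have : vec p (s • v) = s • vec p v := by rw [hpure, hpure, Pi.smul_apply, Pi.smul_apply]; module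
        rw [this, QuadraticMap.map_smul, smul_eq_mul, pow_two])
    rw [Module.finrank_fintype_fun_eq_card, Fintype.card_fin] at hZd
    have hact : ∀ (a : Matrix (Fin 2) (Fin 2) F) x, framed e B (factorM 0 a) *ᵥ vec p x = vec p (a *ᵥ x) := by
      intro a x
      rw [show vec p x = frameVec e B (∑ b, x b • Pi.single (Function.update p 0 b) 1) from rfl, framed_frameVec]
      show frameVec e B _ = frameVec e B _
      congr 1
      funext q
      rw [Matrix.mulVec_sum]
      simp only [Matrix.mulVec_smul, Matrix.mulVec_single_one, Finset.sum_apply, Pi.smul_apply, smul_eq_mul,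
        Matrix.col_apply, factorM_apply]
      by_cases hq : ∀ l, l ≠ 0 → q l = p l
      · have hqe : Function.update p 0 (q 0) = q := by
          funext l
          by_cases hl : l = 0
          · subst hl; simp
          · rw [Function.update_of_ne hl, hq l hl]
        rw [Finset.sum_eq_single (q 0) (f := fun b => (a *ᵥ x) b * (Pi.single (Function.update p 0 b) (1 : F)
            : (Fin 3 → Fin 2) → F) q)]
        · rw [hqe, Pi.single_eq_same, mul_one]
          show _ = ∑ b, a (q 0) b * x b
          refine Finset.sum_congr rfl fun b _ => ?_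
          rw [Function.update_self, if_pos (fun l hl => by rw [Function.update_of_ne hl, hq l hl]), mul_one]
          ring
        · intro b _ hb
          rw [Pi.single_eq_of_ne, mul_zero]
          intro h
          exact hb (by rw [h, Function.update_self])
        · simp
      · have hz : ∀ b, (Pi.single (Function.update p 0 b) (1 : F) : (Fin 3 → Fin 2) → F) q = 0 := fun b =>
          Pi.single_eq_of_ne (fun h => hq fun l hl => by rw [h, Function.update_of_ne hl]) _
        simp only [hz, mul_zero, Finset.sum_const_zero]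
        refine Finset.sum_eq_zero fun b _ => ?_
        rw [if_neg]
        · simp
        · intro h
          exact hq fun l hl => by rw [h l hl, Function.update_of_ne hl]
    have hinvZ : ∀ X ∈ spanAlg (M 0), ∀ z ∈ Z, ∃ z' ∈ Z, X *ᵥ vec p z = vec p z' := by
      intro X hX z hz
      rw [← Subalgebra.mem_toSubmodule, spanAlg_toSubmodule] at hX
      induction hX using Submodule.span_induction with
      | mem X hX =>
        obtain ⟨g, hg, rfl⟩ := hX
        obtain ⟨a, ha⟩ := (hmem 0 _).mp (coe_mem_spanAlg hg)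
        refine ⟨a *ᵥ z, (hZ _).mpr fun _ => ?_, by show (g : Matrix ι ι F) *ᵥ _ = _; rw [ha, hact]⟩
        show Q _ = 0
        rw [← hact, ← ha, app_iso (hH (hMH 0 hg)), (hZ z).mp hz 0]
      | zero =>
        exact ⟨0, Z.zero_mem, by rw [Matrix.zero_mulVec, hpure]; simp⟩
      | add X Y _ _ hx hy =>
        obtain ⟨u, hu, hu'⟩ := hx
        obtain ⟨v, hv, hv'⟩ := hy
        exact ⟨u + v, Z.add_mem hu hv, by rw [Matrix.add_mulVec, hu', hv', hpure, hpure, hpure, Pi.add_apply, Pi.add_apply]; module⟩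
      | smul s X _ hx =>
        obtain ⟨u, hu, hu'⟩ := hx
        exact ⟨s • u, Z.smul_mem s hu, by rw [Matrix.smul_mulVec, hu', hpure, hpure, Pi.smul_apply, Pi.smul_apply]; module⟩
    obtain ⟨r, hr, hr0⟩ := Z.ne_bot_iff.mp (fun h => by rw [h, finrank_bot] at hZd; omega)
    obtain ⟨i, hi⟩ := Function.ne_iff.mp hr0
    set a := Matrix.vecMulVec (Pi.single (p 0) (1 : F)) (Pi.single i (r i)⁻¹) with ha
    have har : a *ᵥ r = Pi.single (p 0) 1 := by
      rw [ha, Matrix.vecMulVec_mulVec, single_dotProduct, inv_mul_cancel₀ hi, MulOpposite.op_one, one_smul]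
    obtain ⟨z, hz, hzv⟩ := hinvZ _ ((hmem 0 _).mpr ⟨a, rfl⟩) r hr
    rw [hact, har] at hzv
    have hvp : vec p (Pi.single (p 0) 1) = δ p := by
      show frameVec e B _ = frameVec e B _
      rw [Finset.sum_eq_single (p 0)]
      · rw [Pi.single_eq_same, one_smul, Function.update_eq_self]
      · intro b _ hb
        rw [Pi.single_eq_of_ne hb, zero_smul]
      · simp
    rw [← hvp, hzv]
    exact (hZ z).mp hz 0
  -- four mutually orthogonal singular vectors
  let w : Fin 2 × Fin 2 → (ι → F) := fun ab => δ ![0, ab.1, ab.2]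
  have hw : LinearIndependent F w := by
    rw [Fintype.linearIndependent_iff]
    intro g hg ab
    have h0 : frameVec e B (∑ x : Fin 2 × Fin 2, g x • Pi.single ![0, x.1, x.2] (1 : F)) = frameVec e B 0 := by
      rw [frameVec_zero, ← hg]
      simp only [w, δ, frameVec, ← Matrix.mulVec_smul, ← Matrix.mulVec_sum]
      congr 1
    have := congrFun (frameVec_injective e B h0) ![0, ab.1, ab.2]
    rw [Finset.sum_apply, Finset.sum_eq_single ab] at this
    · simpa using this
    · intro b _ hb
      rw [Pi.smul_apply, Pi.single_eq_of_ne, smul_zero]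
      intro h
      exact hb (Prod.ext (congrFun h 1).symm (congrFun h 2).symm)
    · simp
  refine ⟨Submodule.span F (Set.range w), le_top, ?_, ?_⟩
  swap
  · rw [finrank_span_eq_card hw, finrank_top, Module.finrank_fintype_fun_eq_card, h8]
    simp
  have hpw : ∀ a b, polar ⇑Q (w a) (w b) = 0 := fun a b => by
    simp only [w, hpolδ]
    refine mul_eq_zero_of_right _ (Finset.prod_eq_zero (Finset.mem_univ (0 : Fin 3)) ?_)
    have h := halt 0 (Pi.single 0 1)
    rw [formM_single] at h
    exact h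
  have hps : ∀ u ∈ Submodule.span F (Set.range w), ∀ v ∈ Submodule.span F (Set.range w), polar ⇑Q u v = 0 := by
    intro u hu v hv
    obtain ⟨f, rfl⟩ := (Submodule.mem_span_range_iff_exists_fun F).mp hu
    obtain ⟨g, rfl⟩ := (Submodule.mem_span_range_iff_exists_fun F).mp hv
    simp only [← QuadraticMap.polarBilin_apply_apply, map_sum, map_smul, LinearMap.sum_apply, LinearMap.smul_apply]
    simp [hpw]
  intro v hv
  induction hv using Submodule.span_induction with
  | mem v hv => obtain ⟨ab, rfl⟩ := hv; exact hδzero _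
  | zero => exact map_zero Q
  | add u v hu hv h1 h2 => rw [QuadraticMap.map_add (⇑Q), h1, h2, hps u hu v hv]; simp
  | smul s v _ h => rw [QuadraticMap.map_smul, h, smul_zero]

end Cfsg.Agent.Lib.MaxClass.OrthEven
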