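import Mathlib
import Cfsg.Prelude.Def_GeometricClasses
import Cfsg.Agent.Lib.MaxClass.OrthEven.CasesReducible
import Cfsg.Agent.Lib.MaxClass.OrthEven.CasesTensor

/-!
Aschbacher's theorem for the isometry groups of quadratic forms in dimensions eight, ten and twelve, in
every characteristic.
-/

set_option autoImplicit false
set_option linter.style.haveILetI false
set_option linter.unusedSectionVars false

namespace Cfsg.Agent.Lib.MaxClass.OrthEven

open Cfsg Cfsg.Geo Matrix QuadraticMap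
open Cfsg.Agent.Lib.Aschbacher Cfsg.Agent.Lib.MaxClass

variable {ι : Type} [Fintype ι] [DecidableEq ι] {F : Type*} [Field F] [Fintype F] {Q : QuadraticForm F (ι → F)}

/-- Subfield groups. -/
def SubfieldCase (Q : QuadraticForm F (ι → F)) (H : Subgroup (GL ι F)) : Prop :=
  ∃ (F₀ : Subfield F) (r : ℕ) (P : GL ι F) (ζ : F), r.Prime ∧ Fintype.card F = Nat.card F₀ ^ r ∧ ζ ≠ 0 ∧
    IsQuadFormRationalStructure (fun v => ζ * Q v) F₀ P ∧ H ≤ subfieldSubgroup F₀ P

/-- An element of a subfield group, in the coordinates of the rational structure. -/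
theorem exists_scalar_rational {F₁ : Subfield F} {P g : GL ι F} (hg : g ∈ subfieldSubgroup F₁ P) :
    ∃ (d : F) (A : Matrix ι ι F), d ≠ 0 ∧ (∀ i j, A i j ∈ F₁) ∧
      ((P⁻¹ * g * P : GL ι F) : Matrix ι ι F) = d • A := by
  obtain ⟨x, hx, hxe⟩ := hg
  obtain ⟨_, ⟨a, rfl⟩, z, hz, haz⟩ := Subgroup.mem_sup_of_normal_right.mp hx
  obtain ⟨d, hd⟩ := (mem_scalars_iff z).mp hz
  refine ⟨d, _, d.ne_zero, fun i j => ((a : Matrix ι ι F₁) i j).2, ?_⟩
  have hxt : P⁻¹ * g * P = x := by
    rw [← hxe]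
    show P⁻¹ * (P * x * P⁻¹) * P = x
    group
  rw [hxt, ← haz, Units.val_mul, hd, Matrix.mul_smul, mul_one]
  rfl

/-- A rational structure of the polar form carries the quadratic form, for an irreducible group. -/
theorem subfieldCase_of_rational [Nonempty ι] (hn : 2 ≤ Fintype.card ι) {H : Subgroup (GL ι F)}
    (hH : H ≤ isometryGroup F ⇑Q) (hirr : ActsIrreducibly (matrixSet H)) {G : GL ι F}
    (hG : ∀ u v, polar ⇑Q u v = formM (RingEquiv.refl F) (G : Matrix ι ι F) u v)
    {F₁ : Subfield F} {r : ℕ} (hr : r.Prime) (hcard : Fintype.card F = Nat.card F₁ ^ r) {P : GL ι F}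
    (hP : H ≤ subfieldSubgroup F₁ P) {c : F} (hc : c ≠ 0) {G₁ : Matrix ι ι F} (hG₁ : ∀ i j, G₁ i j ∈ F₁)
    (h1 : ∃ i j, G₁ i j = 1)
    (hPG : (P : Matrix ι ι F)ᵀ * (G : Matrix ι ι F) * (P : Matrix ι ι F) = c • G₁) : SubfieldCase Q H := by
  classical
  refine ⟨F₁, r, P, c⁻¹, hr, hcard, inv_ne_zero hc, ?_, hP⟩
  have hpolP : ∀ u v, polar ⇑Q ((P : Matrix ι ι F) *ᵥ u) ((P : Matrix ι ι F) *ᵥ v) =
      c * formM (RingEquiv.refl F) G₁ u v := fun u v => by
    rw [hG, formM_mulVec, twist_refl, hPG, formM_smul]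
  set f : (ι → F) → F := fun u => c⁻¹ * Q ((P : Matrix ι ι F) *ᵥ u) with hf
  have hfadd : ∀ u v, f (u + v) = f u + f v + formM (RingEquiv.refl F) G₁ u v := fun u v => by
    simp only [hf, Matrix.mulVec_add]
    rw [QuadraticMap.map_add (⇑Q), hpolP, mul_add, mul_add, ← mul_assoc c⁻¹ c, inv_mul_cancel₀ hc, one_mul]
  have hfsmul : ∀ (a : F) u, f (a • u) = a * a * f u := fun a u => by
    simp only [hf, Matrix.mulVec_smul, QuadraticMap.map_smul, smul_eq_mul]
    ring
  have hmemG : ∀ u v, (∀ i, u i ∈ F₁) → (∀ i, v i ∈ F₁) → formM (RingEquiv.refl F) G₁ u v ∈ F₁ :=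
    fun u v hu hv => formM_mem_subfield (fun a ha => ha) hG₁ hu hv
  show ∀ u, (∀ i, u i ∈ F₁) → f u ∈ F₁
  by_cases h2 : (2 : F) = 0
  swap
  · intro u hu
    have h := hfadd u u
    rw [← two_smul F u, hfsmul] at h
    have e : f u = (2 : F)⁻¹ * formM (RingEquiv.refl F) G₁ u u := by
      field_simp
      linear_combination h
    rw [e]
    exact F₁.mul_mem (F₁.inv_mem (by exact_mod_cast natCast_mem F₁ 2)) (hmemG u u hu hu)
  haveI : CharP F 2 := CharTwo.of_one_ne_zero_of_two_eq_zero one_ne_zero h2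
  haveI : ExpChar F 2 := ExpChar.prime Nat.prime_two
  obtain ⟨τ, hτ⟩ := exists_frobenius F₁
  have hfix : ∀ a ∈ F₁, τ a = a := fun a ha => by rw [hτ, ← mem_subfield_iff]; exact ha
  set ψ : ι → F := fun i => (frobeniusEquiv F 2).symm (τ (f (Pi.single i 1)) - f (Pi.single i 1)) with hψ
  have hψ2 : ∀ i, ψ i ^ 2 = τ (f (Pi.single i 1)) - f (Pi.single i 1) := fun i =>
    (frobeniusEquiv F 2).apply_symm_apply _
  -- the deviation from rationality is the square of a linear form
  have hlin : ∀ u, (∀ i, u i ∈ F₁) → τ (f u) - f u = (∑ i, u i * ψ i) ^ 2 := by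
    intro u hu
    have key : ∀ s : Finset ι, τ (f (∑ i ∈ s, u i • Pi.single i 1)) - f (∑ i ∈ s, u i • Pi.single i 1) =
        (∑ i ∈ s, u i * ψ i) ^ 2 ∧ ∀ j, (∑ i ∈ s, u i • (Pi.single i 1 : ι → F)) j ∈ F₁ := by
      intro s
      induction s using Finset.induction with
      | empty =>
        have h0 : f 0 = 0 := by simp [hf]
        simp [h0, F₁.zero_mem]
      | insert a s ha ih =>
        obtain ⟨ih1, ih2⟩ := ih
        have hsingle : ∀ j, (u a • (Pi.single a 1 : ι → F)) j ∈ F₁ := fun j => by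
          rw [Pi.smul_apply, Pi.single_apply, smul_eq_mul]
          split_ifs
          · exact F₁.mul_mem (hu a) F₁.one_mem
          · exact F₁.mul_mem (hu a) F₁.zero_mem
        refine ⟨?_, fun j => by rw [Finset.sum_insert ha, Pi.add_apply]; exact F₁.add_mem (hsingle j) (ih2 j)⟩
        rw [Finset.sum_insert ha, Finset.sum_insert ha, hfadd, hfsmul, map_add, map_add, map_mul, map_mul,
          hfix _ (hu a), hfix _ (hmemG _ _ hsingle ih2), add_sq, mul_pow, hψ2]
        linear_combination ih1 - (u a * ψ a * ∑ i ∈ s, u i * ψ i) * h2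
    have h := (key Finset.univ).1
    rwa [← pi_eq_sum_univ'] at h
  by_cases hψ0 : ψ = 0
  · intro u hu
    have h := hlin u hu
    simp only [hψ0, Pi.zero_apply, mul_zero, Finset.sum_const_zero, zero_pow two_ne_zero, sub_eq_zero] at h
    rw [mem_subfield_iff, ← hτ]
    exact h
  exfalso
  let Ψ : (ι → F) →ₗ[F] F :=
    { toFun := fun x => ∑ i, x i * ψ i
      map_add' := fun x y => by simp only [Pi.add_apply, add_mul, Finset.sum_add_distrib]
      map_smul' := fun a x => by simp only [Pi.smul_apply, smul_eq_mul, mul_assoc, Finset.mul_sum, RingHom.id_apply] }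
  have hg : ∀ g ∈ H, ∀ x, Ψ (((P⁻¹ * g * P : GL ι F) : Matrix ι ι F) *ᵥ x) = Ψ x := by
    intro g hg
    set k : Matrix ι ι F := ((P⁻¹ * g * P : GL ι F) : Matrix ι ι F) with hk
    have hPk : ∀ u, (P : Matrix ι ι F) *ᵥ (k *ᵥ u) = (g : Matrix ι ι F) *ᵥ ((P : Matrix ι ι F) *ᵥ u) := fun u => by
      rw [hk, Matrix.mulVec_mulVec, Matrix.mulVec_mulVec, ← Units.val_mul, ← Units.val_mul]
      congr 2
      group
    have hfk : ∀ u, f (k *ᵥ u) = f u := fun u => by simp only [hf, hPk, app_iso (hH hg)]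
    obtain ⟨d, A, hd, hA, hkA⟩ := exists_scalar_rational (hP hg)
    rw [← hk] at hkA
    have hGk : ∀ u v, formM (RingEquiv.refl F) G₁ (k *ᵥ u) (k *ᵥ v) = formM (RingEquiv.refl F) G₁ u v := fun u v => by
      have h := hpolP (k *ᵥ u) (k *ᵥ v)
      rw [hPk, hPk, polar_iso (hH hg), hpolP] at h
      exact (mul_left_cancel₀ hc h).symm
    have hdF : d ∈ F₁ := by
      obtain ⟨i, j, hij⟩ := h1
      have h := hGk (Pi.single i 1) (Pi.single j 1)
      rw [formM_single, hij, hkA, Matrix.smul_mulVec, Matrix.smul_mulVec, formM_smul_left, formM_smul_right,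
        RingEquiv.refl_apply, ← mul_assoc] at h
      have hm : formM (RingEquiv.refl F) G₁ (A *ᵥ Pi.single i 1) (A *ᵥ Pi.single j 1) ∈ F₁ := by
        refine hmemG _ _ ?_ ?_ <;>
        · intro l
          rw [Matrix.mulVec_single_one]
          exact hA _ _
      have hdd : d * d ∈ F₁ := by
        rw [eq_inv_of_mul_eq_one_left h]
        exact F₁.inv_mem hm
      haveI : CharP F₁ 2 := CharTwo.of_one_ne_zero_of_two_eq_zero one_ne_zero (Subtype.ext h2)
      haveI : ExpChar F₁ 2 := ExpChar.prime Nat.prime_two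
      obtain ⟨w, hw⟩ := surjective_frobenius F₁ 2 ⟨_, hdd⟩
      have hw' : (w : F) ^ 2 = d ^ 2 := by rw [pow_two d]; exact congrArg Subtype.val hw
      rw [← (frobenius_inj F 2) (show frobenius F 2 (w : F) = frobenius F 2 d from hw')]
      exact w.2
    have hkmem : ∀ i j, k i j ∈ F₁ := fun i j => by
      rw [hkA, Matrix.smul_apply, smul_eq_mul]
      exact F₁.mul_mem hdF (hA i j)
    have hbasis : ∀ j, Ψ (k *ᵥ Pi.single j 1) = Ψ (Pi.single j 1) := by
      intro j
      have hej : ∀ i, (Pi.single j 1 : ι → F) i ∈ F₁ := fun i => by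
        rw [Pi.single_apply]
        split_ifs
        · exact F₁.one_mem
        · exact F₁.zero_mem
      have h1 := hlin _ hej
      have h2' := hlin (k *ᵥ Pi.single j 1) (fun i => by rw [Matrix.mulVec_single_one]; exact hkmem i j)
      rw [hfk, h1] at h2'
      exact (frobenius_inj F 2) h2'.symm
    intro x
    have e := LinearMap.congr_fun (show Ψ ∘ₗ Matrix.toLin' k = Ψ from (Pi.basisFun F ι).ext fun j => by
      rw [LinearMap.comp_apply, Pi.basisFun_apply, Matrix.toLin'_apply]; exact hbasis j) x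
    rwa [LinearMap.comp_apply, Matrix.toLin'_apply] at e
  obtain ⟨i, hi⟩ := Function.ne_iff.mp hψ0
  let W : Submodule F (ι → F) := (LinearMap.ker Ψ).comap (Matrix.toLin' ((P⁻¹ : GL ι F) : Matrix ι ι F))
  have hW0 : W ≠ ⊥ := by
    obtain ⟨j, hj⟩ := Fintype.exists_ne_of_one_lt_card (by omega : 1 < Fintype.card ι) i
    intro h
    have hm : (P : Matrix ι ι F) *ᵥ (ψ j • Pi.single i 1 - ψ i • Pi.single j 1) ∈ W := by
      show Matrix.toLin' _ _ ∈ LinearMap.ker Ψ
      rw [Matrix.toLin'_apply, inv_mulVec_cancel, LinearMap.mem_ker, map_sub, map_smul, map_smul]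
      show ψ j * (∑ l, (Pi.single i (1 : F) : ι → F) l * ψ l) - ψ i * (∑ l, (Pi.single j (1 : F) : ι → F) l * ψ l) = 0
      simp [Pi.single_apply, mul_comm]
    rw [h, Submodule.mem_bot] at hm
    have h' := congrArg (fun v => (((P⁻¹ : GL ι F) : Matrix ι ι F) *ᵥ v) j) hm
    simp [inv_mulVec_cancel, hj] at h'
    exact hi h'
  have hW : W = ⊤ := eq_top_of_invariant hirr (fun g hgH w hw => by
    show Matrix.toLin' _ _ ∈ LinearMap.ker Ψ
    rw [Matrix.toLin'_apply, LinearMap.mem_ker]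
    have h := hg g hgH (((P⁻¹ : GL ι F) : Matrix ι ι F) *ᵥ w)
    rw [Units.val_mul, Units.val_mul, ← Matrix.mulVec_mulVec, ← Matrix.mulVec_mulVec, mulVec_inv_cancel] at h
    rw [h]
    have hw' : Matrix.toLin' ((P⁻¹ : GL ι F) : Matrix ι ι F) w ∈ LinearMap.ker Ψ := hw
    rwa [Matrix.toLin'_apply, LinearMap.mem_ker] at hw') hW0
  have hm : (P : Matrix ι ι F) *ᵥ Pi.single i 1 ∈ W := hW ▸ Submodule.mem_top
  have hm' : Matrix.toLin' ((P⁻¹ : GL ι F) : Matrix ι ι F) ((P : Matrix ι ι F) *ᵥ Pi.single i 1) ∈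
      LinearMap.ker Ψ := hm
  rw [Matrix.toLin'_apply, inv_mulVec_cancel, LinearMap.mem_ker] at hm'
  apply hi
  simpa [Ψ, Pi.single_apply] using hm'

/-- Aschbacher's theorem in dimensions eight, ten and twelve. -/
theorem class_or_residual (hQ : (QuadraticMap.polarBilin Q).Nondegenerate)
    (hn : Fintype.card ι = 8 ∨ Fintype.card ι = 10 ∨ Fintype.card ι = 12) {H : Subgroup (GL ι F)}
    (hH : H ≤ isometryGroup F ⇑Q) :
    SubspaceCase Q H ∨ DecompCase Q H ∨ FieldCase Q H ∨ TensorCase Q H ∨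
      (Fintype.card ι = 8 ∧ IsPlusTypeOn (⇑Q) ⊤) ∨ SubfieldCase Q H ∨ InOrthogonalResidualClass H := by
  classical
  haveI : Nonempty ι := Fintype.card_pos_iff.mp (by omega)
  by_cases hirr : ActsIrreducibly (matrixSet H)
  swap
  · exact Or.inl (subspaceCase_of_reducible hQ hH hirr)
  rcases structure_of_irreducible hirr (by omega) with h | h | h | h | h | h
  · exact Or.inr (Or.inl (decompCase_of_imprimitive hQ (by omega) hH hirr h))
  · refine Or.inr (Or.inr (Or.inl (fieldCase_of_extension hQ (by omega) ?_ hH hirr h)))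
    rcases hn with h' | h' | h' <;> rw [h'] <;> norm_num
  · exact Or.inr (Or.inr (Or.inr (Or.inl (tensorCase_of_tensor hQ hH hirr h))))
  · exact Or.inr (Or.inr (Or.inr (Or.inr (Or.inl (plus_of_symplecticCore hQ hn hH h)))))
  · exact Or.inr (Or.inr (Or.inr (Or.inr (Or.inl (plus_of_tensorInduced hQ hn hH h)))))
  · obtain ⟨N, hN⟩ := h
    obtain ⟨G, hF, hG⟩ := exists_polarGram hQ
    have hinv := (invariant_polarGram hG hH).mono hN.le
    have hsubcase : (∃ F₀ : Subfield F, F₀ ≠ ⊤ ∧ RealisableOver F₀ (matrixSet N)) → SubfieldCase Q H := by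
      rintro ⟨F₀, h0, hreal⟩
      obtain ⟨F₁, r, hle, hr, hcard, -⟩ := exists_prime_index h0
      obtain ⟨B, hB⟩ := hreal
      obtain ⟨P, hP, hPN⟩ := le_subfieldSubgroup hN.span_top (hN.normal : Normalises H N) (F₁ := F₁)
        ⟨B, fun s hs i j => hle (hB s hs i j)⟩
      obtain ⟨c, G₁, hc, hG₁, h1, hPG⟩ := exists_rational_gram hN.span_top hinv (P := P) hPN
      rw [twist_refl] at hPG
      rw [Nat.card_eq_fintype_card (α := F)] at hcard
      exact subfieldCase_of_rational (by omega) hH hirr hG hr hcard hP hc hG₁ h1 hPG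
    by_cases hsub : ∃ F₀ : Subfield F, F₀ ≠ ⊤ ∧ RealisableOver F₀ (matrixSet N)
    · exact Or.inr (Or.inr (Or.inr (Or.inr (Or.inr (Or.inl (hsubcase hsub))))))
    refine Or.inr (Or.inr (Or.inr (Or.inr (Or.inr (Or.inr
      ⟨N, hN.residual (fun F₀ h0 h1 => hsub ⟨F₀, h0, h1⟩), ?_⟩)))))
    rintro ⟨σ, f, hf, hfix⟩
    obtain ⟨G', rfl⟩ := exists_gram_unitary hf
    exact hsub (realisable_of_two_forms hN.span_top hinv hf.ne_refl hf.involutive (invariant_iff_fixes.mpr hfix))

end Cfsg.Agent.Lib.MaxClass.OrthEven
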