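import Mathlib
import Cfsg.Prelude.Def_GeometricClasses
import Cfsg.Agent.Lib.SingMax.Planes
import Cfsg.Agent.Lib.MaxClass.NotTop
import Cfsg.Agent.Lib.MaxClass.NotTopSymp
import Cfsg.Agent.Lib.MaxClass.Degree

/-!
In dimension at least eight no member of a geometric class contains the Omega group of a
non-degenerate quadratic form, in any characteristic: Eichler elements are missing.
-/

set_option autoImplicit false
set_option linter.style.haveILetI false
set_option linter.unusedSectionVars false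

namespace Cfsg.Agent.Lib.MaxClass.OrthEven

open Cfsg Cfsg.Geo Matrix QuadraticMap
open scoped Kronecker
open Cfsg.Agent.Lib.MaxClass
open Cfsg.Agent.Lib.FormMax.OrthSL (eichlerGL eichlerGL_mulVec Q_eichlerGL)

variable {ι : Type} [Fintype ι] [DecidableEq ι] {F : Type*} [Field F] {Q : QuadraticForm F (ι → F)}

local notation "E" => eichlerGL Q

theorem polar_self_singular {e : ι → F} (he : Q e = 0) : polar ⇑Q e e = 0 := by
  rw [polar_self, he, smul_zero]

section

variable [Finite F] (hQ : (QuadraticMap.polarBilin Q).Nondegenerate) (hn : 7 ≤ Fintype.card ι)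
include hQ hn

omit hn in
theorem eq_zero_of_polar {x : ι → F} (h : ∀ w, polar ⇑Q x w = 0) : x = 0 := hQ.1 x h

omit hn [Finite F] in
theorem nondegenerateOn_top : IsNondegenerateOn (polar ⇑Q) (⊤ : Submodule F (ι → F)) := by
  intro w _ hw
  obtain ⟨x, hx⟩ : ∃ x, polar ⇑Q w x ≠ 0 := by
    by_contra h
    push Not at h
    exact hw (hQ.1 w h)
  exact ⟨⟨x, trivial, by rwa [polar_comm]⟩, ⟨x, trivial, hx⟩⟩

theorem exists_singular : ∃ e : ι → F, e ≠ 0 ∧ Q e = 0 := by
  obtain ⟨e, -, h0, h⟩ := SingMax.exists_singular_sub (Q := Q) (K := (⊤ : Submodule F (ι → F)))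
    (by rw [finrank_top, Module.finrank_fintype_fun_eq_card]; omega)
  exact ⟨e, h0, h⟩

theorem exists_singular_polar_ne {x : ι → F} (hx : x ≠ 0) : ∃ e, Q e = 0 ∧ polar ⇑Q e x ≠ 0 := by
  by_contra hc
  push Not at hc
  obtain ⟨e, he0, he⟩ := exists_singular hQ hn
  have hspan := SingMax.le_span_singular hQ (nondegenerateOn_top hQ) (Submodule.mem_top (x := e)) he0 he
  have hle : Submodule.span F {z | z ∈ (⊤ : Submodule F (ι → F)) ∧ Q z = 0} ≤
      LinearMap.ker ((QuadraticMap.polarBilin Q).flip x) :=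
    Submodule.span_le.mpr fun z hz => hc z hz.2
  exact hx (eq_zero_of_polar hQ fun w => by
    rw [polar_comm]
    exact hle (hspan (Submodule.mem_top (x := w))))

theorem exists_twoPairs : ∃ e f r s : ι → F, Q e = 0 ∧ Q f = 0 ∧ Q r = 0 ∧ Q s = 0 ∧
    polar ⇑Q e f = 1 ∧ polar ⇑Q r s = 1 ∧ polar ⇑Q e r = 0 ∧ polar ⇑Q e s = 0 ∧
    polar ⇑Q f r = 0 ∧ polar ⇑Q f s = 0 := by
  obtain ⟨e, he0, he⟩ := exists_singular hQ hn
  obtain ⟨f, -, hf, hef⟩ :=
    SingMax.exists_partner_in hQ (nondegenerateOn_top hQ) (Submodule.mem_top (x := e)) he0 he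
  obtain ⟨r, -, hr0, hr, hrc⟩ := SingMax.exists_singular_in (Q := Q) (W := (⊤ : Submodule F (ι → F))) ![e, f]
    (by rw [finrank_top, Module.finrank_fintype_fun_eq_card]; omega)
  have her : polar ⇑Q e r = 0 := hrc 0
  have hfr : polar ⇑Q f r = 0 := hrc 1
  obtain ⟨t, -, -, hrt⟩ :=
    SingMax.exists_partner_in hQ (nondegenerateOn_top hQ) (Submodule.mem_top (x := r)) hr0 hr
  set t' := t - polar ⇑Q f t • e - polar ⇑Q e t • f with ht'
  have h1 : polar ⇑Q e t' = 0 := by
    simp [ht', polar_sub_right, polar_smul_right, polar_self_singular he, hef]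
  have h2 : polar ⇑Q f t' = 0 := by
    simp [ht', polar_sub_right, polar_smul_right, polar_self_singular hf, polar_comm (⇑Q) f e, hef]
  have h3 : polar ⇑Q r t' = 1 := by
    simp [ht', polar_sub_right, polar_smul_right, polar_comm (⇑Q) r e, polar_comm (⇑Q) r f, her, hfr, hrt]
  refine ⟨e, f, r, t' - Q t' • r, he, hf, hr, ?_, hef, ?_, her, ?_, hfr, ?_⟩
  · rw [sub_eq_add_neg, ← neg_smul, QuadraticMap.map_add (⇑Q), QuadraticMap.map_smul, hr, smul_zero, add_zero,
      polar_smul_right, polar_comm _ t' r, h3, smul_eq_mul, mul_one, add_neg_cancel]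
  · rw [polar_sub_right, polar_smul_right, polar_self_singular hr, h3, smul_zero, sub_zero]
  · rw [polar_sub_right, polar_smul_right, her, h1, smul_zero, sub_zero]
  · rw [polar_sub_right, polar_smul_right, hfr, h2, smul_zero, sub_zero]

/-! ### Class 1 -/

theorem not_le_subspaceStabilizer {W : Submodule F (ι → F)} (h0 : W ≠ ⊥) (h1 : W ≠ ⊤) :
    ¬ omegaGL ⇑Q ≤ subspaceStabilizer W := by
  intro hle
  obtain ⟨x, hxW, hx⟩ := W.ne_bot_iff.mp h0
  obtain ⟨e, he, hex⟩ := exists_singular_polar_ne hQ hn hx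
  set c := polar ⇑Q e x with hc
  have key : ∀ a, polar ⇑Q e a = 0 → c • a - (polar ⇑Q a x + Q a * c) • e ∈ W := by
    intro a ha
    have h := (hle (SingMax.E_mem_omega hQ hn he ha) x).mp hxW
    simp only [glToMat, Units.coeHom_apply, SetLike.mem_coe] at h
    have h' := W.sub_mem h hxW
    rw [eichlerGL_mulVec, ← hc] at h'
    convert h' using 1
    abel
  -- two vectors orthogonal to `e` but not to each other
  obtain ⟨a, b, ha, hb, hab⟩ : ∃ a b, polar ⇑Q e a = 0 ∧ polar ⇑Q e b = 0 ∧ polar ⇑Q a b ≠ 0 := by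
    by_contra hcon
    push Not at hcon
    have hle' : polarPerp Q (F ∙ e) ≤ polarPerp Q (polarPerp Q (F ∙ e)) := fun a ha =>
      mem_polarPerp.mpr fun b hb =>
        hcon b a (mem_polarPerp.mp hb e (Submodule.mem_span_singleton_self e))
          (mem_polarPerp.mp ha e (Submodule.mem_span_singleton_self e))
    rw [polarPerp_polarPerp hQ] at hle'
    have hfin := Submodule.finrank_mono hle'
    rw [finrank_polarPerp hQ] at hfin
    have : Module.finrank F (F ∙ e) ≤ 1 := by
      simpa [Set.finrank] using finrank_span_le_card ({e} : Set (ι → F))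
    omega
  have heW : e ∈ W := by
    have h := W.sub_mem (W.sub_mem (key (a + b) (by rw [polar_add_right, ha, hb, add_zero])) (key a ha)) (key b hb)
    have h' : (-(c * polar ⇑Q a b)) • e ∈ W := by
      convert h using 1
      rw [polar_add_left, QuadraticMap.map_add (⇑Q)]
      module
    exact (W.smul_mem_iff (neg_ne_zero.mpr (mul_ne_zero hex hab))).mp h'
  have hperp : ∀ a, polar ⇑Q e a = 0 → a ∈ W := fun a ha => by
    have h := W.add_mem (key a ha) (W.smul_mem (polar ⇑Q a x + Q a * c) heW)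
    rw [sub_add_cancel] at h
    exact (W.smul_mem_iff hex).mp h
  refine h1 (top_unique fun y _ => ?_)
  have hy := hperp (y - (polar ⇑Q e y / c) • x)
    (by rw [polar_sub_right, polar_smul_right, smul_eq_mul, ← hc, div_mul_cancel₀ _ hex, sub_self])
  simpa using W.add_mem hy (W.smul_mem (polar ⇑Q e y / c) hxW)

/-! ### Class 2 -/

theorem not_le_decompositionStabilizer (hn8 : 8 ≤ Fintype.card ι) (hn12 : Fintype.card ι ≤ 12) {t k : ℕ}
    {D : Fin t → Submodule F (ι → F)} (hD : IsMDecomposition k D) :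
    ¬ omegaGL ⇑Q ≤ decompositionStabilizer D := by
  intro hle
  classical
  haveI : Fintype F := Fintype.ofFinite F
  obtain ⟨e, he0, he⟩ := exists_singular hQ hn
  obtain ⟨i, x, hxD, hex⟩ : ∃ i, ∃ x ∈ D i, polar ⇑Q e x ≠ 0 := by
    by_contra hcon
    push Not at hcon
    refine he0 (eq_zero_of_polar hQ fun w => ?_)
    have hle' : iSup D ≤ LinearMap.ker (QuadraticMap.polarBilin Q e) := iSup_le fun i z hz => hcon i z hz
    rw [hD.iSup_eq_top] at hle'
    exact hle' (Submodule.mem_top (x := w))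
  obtain ⟨f, -, hf, hef⟩ :=
    SingMax.exists_partner_in hQ (nondegenerateOn_top hQ) (Submodule.mem_top (x := e)) he0 he
  set A := polarPerp Q (Submodule.span F (Set.range ![e, f])) with hA
  have hAe : ∀ a : A, polar ⇑Q e (a : ι → F) = 0 := fun a =>
    mem_polarPerp.mp a.2 e (Submodule.subset_span ⟨0, rfl⟩)
  have hAf : ∀ a : A, polar ⇑Q f (a : ι → F) = 0 := fun a =>
    mem_polarPerp.mp a.2 f (Submodule.subset_span ⟨1, rfl⟩)
  set φ : A → (ι → F) := fun a => (E e (a : ι → F) he (hAe a) : Matrix ι ι F) *ᵥ x with hφ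
  have hinj : Function.Injective φ := by
    intro a b hab
    simp only [hφ, eichlerGL_mulVec] at hab
    have h : polar ⇑Q e x • ((a : ι → F) - (b : ι → F)) =
        ((polar ⇑Q (a : ι → F) x + Q (a : ι → F) * polar ⇑Q e x) -
          (polar ⇑Q (b : ι → F) x + Q (b : ι → F) * polar ⇑Q e x)) • e := by
      linear_combination (norm := module) hab
    have h' := congrArg (polar ⇑Q f) h
    simp only [polar_smul_right, polar_sub_right, hAf, sub_self, smul_zero, polar_comm (⇑Q) f e, hef,
      smul_eq_mul, mul_one] at h'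
    rw [mul_zero] at h'
    rw [← h', zero_smul, smul_eq_zero] at h
    exact Subtype.ext (sub_eq_zero.mp (h.resolve_left hex))
  have hmem : ∀ a, ∃ j, φ a ∈ D j := fun a => by
    obtain ⟨σ, hσ⟩ := hle (SingMax.E_mem_omega hQ hn he (hAe a))
    exact ⟨σ i, by rw [← hσ i]; exact ⟨x, hxD, Matrix.toLin'_apply _ _⟩⟩
  choose j hj using hmem
  let ψ : A → Σ l : Fin t, D l := fun a => ⟨j a, φ a, hj a⟩
  have hψ : Function.Injective ψ := fun a b hab => hinj (congrArg (fun p : Σ l : Fin t, D l => (p.2 : ι → F)) hab)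
  have hcard := Nat.card_le_card_of_injective ψ hψ
  rw [Nat.card_sigma, Finset.sum_congr rfl (fun l _ => by
    rw [Module.natCard_eq_pow_finrank (K := F), hD.finrank_eq l] :
      ∀ l ∈ Finset.univ, Nat.card (D l) = Nat.card F ^ k), Finset.sum_const, Finset.card_univ, Fintype.card_fin,
    smul_eq_mul, Module.natCard_eq_pow_finrank (K := F) (V := A)] at hcard
  have hfinA : Fintype.card ι - 2 ≤ Module.finrank F A := by
    rw [hA, finrank_polarPerp hQ]
    have : Module.finrank F (Submodule.span F (Set.range ![e, f])) ≤ 2 :=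
      (finrank_range_le_card _).trans_eq (Fintype.card_fin 2)
    omega
  have htk := isMDecomposition_card hD
  have ht2 := hD.two_le
  have hk := hD.pos
  have hq : 2 ≤ Nat.card F := Finite.one_lt_card
  have h1 : Nat.card F ^ (Fintype.card ι - 2) ≤ t * Nat.card F ^ k :=
    (Nat.pow_le_pow_right (by omega) hfinA).trans hcard
  have hkle : k ≤ Fintype.card ι - 2 := by
    have : 2 * k ≤ t * k := Nat.mul_le_mul_right k ht2
    omega
  rw [← Nat.sub_add_cancel hkle, pow_add] at h1
  have h2 : Nat.card F ^ (Fintype.card ι - 2 - k) ≤ t := Nat.le_of_mul_le_mul_right h1 (pow_pos (by omega) k)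
  have h3 : 2 ^ (Fintype.card ι - 2 - k) ≤ t := (Nat.pow_le_pow_left hq _).trans h2
  have ht12 : t ≤ 12 := by
    have : t * 1 ≤ t * k := Nat.mul_le_mul_left t hk
    omega
  have hk6 : k ≤ 6 := by
    have : 2 * k ≤ t * k := Nat.mul_le_mul_right k ht2
    omega
  rw [← htk] at h3 hn8
  have key : ∀ t ≤ 12, ∀ k ≤ 6, 2 ≤ t → 1 ≤ k → 8 ≤ t * k → t * k ≤ 12 → ¬ 2 ^ (t * k - 2 - k) ≤ t := by
    intro t ht k hk
    interval_cases t <;> interval_cases k <;> norm_num
  exact key t ht12 k hk6 ht2 hk hn8 (htk ▸ hn12) h3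

/-- A matrix commuting with all Eichler elements is scalar. -/
theorem scalar_of_commute {k : Matrix ι ι F}
    (hk : ∀ e a (he : Q e = 0) (ha : polar ⇑Q e a = 0),
      (E e a he ha : Matrix ι ι F) * k = k * (E e a he ha : Matrix ι ι F)) :
    ∃ c : F, k = c • 1 := by
  haveI : Nonempty ι := Fintype.card_pos_iff.mp (by omega)
  -- singular vectors are eigenvectors
  have heig : ∀ e : ι → F, Q e = 0 → e ≠ 0 → ∃ p : F, k *ᵥ e = p • e := by
    intro e he he0
    obtain ⟨f, -, hf, hef⟩ :=
      SingMax.exists_partner_in hQ (nondegenerateOn_top hQ) (Submodule.mem_top (x := e)) he0 he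
    obtain ⟨r, -, hr0, hr, hrc⟩ := SingMax.exists_singular_in (Q := Q) (W := (⊤ : Submodule F (ι → F))) ![e, f]
      (by rw [finrank_top, Module.finrank_fintype_fun_eq_card]; omega)
    obtain ⟨t, -, -, hrt⟩ :=
      SingMax.exists_partner_in hQ (nondegenerateOn_top hQ) (Submodule.mem_top (x := r)) hr0 hr
    set t' := t - polar ⇑Q e t • f with ht'
    have h1 : polar ⇑Q e t' = 0 := by simp [ht', polar_sub_right, polar_smul_right, hef]
    have hfr : polar ⇑Q f r = 0 := hrc 1
    have her : polar ⇑Q e r = 0 := hrc 0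
    have h3 : polar ⇑Q r t' = 1 := by
      simp [ht', polar_sub_right, polar_smul_right, polar_comm (⇑Q) r f, hfr, hrt]
    have hcomb : ∀ a z, polar ⇑Q e a = 0 → polar ⇑Q e z = 0 → polar ⇑Q a z = 1 →
        ∃ p q : F, k *ᵥ e = p • e + q • a := by
      intro a z ha hz haz
      have h := congrArg (fun A : Matrix ι ι F => A *ᵥ z) (hk e a he ha)
      simp only [← Matrix.mulVec_mulVec, eichlerGL_mulVec, hz, haz, zero_smul, add_zero, mul_zero, one_smul,
        Matrix.mulVec_sub] at h
      refine ⟨polar ⇑Q a (k *ᵥ z) + Q a * polar ⇑Q e (k *ᵥ z), -polar ⇑Q e (k *ᵥ z), ?_⟩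
      linear_combination (norm := module) h
    obtain ⟨p, q, hpq⟩ := hcomb r t' her h1 h3
    obtain ⟨p', q', hpq'⟩ := hcomb t' r h1 her (by rw [polar_comm]; exact h3)
    have hh := congrArg (polar ⇑Q r) (hpq.symm.trans hpq')
    simp only [polar_add_right, polar_smul_right, polar_comm (⇑Q) r e, her, polar_self_singular hr, h3,
      smul_eq_mul, mul_zero, zero_add, add_zero, mul_one] at hh
    refine ⟨p', ?_⟩
    rw [hpq', ← hh, zero_smul, add_zero]
  have hsame : ∀ e r : ι → F, Q e = 0 → Q r = 0 → polar ⇑Q e r = 0 → LinearIndependent F ![e, r] →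
      ∀ p : F, k *ᵥ e = p • e → k *ᵥ r = p • r := by
    intro e r he hr her hli p hp
    have he0 : e ≠ 0 := by simpa using hli.ne_zero 0
    have hr0 : r ≠ 0 := by simpa using hli.ne_zero 1
    obtain ⟨p', hp'⟩ := heig r hr hr0
    obtain ⟨p'', hp''⟩ := heig (e + r) (by rw [QuadraticMap.map_add (⇑Q), he, hr, her, add_zero, add_zero])
      (fun h => by
        have := (LinearIndependent.pair_iff.mp hli 1 1 (by simpa using h)).1
        exact one_ne_zero this)
    rw [Matrix.mulVec_add, hp, hp'] at hp''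
    have hz := LinearIndependent.pair_iff.mp hli (p - p'') (p' - p'')
      (by linear_combination (norm := module) hp'')
    rw [hp', sub_eq_zero.mp hz.1, sub_eq_zero.mp hz.2]
  obtain ⟨e, he0, he⟩ := exists_singular hQ hn
  obtain ⟨p, hp⟩ := heig e he he0
  refine ⟨p, ?_⟩
  have hall : ∀ f : ι → F, Q f = 0 → k *ᵥ f = p • f := by
    intro f hf
    by_cases hdep : ∃ c : F, f = c • e
    · obtain ⟨c, rfl⟩ := hdep
      rw [Matrix.mulVec_smul, hp, smul_comm]
    push Not at hdep
    by_cases hef : polar ⇑Q e f = 0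
    · exact hsame e f he hf hef ((LinearIndependent.pair_iff' he0).mpr fun c h => hdep c h.symm) p hp
    obtain ⟨r, -, hr0, hr, hrc⟩ := SingMax.exists_singular_in (Q := Q) (W := (⊤ : Submodule F (ι → F))) ![e, f]
      (by rw [finrank_top, Module.finrank_fintype_fun_eq_card]; omega)
    have her : polar ⇑Q e r = 0 := hrc 0
    have hfr : polar ⇑Q f r = 0 := hrc 1
    have hr1 : k *ᵥ r = p • r := hsame e r he hr her ((LinearIndependent.pair_iff' he0).mpr fun c h => by
      rcases eq_or_ne c 0 with hc | hc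
      · exact hr0 (by rw [← h, hc, zero_smul])
      · rw [← h, polar_smul_right, smul_eq_mul, mul_eq_zero, polar_comm] at hfr
        exact hef (hfr.resolve_left hc)) p hp
    exact hsame r f hr hf (by rw [polar_comm]; exact hfr) ((LinearIndependent.pair_iff' hr0).mpr fun c h => by
      rw [← h, polar_smul_right, her, smul_zero] at hef
      exact hef rfl) p hr1
  have hspan := SingMax.le_span_singular hQ (nondegenerateOn_top hQ) (Submodule.mem_top (x := e)) he0 he
  refine Matrix.ext_of_mulVec_single fun i => ?_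
  rw [Matrix.smul_mulVec, Matrix.one_mulVec]
  have hker : Submodule.span F {z | z ∈ (⊤ : Submodule F (ι → F)) ∧ Q z = 0} ≤
      LinearMap.ker (Matrix.toLin' k - p • LinearMap.id) := by
    refine Submodule.span_le.mpr fun z hz => ?_
    simp [hall z hz.2]
  have h := hker (hspan (Submodule.mem_top (x := Pi.single i (1 : F))))
  rw [LinearMap.mem_ker, LinearMap.sub_apply, sub_eq_zero, Matrix.toLin'_apply] at h
  exact h

/-! ### Class 3 -/

theorem not_le_subalgebraNormalizer {r : ℕ} (hr : 2 ≤ r) {K : Subalgebra F (Matrix ι ι F)}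
    (hK : IsFieldSubalgebra r K) : ¬ omegaGL ⇑Q ≤ subalgebraNormalizer K := by
  intro hle
  haveI : Nonempty ι := Fintype.card_pos_iff.mp (by omega)
  obtain ⟨k, hk, hkns⟩ := exists_notMem_bot_of_finrank hr hK
  obtain ⟨c, hc⟩ := scalar_of_commute hQ hn (k := k) fun e a he ha => by
    set T := E e a he ha with hT
    have hk' := (hle (SingMax.E_mem_omega hQ hn he ha) k).mp hk
    set k' := (T : Matrix ι ι F) * k * ((T⁻¹ : GL ι F) : Matrix ι ι F) with hk'def
    let φ : (ι → F) →ₗ[F] Fin 4 → F := LinearMap.pi ![(QuadraticMap.polarBilin Q) e, (QuadraticMap.polarBilin Q) a,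
      ((QuadraticMap.polarBilin Q) e).comp (Matrix.mulVecLin k),
      ((QuadraticMap.polarBilin Q) a).comp (Matrix.mulVecLin k)]
    have hker : LinearMap.ker φ ≠ ⊥ := LinearMap.ker_ne_bot_of_finrank_lt (by simp; omega)
    obtain ⟨x, hx, hx0⟩ := (Submodule.ne_bot_iff _).mp hker
    have hx' := congrFun (LinearMap.mem_ker.mp hx)
    have c0 : polar ⇑Q e x = 0 := hx' 0
    have c1 : polar ⇑Q a x = 0 := hx' 1
    have c2 : polar ⇑Q e (k *ᵥ x) = 0 := hx' 2
    have c3 : polar ⇑Q a (k *ᵥ x) = 0 := hx' 3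
    have hTx : (T : Matrix ι ι F) *ᵥ x = x := by rw [hT, eichlerGL_mulVec, c0, c1]; simp
    have hTi : ((T⁻¹ : GL ι F) : Matrix ι ι F) *ᵥ x = x := by
      conv_lhs => rw [← hTx]
      rw [Matrix.mulVec_mulVec, Units.inv_mul, Matrix.one_mulVec]
    have hk'x : k' *ᵥ x = k *ᵥ x := by
      rw [hk'def, ← Matrix.mulVec_mulVec, ← Matrix.mulVec_mulVec, hTi, hT, eichlerGL_mulVec, c2, c3]
      simp
    have heq : k' = k := by
      by_contra hne
      obtain ⟨y, -, hy⟩ := hK.inv (k' - k) (K.sub_mem hk' hk) (sub_ne_zero.mpr hne)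
      have hy' : y * (k' - k) = 1 := mul_eq_one_comm.mp hy
      have := congrArg (fun A : Matrix ι ι F => A *ᵥ x) hy'
      simp only [← Matrix.mulVec_mulVec, Matrix.one_mulVec, Matrix.sub_mulVec, hk'x, sub_self, Matrix.mulVec_zero]
        at this
      exact hx0 this.symm
    conv_rhs => rw [← heq, hk'def, mul_assoc, Units.inv_mul, mul_one]
  exact hkns c hc

/-! ### Class 4 -/

theorem not_le_tensorProductSubgroup (hn8 : 8 ≤ Fintype.card ι) {n₁ n₂ : ℕ} (h1 : 2 ≤ n₁) (h2 : 2 ≤ n₂)
    (π : ι ≃ Fin n₁ × Fin n₂) (P : GL ι F) : ¬ omegaGL ⇑Q ≤ tensorProductSubgroup n₁ n₂ π P := by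
  intro hle
  haveI : Nonempty ι := Fintype.card_pos_iff.mp (by omega)
  haveI : Nonempty (Fin n₁) := ⟨⟨0, by omega⟩⟩
  haveI : Nonempty (Fin n₂) := ⟨⟨0, by omega⟩⟩
  have hcard := Fintype.card_congr π
  rw [Fintype.card_prod, Fintype.card_fin, Fintype.card_fin] at hcard
  -- an element of the stabiliser moving a space of dimension at most two has a scalar factor
  have hscalar : ∀ {d d' : ℕ} (π' : ι ≃ Fin d × Fin d') (A : Matrix (Fin d) (Fin d) F)
      (B : Matrix (Fin d') (Fin d') F) (M : Matrix ι ι F) (S : Submodule F (ι → F)), Module.finrank F S ≤ 2 →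
      (∀ x, M *ᵥ x - x ∈ S) → (∀ i j, M i j = A (π' i).1 (π' j).1 * B (π' i).2 (π' j).2) → 3 ≤ d → 0 < d' →
      ∃ c : F, B = c • 1 := by
    intro d d' π' A B M S hS himg hval hd hd'
    haveI : Nonempty (Fin d') := ⟨⟨0, hd'⟩⟩
    by_contra hc
    obtain ⟨y, hy0, hy⟩ : ∃ y : Fin d' → F, y ≠ 0 ∧ ∀ c : F, B *ᵥ y ≠ c • y := by
      by_contra hcon
      push Not at hcon
      exact hc (exists_smul_of_lines hcon)
    let L : (Fin d → F) →ₗ[F] (ι → F) :=
      { toFun := fun c i => (A *ᵥ c) (π' i).1 * (B *ᵥ y) (π' i).2 - c (π' i).1 * y (π' i).2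
        map_add' := fun c c' => by
          funext i
          simp only [Matrix.mulVec_add, Pi.add_apply]
          ring
        map_smul' := fun s c => by
          funext i
          simp only [Matrix.mulVec_smul, Pi.smul_apply, smul_eq_mul, RingHom.id_apply]
          ring }
    have hLS : ∀ c, L c ∈ S := by
      intro c
      convert himg (fun i => c (π' i).1 * y (π' i).2) using 1
      funext i
      show (A *ᵥ c) (π' i).1 * (B *ᵥ y) (π' i).2 - c (π' i).1 * y (π' i).2 = _
      rw [Pi.sub_apply]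
      congr 1
      simp only [Matrix.mulVec, dotProduct]
      rw [← π'.symm.sum_comp, Fintype.sum_prod_type, Finset.sum_mul_sum]
      refine Finset.sum_congr rfl fun z _ => Finset.sum_congr rfl fun w _ => ?_
      rw [hval, Equiv.apply_symm_apply]
      ring
    have hinj : Function.Injective (L.codRestrict S hLS) := by
      rw [← LinearMap.ker_eq_bot, LinearMap.ker_codRestrict, LinearMap.ker_eq_bot']
      intro c hc0
      by_contra hne
      obtain ⟨i, hi⟩ := Function.ne_iff.mp hne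
      have hrel : ∀ j, (A *ᵥ c) i * (B *ᵥ y) j = c i * y j := fun j => by
        have := congrFun hc0 (π'.symm (i, j))
        simpa [L, sub_eq_zero] using this
      have hA : (A *ᵥ c) i ≠ 0 := by
        intro h0
        refine hy0 (funext fun j => ?_)
        have := hrel j
        rw [h0, zero_mul] at this
        exact (mul_eq_zero.mp this.symm).resolve_left hi
      refine hy (c i / (A *ᵥ c) i) (funext fun j => ?_)
      rw [Pi.smul_apply, smul_eq_mul, div_mul_eq_mul_div, eq_div_iff hA, mul_comm ((B *ᵥ y) j), hrel]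
    have := LinearMap.finrank_le_finrank_of_injective hinj
    rw [Module.finrank_fintype_fun_eq_card, Fintype.card_fin] at this
    omega
  -- every Eichler element, in the frame
  have hform : ∀ e a (he : Q e = 0) (ha : polar ⇑Q e a = 0), ∃ (A : Matrix (Fin n₁) (Fin n₁) F)
      (B : Matrix (Fin n₂) (Fin n₂) F), (∀ i j, ((P⁻¹ * E e a he ha * P : GL ι F) : Matrix ι ι F) i j =
        A (π i).1 (π j).1 * B (π i).2 (π j).2) ∧ (3 ≤ n₁ → ∃ c : F, B = c • 1) ∧
        (3 ≤ n₂ → ∃ c : F, A = c • 1) := by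
    intro e a he ha
    obtain ⟨x, ⟨k, ⟨A, B, hk⟩, rfl⟩, hx⟩ := hle (SingMax.E_mem_omega hQ hn he ha)
    have hM : P⁻¹ * E e a he ha * P = glReindex π.symm k := by
      rw [← hx]
      show P⁻¹ * (P * glReindex π.symm k * P⁻¹) * P = glReindex π.symm k
      group
    have hval : ∀ i j, ((P⁻¹ * E e a he ha * P : GL ι F) : Matrix ι ι F) i j =
        (A : Matrix (Fin n₁) (Fin n₁) F) (π i).1 (π j).1 * (B : Matrix (Fin n₂) (Fin n₂) F) (π i).2 (π j).2 := by
      intro i j
      rw [hM]
      simp [glReindex, Matrix.reindex_apply, hk]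
    set M := P⁻¹ * E e a he ha * P with hMdef
    set u₁ := ((P⁻¹ : GL ι F) : Matrix ι ι F) *ᵥ e
    set u₂ := ((P⁻¹ : GL ι F) : Matrix ι ι F) *ᵥ a
    set S := Submodule.span F (Set.range ![u₁, u₂]) with hS
    have hSfin : Module.finrank F S ≤ 2 := (finrank_range_le_card _).trans_eq (Fintype.card_fin 2)
    have himg : ∀ x : ι → F, (M : Matrix ι ι F) *ᵥ x - x ∈ S := by
      intro x
      rw [hMdef, Units.val_mul, Units.val_mul, ← Matrix.mulVec_mulVec, ← Matrix.mulVec_mulVec, eichlerGL_mulVec,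
        Matrix.mulVec_sub, Matrix.mulVec_add, Matrix.mulVec_smul, Matrix.mulVec_smul, Matrix.mulVec_mulVec,
        Units.inv_mul, Matrix.one_mulVec, add_sub_assoc, add_sub_cancel_left]
      exact S.sub_mem (S.smul_mem _ (Submodule.subset_span ⟨1, rfl⟩)) (S.smul_mem _ (Submodule.subset_span ⟨0, rfl⟩))
    exact ⟨A, B, hval, fun hd => hscalar π _ _ _ S hSfin himg hval hd (by omega),
      fun hd => hscalar (π.trans (Equiv.prodComm _ _)) _ _ _ S hSfin himg
        (fun i j => (hval i j).trans (mul_comm _ _)) hd (by omega)⟩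
  rcases (show 3 ≤ n₁ ∨ 3 ≤ n₂ by
    by_contra hcon
    push Not at hcon
    have := Nat.mul_le_mul (show n₁ ≤ 2 by omega) (show n₂ ≤ 2 by omega)
    omega) with hd | hd
  · -- the second factor is scalar: everything commutes with the second factor
    let X : Matrix (Fin n₂) (Fin n₂) F := Matrix.single ⟨0, by omega⟩ ⟨1, by omega⟩ 1
    set k : Matrix ι ι F := (P : Matrix ι ι F) *
      ((1 : Matrix (Fin n₁) (Fin n₁) F) ⊗ₖ X).submatrix π π * ((P⁻¹ : GL ι F) : Matrix ι ι F) with hkdef
    obtain ⟨c, hc⟩ := scalar_of_commute hQ hn (k := k) fun e a he ha => by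
      obtain ⟨A, B, hval, hB, -⟩ := hform e a he ha
      obtain ⟨cB, hcB⟩ := hB hd
      set M := P⁻¹ * E e a he ha * P with hM
      have hMk : (M : Matrix ι ι F) = (A ⊗ₖ (cB • (1 : Matrix (Fin n₂) (Fin n₂) F))).submatrix π π := by
        ext i j; rw [hval, hcB]; rfl
      have hcomm : (M : Matrix ι ι F) * ((1 : Matrix (Fin n₁) (Fin n₁) F) ⊗ₖ X).submatrix π π =
          ((1 : Matrix (Fin n₁) (Fin n₁) F) ⊗ₖ X).submatrix π π * (M : Matrix ι ι F) := by
        rw [hMk, Matrix.submatrix_mul_equiv, Matrix.submatrix_mul_equiv,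
          ← Matrix.mul_kronecker_mul, ← Matrix.mul_kronecker_mul]
        simp
      have hE : (E e a he ha : Matrix ι ι F) = (P : Matrix ι ι F) * (M : Matrix ι ι F) * ((P⁻¹ : GL ι F) : Matrix ι ι F) := by
        rw [← Units.val_mul, ← Units.val_mul, hM]; congr 1; group
      rw [hE, hkdef]
      simp only [mul_assoc, Units.inv_mul_cancel_left]
      rw [← mul_assoc (M : Matrix ι ι F), hcomm, mul_assoc]
    have h' : ((1 : Matrix (Fin n₁) (Fin n₁) F) ⊗ₖ X).submatrix π π = c • 1 := by
      have := congrArg (fun Y => ((P⁻¹ : GL ι F) : Matrix ι ι F) * Y * (P : Matrix ι ι F)) hc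
      simpa [hkdef, mul_assoc] using this
    have h'' := congrFun (congrFun h' (π.symm (⟨0, by omega⟩, ⟨0, by omega⟩))) (π.symm (⟨0, by omega⟩, ⟨1, by omega⟩))
    simp [X] at h''
  · let X : Matrix (Fin n₁) (Fin n₁) F := Matrix.single ⟨0, by omega⟩ ⟨1, by omega⟩ 1
    set k : Matrix ι ι F := (P : Matrix ι ι F) *
      (X ⊗ₖ (1 : Matrix (Fin n₂) (Fin n₂) F)).submatrix π π * ((P⁻¹ : GL ι F) : Matrix ι ι F) with hkdef
    obtain ⟨c, hc⟩ := scalar_of_commute hQ hn (k := k) fun e a he ha => by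
      obtain ⟨A, B, hval, -, hA⟩ := hform e a he ha
      obtain ⟨cA, hcA⟩ := hA hd
      set M := P⁻¹ * E e a he ha * P with hM
      have hMk : (M : Matrix ι ι F) = ((cA • (1 : Matrix (Fin n₁) (Fin n₁) F)) ⊗ₖ B).submatrix π π := by
        ext i j; rw [hval, hcA]; rfl
      have hcomm : (M : Matrix ι ι F) * (X ⊗ₖ (1 : Matrix (Fin n₂) (Fin n₂) F)).submatrix π π =
          (X ⊗ₖ (1 : Matrix (Fin n₂) (Fin n₂) F)).submatrix π π * (M : Matrix ι ι F) := by
        rw [hMk, Matrix.submatrix_mul_equiv, Matrix.submatrix_mul_equiv,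
          ← Matrix.mul_kronecker_mul, ← Matrix.mul_kronecker_mul]
        simp
      have hE : (E e a he ha : Matrix ι ι F) = (P : Matrix ι ι F) * (M : Matrix ι ι F) * ((P⁻¹ : GL ι F) : Matrix ι ι F) := by
        rw [← Units.val_mul, ← Units.val_mul, hM]; congr 1; group
      rw [hE, hkdef]
      simp only [mul_assoc, Units.inv_mul_cancel_left]
      rw [← mul_assoc (M : Matrix ι ι F), hcomm, mul_assoc]
    have h' : (X ⊗ₖ (1 : Matrix (Fin n₂) (Fin n₂) F)).submatrix π π = c • 1 := by
      have := congrArg (fun Y => ((P⁻¹ : GL ι F) : Matrix ι ι F) * Y * (P : Matrix ι ι F)) hc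
      simpa [hkdef, mul_assoc] using this
    have h'' := congrFun (congrFun h' (π.symm (⟨0, by omega⟩, ⟨0, by omega⟩))) (π.symm (⟨1, by omega⟩, ⟨0, by omega⟩))
    simp [X] at h''

/-! ### Class 5 -/

theorem not_le_subfieldSubgroup {F₀ : Subfield F} (hF : F₀ ≠ ⊤) (P : GL ι F) :
    ¬ omegaGL ⇑Q ≤ subfieldSubgroup F₀ P := by
  intro hle
  obtain ⟨p, hchar⟩ := CharP.exists F
  haveI hp : Fact p.Prime := ⟨CharP.char_is_prime F p⟩
  haveI : Nonempty ι := Fintype.card_pos_iff.mp (by omega)
  have hpow : ∀ e a (he : Q e = 0) (ha : polar ⇑Q e a = 0) (l : ℕ),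
      E e a he ha ^ l = E e (l • a) he (by rw [← Nat.cast_smul_eq_nsmul F, polar_smul_right, ha, smul_zero]) := by
    intro e a he ha l
    induction l with
    | zero =>
      refine SingMax.gl_ext' fun x => ?_
      rw [pow_zero, eichlerGL_mulVec]
      simp
    | succ l ih =>
      rw [pow_succ, ih, SingMax.E_add]
      congr 1
      rw [succ_nsmul]
  have hreal : ∀ e a (he : Q e = 0) (ha : polar ⇑Q e a = 0) (i j : ι),
      ((P⁻¹ * E e a he ha * P : GL ι F) : Matrix ι ι F) i j ∈ F₀ := by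
    intro e a he ha i j
    obtain ⟨x, hx, hxe⟩ := hle (SingMax.E_mem_omega hQ hn he ha)
    have hxt : x = P⁻¹ * E e a he ha * P := by
      rw [← hxe]
      show x = P⁻¹ * (P * x * P⁻¹) * P
      group
    subst hxt
    set g := P⁻¹ * E e a he ha * P with hgdef
    obtain ⟨_, ⟨A', rfl⟩, z, hz, haz⟩ := Subgroup.mem_sup_of_normal_right.mp hx
    obtain ⟨d, hd⟩ := (mem_scalars_iff z).mp hz
    set A := Matrix.GeneralLinearGroup.map (F₀.subtype : F₀ →+* F) A' with hA
    have hAval : ∀ (b : GL ι F₀) (k l : ι),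
        (Matrix.GeneralLinearGroup.map (F₀.subtype : F₀ →+* F) b : Matrix ι ι F) k l ∈ F₀ := fun b k l =>
      ((b : Matrix ι ι F₀) k l).2
    have hgp : g ^ p = 1 := by
      rw [hgdef, show P⁻¹ * E e a he ha * P = P⁻¹ * E e a he ha * (P⁻¹)⁻¹ by rw [inv_inv],
        conj_pow, hpow]
      have : E e (p • a) he (by rw [← Nat.cast_smul_eq_nsmul F, polar_smul_right, ha, smul_zero]) = 1 := by
        refine SingMax.gl_ext' fun x => ?_
        rw [eichlerGL_mulVec, ← Nat.cast_smul_eq_nsmul F, CharP.cast_eq_zero]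
        simp
      rw [this]
      group
    have hzc : Commute A z := by
      apply Units.ext
      rw [Units.val_mul, Units.val_mul, hd, Matrix.smul_mul, one_mul, Matrix.mul_smul, mul_one]
    have hdp : (d : F) ^ p ∈ F₀ := by
      obtain ⟨l⟩ := (inferInstance : Nonempty ι)
      have h1 : A ^ p * z ^ p = 1 := by rw [← hzc.mul_pow, haz, hgp]
      have hzp : ((z ^ p : GL ι F) : Matrix ι ι F) = (d : F) ^ p • 1 := by
        rw [Units.val_pow_eq_pow_val, hd, smul_pow, one_pow]
      have h3 := congrArg (fun X : GL ι F => (X : Matrix ι ι F) l l) h1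
      simp only [Units.val_mul, hzp, Matrix.mul_smul, mul_one, Matrix.smul_apply, smul_eq_mul, Units.val_one,
        Matrix.one_apply_eq] at h3
      rw [hA, ← map_pow] at h3
      rw [← inv_inv ((d : F) ^ p), inv_eq_of_mul_eq_one_right h3]
      exact F₀.inv_mem (hAval _ l l)
    have hdmem : (d : F) ∈ F₀ := by
      obtain ⟨w, hw⟩ := surjective_frobenius F₀ p ⟨_, hdp⟩
      have hw' : (w : F) ^ p = (d : F) ^ p := congrArg Subtype.val hw
      rw [← (frobenius_inj F p) (show frobenius F p (w : F) = frobenius F p (d : F) from hw')]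
      exact w.2
    rw [← haz, Units.val_mul, hd, Matrix.mul_smul, mul_one, Matrix.smul_apply, smul_eq_mul]
    exact F₀.mul_mem hdmem (hAval A' i j)
  obtain ⟨e, f, r, s, he, hf, hr, hs, hef, hrs, her, hes, hfr, hfs⟩ := exists_twoPairs hQ hn
  have hsr : ∀ c : F, polar ⇑Q e (c • r) = 0 := fun c => by rw [polar_smul_right, her, smul_zero]
  set N : F → Matrix ι ι F := fun c =>
    ((P⁻¹ * E e (c • r) he (hsr c) * P : GL ι F) : Matrix ι ι F) - 1 with hN
  have hNmem : ∀ c i j, N c i j ∈ F₀ := fun c i j => by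
    simp only [hN, Matrix.sub_apply]
    refine F₀.sub_mem (hreal _ _ _ _ i j) ?_
    rw [Matrix.one_apply]
    split_ifs
    · exact F₀.one_mem
    · exact F₀.zero_mem
  have hNlin : ∀ c, N c = c • N 1 := by
    intro c
    refine Matrix.ext_iff_mulVec.mpr fun x => ?_
    simp only [hN, Matrix.smul_mulVec, Matrix.sub_mulVec, Units.val_mul, ← Matrix.mulVec_mulVec,
      eichlerGL_mulVec, Matrix.mulVec_sub, Matrix.mulVec_add, Matrix.mulVec_smul, Matrix.one_mulVec,
      QuadraticMap.map_smul, hr, smul_zero, zero_mul, add_zero, polar_smul_left, smul_eq_mul, one_smul]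
    rw [Matrix.mulVec_mulVec, Units.inv_mul, Matrix.one_mulVec]
    module
  refine hF (top_unique fun c _ => ?_)
  obtain ⟨i, j, hij⟩ : ∃ i j, N 1 i j ≠ 0 := by
    by_contra hcon
    push Not at hcon
    have h0 : N 1 = 0 := Matrix.ext hcon
    have h1 := sub_eq_zero.mp h0
    have h2 : E e ((1 : F) • r) he (hsr 1) = 1 := by
      have h3 : P⁻¹ * E e ((1 : F) • r) he (hsr 1) * P = 1 := Units.ext h1
      calc _ = P * (P⁻¹ * E e ((1 : F) • r) he (hsr 1) * P) * P⁻¹ := by group
        _ = 1 := by rw [h3]; group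
    have h4 := congrArg (fun g : GL ι F => (g : Matrix ι ι F) *ᵥ f) h2
    simp only [eichlerGL_mulVec, one_smul, hr, zero_mul, add_zero, hef, Units.val_one, Matrix.one_mulVec] at h4
    have h5 := congrArg (polar ⇑Q s) h4
    simp [polar_add_right, polar_sub_right, polar_smul_right, polar_comm (⇑Q) s r, polar_comm (⇑Q) s e,
      polar_comm (⇑Q) s f, hrs, hes, hfs] at h5
  have h1 := hNmem c i j
  rw [hNlin, Matrix.smul_apply, smul_eq_mul] at h1
  have := F₀.mul_mem h1 (F₀.inv_mem (hNmem 1 i j))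
  rwa [mul_assoc, mul_inv_cancel₀ hij, mul_one] at this

end

end Cfsg.Agent.Lib.MaxClass.OrthEven
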