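import Mathlib
import Cfsg.Prelude.Def_GeometricClasses
import Cfsg.Agent.Lib.MaxClass.OrthEven.CasesMain
import Cfsg.Agent.Lib.MaxClass.OrthEven.NotTop
import Cfsg.Agent.Lib.MaxClass.LinearMax
import Cfsg.Agent.Lib.NonMax.OrthTools

/-!
Maximal subgroups in the reducible and subfield cases, common to the dimensions eight, ten and twelve.
-/

set_option autoImplicit false
set_option linter.style.haveILetI false
set_option linter.unusedSectionVars false

namespace Cfsg.Agent.Lib.MaxClass.OrthEven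

open Cfsg Cfsg.Geo Matrix QuadraticMap
open Cfsg.Agent.Lib.Aschbacher Cfsg.Agent.Lib.MaxClass

variable {ι : Type} [Fintype ι] [DecidableEq ι] {F : Type*} [Field F] [Fintype F] {Q : QuadraticForm F (ι → F)}

/-- A maximal subgroup lies in no subgroup with something strictly above it. -/
theorem false_of_between {G : Type*} [Group G] {S X H : Subgroup G} (hH : IsMaximalIn S H) (hle : H ≤ X)
    (hK : ∃ K, X ⊓ S < K ∧ K < S) : False := by
  obtain ⟨K, h1, h2⟩ := hK
  have hHK : H ≤ X ⊓ S := le_inf hle hH.1.le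
  rcases hH.2 K (hHK.trans h1.le) h2.le with h | h
  · exact absurd (h ▸ h1) (not_lt_of_ge hHK)
  · exact h2.ne h

theorem isNondegenerateQuadraticForm_coe (hQ : (QuadraticMap.polarBilin Q).Nondegenerate) :
    IsNondegenerateQuadraticForm (⇑Q) := by
  refine ⟨fun c v => by rw [QuadraticMap.map_smul, smul_eq_mul, pow_two],
    ⟨fun x y v => by rw [polar_add_left], fun c x v => by rw [polar_smul_left, smul_eq_mul],
      fun v x y => by rw [polar_add_right], fun c v x => by rw [polar_smul_right, smul_eq_mul]⟩, fun v hv => ?_⟩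
  obtain ⟨x, hx⟩ : ∃ x, polar ⇑Q v x ≠ 0 := by
    by_contra h
    push Not at h
    exact hv (hQ.1 v h)
  exact ⟨⟨x, by rwa [polar_comm]⟩, ⟨x, hx⟩⟩

theorem le_isometryGroup {H : Subgroup (GL ι F)} (hH : IsMaximalIn (omegaGL ⇑Q) H) :
    H ≤ isometryGroup F ⇑Q :=
  hH.1.le.trans fun _ hg => Subgroup.map_subtype_le _ hg

theorem not_odd_card (h2 : (2 : F) = 0) : ¬ Odd (Fintype.card F) := fun h => two_ne_zero_of_odd h h2

theorem odd_card (h2 : (2 : F) ≠ 0) : Odd (Fintype.card F) :=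
  (two_eq_zero_or_odd (F := F)).elim (fun h => absurd h h2) And.right

/-- A maximal group stabilising a totally singular subspace. -/
theorem eq_of_singular (hQ : (QuadraticMap.polarBilin Q).Nondegenerate) (hn : 7 ≤ Fintype.card ι)
    {H : Subgroup (GL ι F)} (hH : IsMaximalIn (omegaGL ⇑Q) H) {W : Submodule F (ι → F)} (h0 : W ≠ ⊥)
    (hW : IsTotallySingularQuad (⇑Q) W) (hle : H ≤ subspaceStabilizer W) :
    H = subspaceStabilizer W ⊓ omegaGL ⇑Q := by
  refine eq_inf_of_maximal_le hH hle (not_le_subspaceStabilizer hQ hn h0 fun h => ?_)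
  obtain ⟨v, -, hv⟩ := W.ne_bot_iff.mp h0
  refine hv (hQ.1 v fun w => ?_)
  show polar ⇑Q v w = 0
  rw [QuadraticMap.polar, hW _ (h ▸ Submodule.mem_top), hW v (h ▸ Submodule.mem_top), hW w (h ▸ Submodule.mem_top)]
  simp

theorem top_ne_of_finrank {W : Submodule F (ι → F)} (h : Module.finrank F W < Fintype.card ι) : W ≠ ⊤ := by
  rintro rfl
  rw [finrank_top, Module.finrank_fintype_fun_eq_card] at h
  omega

/-- A maximal group stabilising a subspace. -/
theorem subspaceCase_max (hQ : (QuadraticMap.polarBilin Q).Nondegenerate) (hn : 8 ≤ Fintype.card ι)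
    (hev : Even (Fintype.card ι)) {H : Subgroup (GL ι F)} (hH : IsMaximalIn (omegaGL ⇑Q) H)
    (h : SubspaceCase Q H) :
    (∃ W : Submodule F (ι → F), W ≠ ⊥ ∧ IsTotallySingularQuad (⇑Q) W ∧
      H = subspaceStabilizer W ⊓ omegaGL ⇑Q) ∨
    (Odd (Fintype.card F) ∧ ∃ W : Submodule F (ι → F), W ≠ ⊥ ∧ W ≠ ⊤ ∧ Odd (Module.finrank F W) ∧
      IsNondegenerateOn (polar ⇑Q) W ∧ H = subspaceStabilizer W ⊓ omegaGL ⇑Q) ∨
    (∃ W : Submodule F (ι → F), Module.finrank F W = 2 ∧ IsNondegenerateOn (polar ⇑Q) W ∧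
      ¬ IsPlusTypeOn (⇑Q) W ∧ H = subspaceStabilizer W ⊓ omegaGL ⇑Q) ∨
    (4 ≤ Fintype.card F ∧ ∃ W : Submodule F (ι → F), Module.finrank F W = 2 ∧ IsNondegenerateOn (polar ⇑Q) W ∧
      IsPlusTypeOn (⇑Q) W ∧ H = subspaceStabilizer W ⊓ omegaGL ⇑Q) ∨
    (∃ W : Submodule F (ι → F), IsNondegenerateOn (polar ⇑Q) W ∧ Even (Module.finrank F W) ∧
      4 ≤ Module.finrank F W ∧ 2 * Module.finrank F W ≤ Fintype.card ι ∧
      H = subspaceStabilizer W ⊓ omegaGL ⇑Q) ∨
    (¬ Odd (Fintype.card F) ∧ ∃ v : ι → F, Q v ≠ 0 ∧ H = subspaceStabilizer (F ∙ v) ⊓ omegaGL ⇑Q) := by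
  rcases h with ⟨W, h0, hts, hle⟩ | ⟨W, h0, h1, hnd, hle⟩ | ⟨h2, v, hv, hle⟩
  · exact Or.inl ⟨W, h0, hts, eq_of_singular hQ (by omega) hH h0 hts hle⟩
  swap
  · have hv0 : v ≠ 0 := fun h => hv (by rw [h, map_zero])
    exact Or.inr (Or.inr (Or.inr (Or.inr (Or.inr ⟨not_odd_card h2, v, hv,
      eq_inf_of_maximal_le hH hle (not_le_subspaceStabilizer hQ (by omega)
        (by simpa using hv0) (top_ne_of_finrank (by rw [finrank_span_singleton hv0]; omega)))⟩))))
  by_cases hodd : Odd (Module.finrank F W)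
  · refine Or.inr (Or.inl ⟨?_, W, h0, h1, hodd, hnd,
      eq_inf_of_maximal_le hH hle (not_le_subspaceStabilizer hQ (by omega) h0 h1)⟩)
    exact odd_card fun h2 => (Nat.not_even_iff_odd.mpr hodd) (even_finrank_of_nondegenerateOn h2 hnd)
  rw [Nat.not_odd_iff_even] at hodd
  obtain ⟨W', hd', hev', hnd', hle', hpos⟩ : ∃ W' : Submodule F (ι → F), 2 * Module.finrank F W' ≤ Fintype.card ι ∧
      Even (Module.finrank F W') ∧ IsNondegenerateOn (polar ⇑Q) W' ∧ H ≤ subspaceStabilizer W' ∧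
      0 < Module.finrank F W' := by
    have hpos : 0 < Module.finrank F W := Submodule.one_le_finrank_iff.mpr h0
    by_cases hd : 2 * Module.finrank F W ≤ Fintype.card ι
    · exact ⟨W, hd, hodd, hnd, hle, hpos⟩
    have hlt := Submodule.finrank_lt h1
    rw [Module.finrank_fintype_fun_eq_card] at hlt
    refine ⟨polarPerp Q W, ?_, ?_, nondegenerateOn_polarPerp hQ hnd,
      (le_inf hle (le_isometryGroup hH)).trans (stabilizer_le_polarPerp W), ?_⟩
    · rw [finrank_polarPerp hQ]; omega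
    · rw [finrank_polarPerp hQ]
      exact (Nat.even_sub hlt.le).mpr (iff_of_true hev hodd)
    · rw [finrank_polarPerp hQ]; omega
  have heq := eq_inf_of_maximal_le hH hle' (not_le_subspaceStabilizer hQ (by omega) (ne_bot_of_finrank hpos)
    (top_ne_of_finrank (by omega)))
  by_cases h4 : 4 ≤ Module.finrank F W'
  · exact Or.inr (Or.inr (Or.inr (Or.inr (Or.inl ⟨W', hnd', hev', h4, hd', heq⟩))))
  have hd2 : Module.finrank F W' = 2 := by
    obtain ⟨j, hj⟩ := hev'
    omega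
  by_cases hp : IsPlusTypeOn (⇑Q) W'
  swap
  · exact Or.inr (Or.inr (Or.inl ⟨W', hd2, hnd', hp, heq⟩))
  by_cases hq : 4 ≤ Fintype.card F
  · exact Or.inr (Or.inr (Or.inr (Or.inl ⟨hq, W', hd2, hnd', hp, heq⟩)))
  · exact (false_of_between hH hle' (NonMax.exists_between_plus_plane (isNondegenerateQuadraticForm_coe hQ)
      (by omega) (by omega) hd2 hnd' hp)).elim

theorem ne_top_of_card {F₀ : Subfield F} {r : ℕ} (hr : r.Prime) (hcard : Fintype.card F = Nat.card F₀ ^ r) :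
    F₀ ≠ ⊤ := by
  rintro rfl
  have h : Nat.card (⊤ : Subfield F) = Fintype.card F := by
    rw [← Nat.card_eq_fintype_card]
    exact Nat.card_congr Subfield.topEquiv.toEquiv
  rw [h] at hcard
  have h1 := Fintype.one_lt_card (α := F)
  have h2 := Nat.pow_lt_pow_right h1 hr.one_lt
  rw [pow_one] at h2
  omega

/-- A maximal subfield group. -/
theorem subfieldCase_max (hQ : (QuadraticMap.polarBilin Q).Nondegenerate) (hn : 8 ≤ Fintype.card ι)
    {H : Subgroup (GL ι F)} (hH : IsMaximalIn (omegaGL ⇑Q) H) (h : SubfieldCase Q H) :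
    ∃ (F₀ : Subfield F) (r : ℕ) (P : GL ι F) (ζ : F), r.Prime ∧ Fintype.card F = Nat.card F₀ ^ r ∧ ζ ≠ 0 ∧
      IsQuadFormRationalStructure (fun v => ζ * Q v) F₀ P ∧ H = subfieldSubgroup F₀ P ⊓ omegaGL ⇑Q := by
  obtain ⟨F₀, r, P, ζ, hr, hcard, hζ, hrat, hle⟩ := h
  exact ⟨F₀, r, P, ζ, hr, hcard, hζ, hrat,
    eq_inf_of_maximal_le hH hle (not_le_subfieldSubgroup hQ (by omega) (ne_top_of_card hr hcard) P)⟩

end Cfsg.Agent.Lib.MaxClass.OrthEven
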