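import Mathlib
import Cfsg.Prelude.Def_GeometricClasses
import Cfsg.Agent.Lib.FormConj.QuadType
import Cfsg.Agent.Lib.SingMax.Planes

/-!
Plus and minus type of orthogonal sums: the type is multiplicative.
-/

set_option autoImplicit false
set_option linter.unusedSectionVars false

namespace Cfsg.Agent.Lib.MaxClass.OrthEven

open Cfsg Cfsg.Geo QuadraticMap
open Cfsg.Agent.Lib Cfsg.Agent.Lib.FormConj

section Abstract

variable {F : Type*} [Field F] [Fintype F] {V W : Type*} [AddCommGroup V] [Module F V] [FiniteDimensional F V]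
  [AddCommGroup W] [Module F W] [FiniteDimensional F W] {Q : QuadraticForm F V} {R : QuadraticForm F W}

omit [Fintype F] in
theorem isHyp_prod (hQ : IsHyp Q) (hR : IsHyp R) : IsHyp (Q.prod R) := by
  obtain ⟨U, hU, hU0⟩ := hQ
  obtain ⟨X, hX, hX0⟩ := hR
  refine ⟨U.prod X, ?_, fun u hu => ?_⟩
  · rw [LinearEquiv.finrank_eq (⟨⟨⟨fun p => (⟨p.1.1, p.2.1⟩, ⟨p.1.2, p.2.2⟩), fun _ _ => rfl⟩, fun _ _ => rfl⟩,
      fun p => ⟨(p.1, p.2), p.1.2, p.2.2⟩, fun _ => rfl, fun _ => rfl⟩ : (U.prod X) ≃ₗ[F] U × X),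
      Module.finrank_prod, Module.finrank_prod]
    omega
  · rw [QuadraticMap.prod_apply, hU0 _ hu.1, hX0 _ hu.2, add_zero]

variable {a b : ℕ} (ha : 1 ≤ a) (hb : 1 ≤ b) (hV : Module.finrank F V = 2 * a) (hW : Module.finrank F W = 2 * b)
  (hQ : (polarBilin Q).Nondegenerate) (hR : (polarBilin R).Nondegenerate)

include ha hb hV hW hQ hR in
theorem isHyp_prod_iff : IsHyp (Q.prod R) ↔ (IsHyp Q ↔ IsHyp R) := by
  have hdim : ∀ n : ℕ, Module.finrank F (Fin n ⊕ Fin n → F) = 2 * n := fun n => by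
    rw [Module.finrank_fintype_fun_eq_card, Fintype.card_sum, Fintype.card_fin]; omega
  let P : QuadraticForm F (Fin b ⊕ Fin b → F) := StdForms.plusQ F b
  have hP := StdForms.plusQ_nondegenerate (F := F) b
  have hab : Module.finrank F (V × W) = 2 * (a + b) := by rw [Module.finrank_prod, hV, hW]; omega
  have hVP : Module.finrank F (V × (Fin b ⊕ Fin b → F)) = 2 * (a + b) := by
    rw [Module.finrank_prod, hV, hdim]; omega
  -- replacing `R` by a hyperbolic form
  have cancel : IsHyp (Q.prod R) → IsHyp (Q.prod P) → IsHyp R := by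
    intro h1 h2
    obtain ⟨g, hg⟩ := exists_isometry_of_type (by omega) hab hVP (prod_nondegenerate hQ hR)
      (prod_nondegenerate hQ hP) (iff_of_true h1 h2)
    obtain ⟨e, he⟩ := witt_cancel hQ hR hP (by rw [hW, hdim]) g hg
    exact (isHyp_congr e he).mpr (isHyp_plusQ b)
  have cancel' : ¬ IsHyp (Q.prod R) → ¬ IsHyp (Q.prod P) → IsHyp R := by
    intro h1 h2
    obtain ⟨g, hg⟩ := exists_isometry_of_type (by omega) hab hVP (prod_nondegenerate hQ hR)
      (prod_nondegenerate hQ hP) (iff_of_false h1 h2)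
    obtain ⟨e, he⟩ := witt_cancel hQ hR hP (by rw [hW, hdim]) g hg
    exact (isHyp_congr e he).mpr (isHyp_plusQ b)
  by_cases hq : IsHyp Q
  · have hqp : IsHyp (Q.prod P) := isHyp_prod hq (isHyp_plusQ b)
    exact ⟨fun h => iff_of_true hq (cancel h hqp), fun h => isHyp_prod hq (h.mp hq)⟩
  -- `Q` of minus type
  have hqp : ¬ IsHyp (Q.prod P) := by
    intro h
    let P' : QuadraticForm F (Fin a ⊕ Fin a → F) := StdForms.plusQ F a
    have hP' := StdForms.plusQ_nondegenerate (F := F) a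
    have hswap : IsHyp (P.prod Q) := (isHyp_congr (LinearEquiv.prodComm F _ _) (fun v => by
      simp [QuadraticMap.prod_apply, add_comm])).mp h
    have h2 : IsHyp (P.prod P') := isHyp_prod (isHyp_plusQ b) (isHyp_plusQ a)
    obtain ⟨g, hg⟩ := exists_isometry_of_type (m := a + b) (by omega)
      (by rw [Module.finrank_prod, hV, hdim]; omega) (by rw [Module.finrank_prod, hdim, hdim]; omega)
      (prod_nondegenerate hP hQ) (prod_nondegenerate hP hP') (iff_of_true hswap h2)
    obtain ⟨e, he⟩ := witt_cancel hP hQ hP' (by rw [hV, hdim]) g hg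
    exact hq ((isHyp_congr e he).mpr (isHyp_plusQ a))
  constructor
  · intro h
    refine iff_of_false hq fun hr => ?_
    have h' : IsHyp (R.prod Q) := (isHyp_congr (LinearEquiv.prodComm F _ _) (fun v => by
      simp [QuadraticMap.prod_apply, add_comm])).mp h
    let P' : QuadraticForm F (Fin a ⊕ Fin a → F) := StdForms.plusQ F a
    have hP' := StdForms.plusQ_nondegenerate (F := F) a
    have h2 : IsHyp (R.prod P') := isHyp_prod hr (isHyp_plusQ a)
    obtain ⟨g, hg⟩ := exists_isometry_of_type (m := a + b) (by omega)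
      (by rw [Module.finrank_prod, hV, hW]; omega) (by rw [Module.finrank_prod, hdim, hW]; omega)
      (prod_nondegenerate hR hQ) (prod_nondegenerate hR hP') (iff_of_true h' h2)
    obtain ⟨e, he⟩ := witt_cancel hR hQ hP' (by rw [hV, hdim]) g hg
    exact hq ((isHyp_congr e he).mpr (isHyp_plusQ a))
  · intro h
    by_contra hc
    exact hq (h.mpr (cancel' hc hqp))

end Abstract

variable {ι : Type} [Fintype ι] [DecidableEq ι] {F : Type*} [Field F] {Q : QuadraticForm F (ι → F)}

/-- The restriction of a form to a subspace. -/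
def resQ (Q : QuadraticForm F (ι → F)) (W : Submodule F (ι → F)) : QuadraticForm F W := Q.comp W.subtype

theorem resQ_apply (W : Submodule F (ι → F)) (w : W) : resQ Q W w = Q (w : ι → F) := rfl

theorem isPlusTypeOn_iff {W : Submodule F (ι → F)} : IsPlusTypeOn (⇑Q) W ↔ IsHyp (resQ Q W) := by
  constructor
  · rintro ⟨U, hUW, hU, hd⟩
    exact ⟨U.comap W.subtype, by rwa [(Submodule.comapSubtypeEquivOfLe hUW).finrank_eq],
      fun u hu => hU _ hu⟩
  · rintro ⟨U, hd, hU⟩
    refine ⟨U.map W.subtype, Submodule.map_subtype_le W U, ?_, by rwa [Submodule.finrank_map_subtype_eq]⟩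
    rintro _ ⟨u, hu, rfl⟩
    exact hU u hu

theorem resQ_nondegenerate {W : Submodule F (ι → F)} (hW : IsNondegenerateOn (polar ⇑Q) W) :
    (polarBilin (resQ Q W)).Nondegenerate := by
  refine StdForms.nondegenerate_of_left _ fun u hu => ?_
  by_contra h0
  obtain ⟨⟨x, hx, hxu⟩, -⟩ := hW (u : ι → F) u.2 (fun h => h0 (Subtype.ext h))
  apply hxu
  rw [polar_comm]
  exact hu ⟨x, hx⟩

theorem isNondegenerateOn_top (hQ : (polarBilin Q).Nondegenerate) :
    IsNondegenerateOn (polar ⇑Q) (⊤ : Submodule F (ι → F)) := by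
  intro w _ hw
  have : ∃ x, polar ⇑Q x w ≠ 0 := by
    by_contra h
    push Not at h
    exact hw (hQ.2 w h)
  obtain ⟨x, hx⟩ := this
  exact ⟨⟨x, trivial, hx⟩, ⟨x, trivial, by rwa [polar_comm]⟩⟩

/-- Two orthogonal non-degenerate subspaces span a non-degenerate subspace, isometric to their product. -/
theorem orth_sup {W U : Submodule F (ι → F)} (hW : IsNondegenerateOn (polar ⇑Q) W)
    (hU : IsNondegenerateOn (polar ⇑Q) U) (ho : AreOrthogonalFor (polar ⇑Q) W U) :
    IsNondegenerateOn (polar ⇑Q) (W ⊔ U) ∧ Disjoint W U ∧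
      ∃ e : (W × U) ≃ₗ[F] (W ⊔ U : Submodule F (ι → F)),
        ∀ p, resQ Q (W ⊔ U) (e p) = (resQ Q W).prod (resQ Q U) p := by
  have hdis : Disjoint W U := by
    rw [Submodule.disjoint_def]
    intro x hxW hxU
    by_contra h0
    obtain ⟨⟨y, hy, hyx⟩, -⟩ := hW x hxW h0
    exact hyx (ho y hy x hxU)
  refine ⟨?_, hdis, ?_⟩
  · intro v hv hv0
    obtain ⟨w, hw, u, hu, rfl⟩ := Submodule.mem_sup.mp hv
    have : ∃ x ∈ W ⊔ U, polar ⇑Q x (w + u) ≠ 0 := by
      by_cases hw0 : w = 0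
      · subst hw0
        rw [zero_add] at hv0 ⊢
        obtain ⟨⟨x, hx, hxu⟩, -⟩ := hU u hu hv0
        exact ⟨x, Submodule.mem_sup_right hx, hxu⟩
      · obtain ⟨⟨x, hx, hxw⟩, -⟩ := hW w hw hw0
        exact ⟨x, Submodule.mem_sup_left hx, by rw [polar_add_right, ho x hx u hu, add_zero]; exact hxw⟩
    obtain ⟨x, hx, hxv⟩ := this
    exact ⟨⟨x, hx, hxv⟩, ⟨x, hx, by rwa [polar_comm]⟩⟩
  · let f : (W × U) →ₗ[F] (W ⊔ U : Submodule F (ι → F)) :=
      LinearMap.codRestrict _ (W.subtype.coprod U.subtype) fun p => Submodule.add_mem_sup p.1.2 p.2.2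
    have hinj : Function.Injective f := by
      rw [← LinearMap.ker_eq_bot, LinearMap.ker_eq_bot']
      rintro ⟨w, u⟩ h
      have h' : (w : ι → F) + (u : ι → F) = 0 := congrArg Subtype.val h
      have hwU : (w : ι → F) ∈ U := by
        rw [eq_neg_of_add_eq_zero_left h']; exact U.neg_mem u.2
      have hw0 := Submodule.disjoint_def.mp hdis _ w.2 hwU
      rw [hw0, zero_add] at h'
      exact Prod.ext (Subtype.ext hw0) (Subtype.ext h')
    have hsurj : Function.Surjective f := by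
      rintro ⟨v, hv⟩
      obtain ⟨w, hw, u, hu, rfl⟩ := Submodule.mem_sup.mp hv
      exact ⟨(⟨w, hw⟩, ⟨u, hu⟩), rfl⟩
    refine ⟨LinearEquiv.ofBijective f ⟨hinj, hsurj⟩, fun p => ?_⟩
    show Q ((p.1 : ι → F) + (p.2 : ι → F)) = _
    rw [QuadraticMap.map_add (⇑Q), ho _ p.1.2 _ p.2.2, add_zero, QuadraticMap.prod_apply]
    rfl

theorem finrank_orth_sup {W U : Submodule F (ι → F)} (hW : IsNondegenerateOn (polar ⇑Q) W)
    (hU : IsNondegenerateOn (polar ⇑Q) U) (ho : AreOrthogonalFor (polar ⇑Q) W U) :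
    Module.finrank F (W ⊔ U : Submodule F (ι → F)) = Module.finrank F W + Module.finrank F U := by
  obtain ⟨-, -, e, -⟩ := orth_sup hW hU ho
  rw [← e.finrank_eq, Module.finrank_prod]

variable [Fintype F]

/-- The type of an orthogonal sum. -/
theorem isPlusTypeOn_sup_iff {W U : Submodule F (ι → F)} (hW : IsNondegenerateOn (polar ⇑Q) W)
    (hU : IsNondegenerateOn (polar ⇑Q) U) (ho : AreOrthogonalFor (polar ⇑Q) W U) {a b : ℕ} (ha : 1 ≤ a)
    (hb : 1 ≤ b) (hWd : Module.finrank F W = 2 * a) (hUd : Module.finrank F U = 2 * b) :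
    IsPlusTypeOn (⇑Q) (W ⊔ U) ↔ (IsPlusTypeOn (⇑Q) W ↔ IsPlusTypeOn (⇑Q) U) := by
  obtain ⟨-, -, e, he⟩ := orth_sup hW hU ho
  rw [isPlusTypeOn_iff, isPlusTypeOn_iff, isPlusTypeOn_iff, ← isHyp_congr e he]
  exact isHyp_prod_iff ha hb hWd hUd (resQ_nondegenerate hW) (resQ_nondegenerate hU)

/-- Subspaces of one dimension and one type are isometric. -/
theorem areIsometricFor_of_type {W U : Submodule F (ι → F)} (hW : IsNondegenerateOn (polar ⇑Q) W)
    (hU : IsNondegenerateOn (polar ⇑Q) U) {a : ℕ} (ha : 1 ≤ a) (hWd : Module.finrank F W = 2 * a)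
    (hUd : Module.finrank F U = 2 * a) (h : IsPlusTypeOn (⇑Q) W ↔ IsPlusTypeOn (⇑Q) U) :
    AreIsometricFor (⇑Q) W U := by
  rw [isPlusTypeOn_iff, isPlusTypeOn_iff] at h
  obtain ⟨e, he⟩ := exists_isometry_of_type ha hWd hUd (resQ_nondegenerate hW) (resQ_nondegenerate hU) h
  exact ⟨e, he⟩

omit [Fintype F] in
theorem isPlusTypeOn_of_isometric {W U : Submodule F (ι → F)} (h : AreIsometricFor (⇑Q) W U) :
    IsPlusTypeOn (⇑Q) W ↔ IsPlusTypeOn (⇑Q) U := by
  obtain ⟨e, he⟩ := h
  rw [isPlusTypeOn_iff, isPlusTypeOn_iff]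
  exact isHyp_congr e he

/-- A family of orthogonal subspaces of one dimension: the span is of plus type iff an even number of them is
of minus type. -/
theorem isPlusTypeOn_family : ∀ {t : ℕ} (D : Fin (t + 1) → Submodule F (ι → F)) {a : ℕ}, 1 ≤ a →
    (∀ i, IsNondegenerateOn (polar ⇑Q) (D i)) → (∀ i j, i ≠ j → AreOrthogonalFor (polar ⇑Q) (D i) (D j)) →
    (∀ i, Module.finrank F (D i) = 2 * a) →
    IsNondegenerateOn (polar ⇑Q) (⨆ i, D i) ∧
      Module.finrank F (⨆ i, D i : Submodule F (ι → F)) = 2 * (a * (t + 1)) ∧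
      ∀ b : Bool, (∀ i, (IsPlusTypeOn (⇑Q) (D i) ↔ b = true)) →
        (IsPlusTypeOn (⇑Q) (⨆ i, D i) ↔ (b = true ∨ Even (t + 1))) := by
  intro t
  induction t with
  | zero =>
    intro D a ha hnd _ hd
    have h1 : (⨆ i, D i) = D 0 := by
      refine le_antisymm (iSup_le fun i => ?_) (le_iSup D 0)
      rw [Fin.fin_one_eq_zero i]
    rw [h1]
    refine ⟨hnd 0, by rw [hd]; omega, fun b hb => ?_⟩
    rw [hb 0]
    simp
  | succ t ih =>
    intro D a ha hnd ho hd
    obtain ⟨n1, d1, p1⟩ := ih (fun i => D i.castSucc) ha (fun i => hnd _)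
      (fun i j h => ho _ _ fun h' => h (Fin.castSucc_injective _ h')) (fun i => hd _)
    have hs : (⨆ i, D i) = (⨆ i, D (Fin.castSucc i)) ⊔ D (Fin.last _) := by
      refine le_antisymm (iSup_le fun i => ?_) (sup_le (iSup_le fun i => le_iSup D _) (le_iSup D _))
      induction i using Fin.lastCases with
      | last => exact le_sup_right
      | cast i => exact le_trans (le_iSup (fun i => D (Fin.castSucc i)) i) le_sup_left
    have hor : AreOrthogonalFor (polar ⇑Q) (⨆ i, D (Fin.castSucc i)) (D (Fin.last _)) := by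
      intro x hx y hy
      induction hx using Submodule.iSup_induction' with
      | mem i x hx => exact ho _ _ (Fin.castSucc_lt_last i).ne x hx y hy
      | zero => exact QuadraticMap.polar_zero_left Q y
      | add x z _ _ h1 h2 => rw [polar_add_left, h1, h2, add_zero]
    rw [hs]
    refine ⟨(orth_sup n1 (hnd _) hor).1, ?_, fun b hb => ?_⟩
    · rw [finrank_orth_sup n1 (hnd _) hor, d1, hd]
      ring
    · rw [isPlusTypeOn_sup_iff n1 (hnd _) hor (a := a * (t + 1)) (Nat.one_le_iff_ne_zero.mpr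
        (Nat.mul_ne_zero (by omega) (by omega))) ha d1 (hd _), p1 b (fun i => hb _), hb]
      cases b
      · simp [Nat.even_add_one]
      · simp

end Cfsg.Agent.Lib.MaxClass.OrthEven
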