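import Mathlib
import Cfsg.Prelude.Def_GeometricClasses
import Cfsg.Agent.Lib.MaxClass.OrthEven.Types
import Cfsg.Agent.Lib.MaxClass.OrthEven.Basics
import Cfsg.Agent.Lib.SingMax.NonDegMain

/-!
The type of a quadratic space in terms of an orthogonal decomposition into isometric summands, or into
two halves of odd dimension.
-/

set_option autoImplicit false
set_option linter.style.haveILetI false
set_option linter.unusedSectionVars false

namespace Cfsg.Agent.Lib.MaxClass.OrthEven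

open Cfsg Cfsg.Geo Matrix QuadraticMap
open Cfsg.Agent.Lib Cfsg.Agent.Lib.FormConj Cfsg.Agent.Lib.MaxClass

variable {ι : Type} [Fintype ι] [DecidableEq ι] {F : Type*} [Field F] [Fintype F] {Q : QuadraticForm F (ι → F)}

theorem map_sum_orth {α : Type*} [DecidableEq α] (s : Finset α) (v : α → ι → F)
    (h : ∀ i ∈ s, ∀ j ∈ s, i ≠ j → polar ⇑Q (v i) (v j) = 0) : Q (∑ i ∈ s, v i) = ∑ i ∈ s, Q (v i) := by
  induction s using Finset.induction with
  | empty => simp
  | insert a s ha ih =>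
    rw [Finset.sum_insert ha, Finset.sum_insert ha, QuadraticMap.map_add (⇑Q),
      ih (fun i hi j hj => h i (Finset.mem_insert_of_mem hi) j (Finset.mem_insert_of_mem hj))]
    have : polar ⇑Q (v a) (∑ i ∈ s, v i) = 0 := by
      rw [← QuadraticMap.polarBilin_apply_apply, map_sum]
      exact Finset.sum_eq_zero fun i hi =>
        h a (Finset.mem_insert_self a s) i (Finset.mem_insert_of_mem hi) (fun e => ha (e ▸ hi))
    rw [this, add_zero]

/-- An isometry permuting the members of an isometric orthogonal decomposition as prescribed. -/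
theorem exists_isometry_of_perm {t k : ℕ} {D : Fin t → Submodule F (ι → F)}
    (hD : IsOrthogonalMDecomposition (⇑Q) k D) (σ : Equiv.Perm (Fin t)) :
    ∃ g : GL ι F, (∀ y, Q ((g : Matrix ι ι F) *ᵥ y) = Q y) ∧
      ∀ i, ∀ x ∈ D i, (g : Matrix ι ι F) *ᵥ x ∈ D (σ i) := by
  classical
  choose e he using fun i => hD.isometric i (σ i)
  let Φ : ((i : Fin t) → D i) →ₗ[F] (ι → F) := LinearMap.lsum F (fun i : Fin t => ↥(D i)) F fun i => (D i).subtype
  have hΦ : ∀ p, Φ p = ∑ i, (p i : ι → F) := fun p => by simp [Φ]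
  have hsurj : Function.Surjective Φ := by
    rw [← LinearMap.range_eq_top, eq_top_iff, ← hD.decomp.decomp.iSup_eq_top]
    refine iSup_le fun i x hx => ⟨Pi.single i ⟨x, hx⟩, ?_⟩
    rw [hΦ, Finset.sum_eq_single i]
    · rw [Pi.single_eq_same]
    · intro j _ hj
      rw [Pi.single_eq_of_ne hj]
      rfl
    · simp
  have hinj : Function.Injective Φ := by
    refine (LinearMap.injective_iff_surjective_of_finrank_eq_finrank ?_).mpr hsurj
    rw [Module.finrank_pi_fintype, Module.finrank_fintype_fun_eq_card]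
    simp only [hD.decomp.decomp.finrank_eq, Finset.sum_const, Finset.card_univ, Fintype.card_fin, smul_eq_mul]
    exact isMDecomposition_card hD.decomp.decomp
  let E := LinearEquiv.ofBijective Φ ⟨hinj, hsurj⟩
  have hQΦ : ∀ p, Q (Φ p) = ∑ i, Q (p i : ι → F) := fun p => by
    rw [hΦ, map_sum_orth]
    exact fun i _ j _ hij => hD.decomp.orthogonal i j hij _ (p i).2 _ (p j).2
  let χ : ((i : Fin t) → D i) → (ι → F) := fun p => ∑ i, ((e i (p i) : D (σ i)) : ι → F)
  let T : (ι → F) →ₗ[F] (ι → F) :=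
    (LinearMap.lsum F (fun i : Fin t => ↥(D i)) F fun i => (D (σ i)).subtype ∘ₗ (e i).toLinearMap) ∘ₗ
      E.symm.toLinearMap
  have hT : ∀ p, T (Φ p) = χ p := fun p => by
    show LinearMap.lsum F (fun i : Fin t => ↥(D i)) F _ (E.symm (E p)) = _
    rw [LinearEquiv.symm_apply_apply]
    simp [χ]
  have hTQ : ∀ y, Q (T y) = Q y := by
    intro y
    obtain ⟨p, rfl⟩ := hsurj y
    rw [hT, hQΦ]
    show Q (∑ i, ((e i (p i) : D (σ i)) : ι → F)) = _
    rw [map_sum_orth]
    · exact Finset.sum_congr rfl fun i _ => he i (p i)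
    · exact fun i _ j _ hij => hD.decomp.orthogonal _ _ (σ.injective.ne hij) _ (e i _).2 _ (e j _).2
  have hTmem : ∀ i, ∀ x ∈ D i, T x ∈ D (σ i) := by
    intro i x hx
    have hx' : Φ (Pi.single i ⟨x, hx⟩) = x := by
      rw [hΦ, Finset.sum_eq_single i]
      · rw [Pi.single_eq_same]
      · intro j _ hj
        rw [Pi.single_eq_of_ne hj]
        rfl
      · simp
    rw [← hx', hT]
    show (∑ j, ((e j _ : D (σ j)) : ι → F)) ∈ D (σ i)
    rw [Finset.sum_eq_single i]
    · exact (e i _).2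
    · intro j _ hj
      rw [Pi.single_eq_of_ne hj, map_zero]
      rfl
    · simp
  have hTsurj : Function.Surjective T := by
    intro y
    obtain ⟨p, rfl⟩ := hsurj y
    refine ⟨Φ fun i => (e i).symm (p (σ i)), ?_⟩
    rw [hT, hΦ, ← Equiv.sum_comp σ (fun i => (p i : ι → F))]
    exact Finset.sum_congr rfl fun i _ => by rw [LinearEquiv.apply_symm_apply]
  have hTinj : Function.Injective T := LinearMap.injective_iff_surjective.mpr hTsurj
  let T' := LinearEquiv.ofBijective T ⟨hTinj, hTsurj⟩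
  let g : GL ι F :=
    ⟨LinearMap.toMatrix' T, LinearMap.toMatrix' T'.symm.toLinearMap,
      by
        rw [← LinearMap.toMatrix'_comp, show T ∘ₗ T'.symm.toLinearMap = LinearMap.id from
          LinearMap.ext fun y => T'.apply_symm_apply y, LinearMap.toMatrix'_id],
      by
        rw [← LinearMap.toMatrix'_comp, show T'.symm.toLinearMap ∘ₗ T = LinearMap.id from
          LinearMap.ext fun y => T'.symm_apply_apply y, LinearMap.toMatrix'_id]⟩
  have hg : ∀ y, (g : Matrix ι ι F) *ᵥ y = T y := fun y => by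
    show LinearMap.toMatrix' T *ᵥ y = T y
    rw [← Matrix.toLin'_apply, Matrix.toLin'_toMatrix']
  exact ⟨g, fun y => by rw [hg, hTQ], fun i x hx => by rw [hg]; exact hTmem i x hx⟩

/-- A summand of a non-degenerate orthogonal sum is non-degenerate. -/
theorem nondegenerateOn_of_sup {W A B : Submodule F (ι → F)} (hW : IsNondegenerateOn (polar ⇑Q) W)
    (hs : A ⊔ B = W) (ho : AreOrthogonalFor (polar ⇑Q) A B) : IsNondegenerateOn (polar ⇑Q) B := by
  intro w hw hw0
  obtain ⟨⟨x, hx, hxw⟩, -⟩ := hW w (hs ▸ Submodule.mem_sup_right hw) hw0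
  rw [← hs] at hx
  obtain ⟨a, ha, b, hb, rfl⟩ := Submodule.mem_sup.mp hx
  rw [polar_add_left, ho a ha w hw, zero_add] at hxw
  exact ⟨⟨b, hb, hxw⟩, ⟨b, hb, by rwa [polar_comm]⟩⟩

/-- The two halves of an isometric orthogonal decomposition into an even number of members. -/
theorem exists_halves (hQ : (QuadraticMap.polarBilin Q).Nondegenerate) {t k : ℕ}
    {D : Fin t → Submodule F (ι → F)} (hD : IsOrthogonalMDecomposition (⇑Q) k D) (ht : Even t) :
    ∃ (W : Submodule F (ι → F)) (g : GL ι F), IsNondegenerateOn (polar ⇑Q) W ∧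
      2 * Module.finrank F W = Fintype.card ι ∧ (∀ y, Q ((g : Matrix ι ι F) *ᵥ y) = Q y) ∧
      ∀ w ∈ W, (g : Matrix ι ι F) *ᵥ w ∈ polarPerp Q W := by
  classical
  obtain ⟨m, rfl⟩ := ht
  let low : Fin (m + m) → Prop := fun i => (i : ℕ) < m
  let sw : Fin (m + m) → Fin (m + m) := fun i =>
    if h : (i : ℕ) < m then ⟨i + m, by omega⟩ else ⟨i - m, by have := i.2; omega⟩
  have hsw : Function.Involutive sw := fun i => by
    apply Fin.ext
    have := i.2
    by_cases h : (i : ℕ) < m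
    · simp [sw, h]
    · simp [sw, h, show (i : ℕ) - m < m by omega]
      omega
  let σ : Equiv.Perm (Fin (m + m)) := hsw.toPerm sw
  have hσ : ∀ i, low (σ i) ↔ ¬ low i := by
    intro i
    have := i.2
    show ((sw i : Fin (m + m)) : ℕ) < m ↔ _
    by_cases h : (i : ℕ) < m
    · simp [sw, low, h]
    · simp [sw, low, h]
      omega
  obtain ⟨g, hg, hgD⟩ := exists_isometry_of_perm hD σ
  set W : Submodule F (ι → F) := ⨆ i ∈ {i | low i}, D i with hW
  set U : Submodule F (ι → F) := ⨆ i ∈ {i | ¬ low i}, D i with hU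
  have ho : AreOrthogonalFor (polar ⇑Q) W U := by
    have hUk : ∀ i, low i → ∀ a ∈ D i, U ≤ LinearMap.ker (QuadraticMap.polarBilin Q a) := fun i hi a ha =>
      iSup₂_le fun j hj b hb => hD.decomp.orthogonal i j (fun e => hj (e ▸ hi)) a ha b hb
    intro a ha b hb
    have : W ≤ LinearMap.ker ((QuadraticMap.polarBilin Q).flip b) :=
      iSup₂_le fun i hi c hc => hUk i hi c hc hb
    exact this ha
  have hsup : W ⊔ U = ⊤ := by
    rw [eq_top_iff, ← hD.decomp.decomp.iSup_eq_top]
    refine iSup_le fun i => ?_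
    by_cases hi : low i
    · exact le_sup_of_le_left (le_iSup₂_of_le i hi le_rfl)
    · exact le_sup_of_le_right (le_iSup₂_of_le i hi le_rfl)
  have htop := isNondegenerateOn_top (Q := Q) hQ
  have hUW : AreOrthogonalFor (polar ⇑Q) U W := fun a ha b hb => by rw [polar_comm]; exact ho b hb a ha
  have hndW : IsNondegenerateOn (polar ⇑Q) W :=
    nondegenerateOn_of_sup htop (by rw [sup_comm]; exact hsup) hUW
  have hndU : IsNondegenerateOn (polar ⇑Q) U := nondegenerateOn_of_sup htop hsup ho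
  have hmap : ∀ (S T : Set (Fin (m + m))), (∀ i ∈ S, σ i ∈ T) →
      ∀ x ∈ (⨆ i ∈ S, D i : Submodule F (ι → F)), (g : Matrix ι ι F) *ᵥ x ∈ (⨆ i ∈ T, D i : Submodule F (ι → F)) := by
    intro S T hST x hx
    have : (⨆ i ∈ S, D i : Submodule F (ι → F)) ≤ (⨆ i ∈ T, D i : Submodule F (ι → F)).comap (Matrix.toLin' (g : Matrix ι ι F)) :=
      iSup₂_le fun i hi a ha => by
        rw [Submodule.mem_comap, Matrix.toLin'_apply]
        exact Submodule.mem_iSup_of_mem (σ i) (Submodule.mem_iSup_of_mem (hST i hi) (hgD i a ha))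
    have := this hx
    rwa [Submodule.mem_comap, Matrix.toLin'_apply] at this
  have hWU : ∀ x ∈ W, (g : Matrix ι ι F) *ᵥ x ∈ U := hmap _ _ fun i hi h => (hσ i).mp h hi
  have hUW' : ∀ x ∈ U, (g : Matrix ι ι F) *ᵥ x ∈ W := hmap _ _ fun i hi => (hσ i).mpr hi
  have hle : ∀ (A B : Submodule F (ι → F)), (∀ x ∈ A, (g : Matrix ι ι F) *ᵥ x ∈ B) →
      Module.finrank F A ≤ Module.finrank F B := fun A B hAB =>
    LinearMap.finrank_le_finrank_of_injective
      (f := (Matrix.toLin' (g : Matrix ι ι F)).restrict (fun x hx => by rw [Matrix.toLin'_apply]; exact hAB x hx))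
      fun a b h => by
        have h' := congrArg Subtype.val h
        simp only [LinearMap.restrict_apply, Matrix.toLin'_apply] at h'
        exact Subtype.ext (by
          simpa [inv_mulVec_cancel] using congrArg (fun v => ((g⁻¹ : GL ι F) : Matrix ι ι F) *ᵥ v) h')
  have heq := le_antisymm (hle W U hWU) (hle U W hUW')
  have hsum := finrank_orth_sup hndW hndU ho
  rw [hsup, finrank_top, Module.finrank_fintype_fun_eq_card] at hsum
  exact ⟨W, g, hndW, by omega, hg, fun w hw => mem_polarPerp.mpr fun a ha => ho a ha _ (hWU w hw)⟩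

theorem plus_of_decomposition (hQ : (QuadraticMap.polarBilin Q).Nondegenerate) {t k : ℕ}
    {D : Fin t → Submodule F (ι → F)} (hD : IsOrthogonalMDecomposition (⇑Q) k D) (ht : Even t)
    (hn : 4 ∣ Fintype.card ι) : IsPlusTypeOn (⇑Q) ⊤ := by
  obtain ⟨W, g, hW, hd, hg, hgW⟩ := exists_halves hQ hD ht
  obtain ⟨j, hj⟩ := hn
  exact SingMax.plusType_of_swap hQ hW (j := j) (by omega) hd hg hgW

/-- A plane is of plus type exactly when it has a singular vector. -/
theorem isPlusTypeOn_plane_iff {W : Submodule F (ι → F)} (hW : Module.finrank F W = 2) :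
    IsPlusTypeOn (⇑Q) W ↔ ∃ x ∈ W, x ≠ 0 ∧ Q x = 0 := by
  constructor
  · rintro ⟨U, hUW, hU, hUd⟩
    obtain ⟨x, hx, hx0⟩ := U.ne_bot_iff.mp (ne_bot_of_finrank (by omega))
    exact ⟨x, hUW hx, hx0, hU x hx⟩
  · rintro ⟨x, hx, hx0, hQx⟩
    refine ⟨F ∙ x, (Submodule.span_singleton_le_iff_mem x W).mpr hx, fun y hy => ?_,
      by rw [finrank_span_singleton hx0, hW]⟩
    obtain ⟨a, rfl⟩ := Submodule.mem_span_singleton.mp hy
    rw [QuadraticMap.map_smul, hQx, smul_zero]

theorem areIsometricFor_sup {A B A' B' : Submodule F (ι → F)} (hA : IsNondegenerateOn (polar ⇑Q) A)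
    (hB : IsNondegenerateOn (polar ⇑Q) B) (ho : AreOrthogonalFor (polar ⇑Q) A B)
    (hA' : IsNondegenerateOn (polar ⇑Q) A') (hB' : IsNondegenerateOn (polar ⇑Q) B')
    (ho' : AreOrthogonalFor (polar ⇑Q) A' B') (h1 : AreIsometricFor (⇑Q) A A') (h2 : AreIsometricFor (⇑Q) B B') :
    AreIsometricFor (⇑Q) (A ⊔ B) (A' ⊔ B') := by
  obtain ⟨-, -, e, he⟩ := orth_sup hA hB ho
  obtain ⟨-, -, e', he'⟩ := orth_sup hA' hB' ho'
  obtain ⟨a, ha⟩ := h1
  obtain ⟨b, hb⟩ := h2
  refine ⟨e.symm.trans ((a.prodCongr b).trans e'), fun w => ?_⟩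
  obtain ⟨p, rfl⟩ := e.surjective w
  show resQ Q _ (e' ((a.prodCongr b) (e.symm (e p)))) = resQ Q _ (e p)
  rw [LinearEquiv.symm_apply_apply, he', he, QuadraticMap.prod_apply, QuadraticMap.prod_apply]
  show Q ((a p.1 : A') : ι → F) + Q ((b p.2 : B') : ι → F) = _
  rw [ha, hb]
  rfl

/-- Splitting off a vector of value one. -/
theorem split_unit (h2 : (2 : F) ≠ 0) {W : Submodule F (ι → F)} (hW : IsNondegenerateOn (polar ⇑Q) W) {w : ι → F}
    (hw : w ∈ W) (hQw : Q w = 1) :
    IsNondegenerateOn (polar ⇑Q) (F ∙ w) ∧ IsNondegenerateOn (polar ⇑Q) (W ⊓ polarPerp Q (F ∙ w)) ∧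
      AreOrthogonalFor (polar ⇑Q) (F ∙ w) (W ⊓ polarPerp Q (F ∙ w)) ∧
      (F ∙ w) ⊔ (W ⊓ polarPerp Q (F ∙ w)) = W ∧
      Module.finrank F (W ⊓ polarPerp Q (F ∙ w) : Submodule F (ι → F)) + 1 = Module.finrank F W := by
  have hline := nondegenerateOn_span_singleton h2 (show Q w ≠ 0 by rw [hQw]; exact one_ne_zero)
  have ho : AreOrthogonalFor (polar ⇑Q) (F ∙ w) (W ⊓ polarPerp Q (F ∙ w)) := fun a ha b hb =>
    mem_polarPerp.mp hb.2 a ha
  have hs : (F ∙ w) ⊔ (W ⊓ polarPerp Q (F ∙ w)) = W := by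
    refine le_antisymm (sup_le ((Submodule.span_singleton_le_iff_mem w W).mpr hw) inf_le_left) fun x hx => ?_
    set c := (2 : F)⁻¹ * polar ⇑Q w x with hc
    rw [Submodule.mem_sup]
    refine ⟨c • w, Submodule.smul_mem _ _ (Submodule.mem_span_singleton_self w), x - c • w,
      ⟨W.sub_mem hx (W.smul_mem c hw), mem_polarPerp.mpr fun a ha => ?_⟩, add_sub_cancel _ _⟩
    obtain ⟨s, rfl⟩ := Submodule.mem_span_singleton.mp ha
    rw [polar_smul_left, polar_sub_right, polar_smul_right, polar_self, hQw, nsmul_eq_mul, Nat.cast_ofNat,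
      smul_eq_mul, smul_eq_mul, hc, mul_one, mul_comm _ (2 : F), ← mul_assoc, mul_inv_cancel₀ h2, one_mul, sub_self,
      mul_zero]
  have hnd := nondegenerateOn_of_sup hW hs ho
  refine ⟨hline, hnd, ho, hs, ?_⟩
  have hw0 : w ≠ 0 := fun h => by rw [h, map_zero] at hQw; exact zero_ne_one hQw
  have := finrank_orth_sup hline hnd ho
  rw [hs, finrank_span_singleton hw0] at this
  omega

theorem exists_unit_vector (hQ : (QuadraticMap.polarBilin Q).Nondegenerate) {W : Submodule F (ι → F)}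
    (hW : IsNondegenerateOn (polar ⇑Q) W) (hd : 3 ≤ Module.finrank F W) : ∃ w ∈ W, Q w = 1 := by
  obtain ⟨z, hz, hz0, hzQ⟩ := SingMax.exists_singular_sub (Q := Q) hd
  obtain ⟨f, hf, hfQ, hzf⟩ := SingMax.exists_partner_in hQ hW hz hz0 hzQ
  exact ⟨z + f, W.add_mem hz hf, by rw [QuadraticMap.map_add (⇑Q), hzQ, hfQ, hzf, zero_add, zero_add]⟩

/-- The type of an orthogonal sum of two halves of odd dimension. -/
theorem plus_iff_odd_halves (h2 : (2 : F) ≠ 0) (hQ : (QuadraticMap.polarBilin Q).Nondegenerate)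
    {W U : Submodule F (ι → F)} (hW : IsNondegenerateOn (polar ⇑Q) W) (hU : IsNondegenerateOn (polar ⇑Q) U)
    (ho : AreOrthogonalFor (polar ⇑Q) W U) (hsup : W ⊔ U = ⊤) {j : ℕ} (hj : 1 ≤ j)
    (hWd : Module.finrank F W = 2 * j + 1) (hUd : Module.finrank F U = 2 * j + 1) :
    (AreIsometricFor (⇑Q) W U → (IsPlusTypeOn (⇑Q) ⊤ ↔ IsSquare (-1 : F))) ∧
      (¬ AreIsometricFor (⇑Q) W U → (IsPlusTypeOn (⇑Q) ⊤ ↔ ¬ IsSquare (-1 : F))) := by
  have key : ∀ w ∈ W, ∀ u ∈ U, Q w = 1 → Q u = 1 →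
      (IsPlusTypeOn (⇑Q) ⊤ ↔ (IsSquare (-1 : F) ↔
        (IsPlusTypeOn (⇑Q) (W ⊓ polarPerp Q (F ∙ w)) ↔ IsPlusTypeOn (⇑Q) (U ⊓ polarPerp Q (F ∙ u))))) ∧
      ((IsPlusTypeOn (⇑Q) (W ⊓ polarPerp Q (F ∙ w)) ↔ IsPlusTypeOn (⇑Q) (U ⊓ polarPerp Q (F ∙ u))) →
        AreIsometricFor (⇑Q) W U) := by
    intro w hw u hu hQw hQu
    obtain ⟨hw1, hW', how, hsw, hdw⟩ := split_unit h2 hW hw hQw
    obtain ⟨hu1, hU', hou, hsu, hdu⟩ := split_unit h2 hU hu hQu
    set W' := W ⊓ polarPerp Q (F ∙ w)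
    set U' := U ⊓ polarPerp Q (F ∙ u)
    have hw0 : w ≠ 0 := fun h => by rw [h, map_zero] at hQw; exact zero_ne_one hQw
    have hu0 : u ≠ 0 := fun h => by rw [h, map_zero] at hQu; exact zero_ne_one hQu
    have hwU : ∀ a ∈ (F ∙ w), ∀ b ∈ U, polar ⇑Q a b = 0 := fun a ha b hb =>
      ho a ((Submodule.span_singleton_le_iff_mem w W).mpr hw ha) b hb
    have hoP : AreOrthogonalFor (polar ⇑Q) (F ∙ w) (F ∙ u) := fun a ha b hb =>
      hwU a ha b ((Submodule.span_singleton_le_iff_mem u U).mpr hu hb)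
    set P := (F ∙ w) ⊔ (F ∙ u) with hPdef
    have hPnd := (orth_sup hw1 hu1 hoP).1
    have hPd : Module.finrank F P = 2 := by
      rw [hPdef, finrank_orth_sup hw1 hu1 hoP, finrank_span_singleton hw0, finrank_span_singleton hu0]
    have hoR : AreOrthogonalFor (polar ⇑Q) W' U' := fun a ha b hb => ho a ha.1 b hb.1
    have hRnd := (orth_sup hW' hU' hoR).1
    have hRd : Module.finrank F (W' ⊔ U' : Submodule F (ι → F)) = 2 * (2 * j) := by
      rw [finrank_orth_sup hW' hU' hoR]; omega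
    have hoPR : AreOrthogonalFor (polar ⇑Q) P (W' ⊔ U') := by
      intro a ha b hb
      obtain ⟨a₁, ha₁, a₂, ha₂, rfl⟩ := Submodule.mem_sup.mp ha
      obtain ⟨b₁, hb₁, b₂, hb₂, rfl⟩ := Submodule.mem_sup.mp hb
      rw [polar_add_left, polar_add_right, polar_add_right, how a₁ ha₁ b₁ hb₁, hwU a₁ ha₁ b₂ hb₂.1,
        hou a₂ ha₂ b₂ hb₂, polar_comm _ a₂ b₁, ho b₁ hb₁.1 a₂ ((Submodule.span_singleton_le_iff_mem u U).mpr hu ha₂)]
      simp
    have htop : P ⊔ (W' ⊔ U') = ⊤ := by
      rw [hPdef, sup_sup_sup_comm, hsw, hsu, hsup]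
    have h1 := isPlusTypeOn_sup_iff hPnd hRnd hoPR le_rfl (show 1 ≤ 2 * j by omega) (by omega) hRd
    have h3 := isPlusTypeOn_sup_iff hW' hU' hoR hj hj (by omega) (by omega)
    rw [htop] at h1
    have hP : IsPlusTypeOn (⇑Q) P ↔ IsSquare (-1 : F) := by
      rw [isPlusTypeOn_plane_iff hPd]
      have hQab : ∀ a b : F, Q (a • w + b • u) = a * a + b * b := fun a b => by
        rw [QuadraticMap.map_add (⇑Q), QuadraticMap.map_smul, QuadraticMap.map_smul, hQw, hQu,
          hoP _ (Submodule.smul_mem _ a (Submodule.mem_span_singleton_self w)) _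
            (Submodule.smul_mem _ b (Submodule.mem_span_singleton_self u))]
        simp
      constructor
      · rintro ⟨x, hx, hx0, hQx⟩
        obtain ⟨a', ha', b', hb', rfl⟩ := Submodule.mem_sup.mp hx
        obtain ⟨a, rfl⟩ := Submodule.mem_span_singleton.mp ha'
        obtain ⟨b, rfl⟩ := Submodule.mem_span_singleton.mp hb'
        rw [hQab] at hQx
        have hb0 : b ≠ 0 := by
          rintro rfl
          rw [mul_zero, add_zero, mul_self_eq_zero] at hQx
          exact hx0 (by rw [hQx, zero_smul, zero_smul, add_zero])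
        exact ⟨a / b, by field_simp; linear_combination -hQx⟩
      · rintro ⟨s, hs⟩
        refine ⟨s • w + (1 : F) • u, Submodule.add_mem_sup (Submodule.smul_mem _ _ (Submodule.mem_span_singleton_self w))
          (Submodule.smul_mem _ _ (Submodule.mem_span_singleton_self u)), fun h => ?_, by rw [hQab, ← hs]; ring⟩
        have := congrArg (polar ⇑Q u) h
        rw [polar_add_right, polar_smul_right, polar_smul_right, polar_comm _ u w,
          hoP _ (Submodule.mem_span_singleton_self w) _ (Submodule.mem_span_singleton_self u), polar_zero_right,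
          polar_self, hQu] at this
        simp [h2] at this
    refine ⟨by rw [h1, hP, h3], fun h => ?_⟩
    have hline : AreIsometricFor (⇑Q) (F ∙ w) (F ∙ u) :=
      ⟨(LinearEquiv.toSpanNonzeroSingleton F _ _ hw0).symm.trans (LinearEquiv.toSpanNonzeroSingleton F _ _ hu0),
        fun x => by
          obtain ⟨a, rfl⟩ := (LinearEquiv.toSpanNonzeroSingleton F _ _ hw0).surjective x
          rw [LinearEquiv.trans_apply, LinearEquiv.symm_apply_apply]
          show Q (a • u) = Q (a • w)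
          rw [QuadraticMap.map_smul, QuadraticMap.map_smul, hQw, hQu]⟩
    have := areIsometricFor_sup hw1 hW' how hu1 hU' hou hline
      (areIsometricFor_of_type hW' hU' hj (by omega) (by omega) h)
    rwa [hsw, hsu] at this
  obtain ⟨w, hw, hQw⟩ := exists_unit_vector hQ hW (by omega)
  constructor
  · intro hiso
    obtain ⟨e, he⟩ := hiso
    set u := ((e ⟨w, hw⟩ : U) : ι → F) with hu
    have hQu : Q u = 1 := by rw [hu, he ⟨w, hw⟩]; exact hQw
    obtain ⟨h1, -⟩ := key w hw u (e _).2 hQw hQu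
    obtain ⟨-, hW', -, -, hdw⟩ := split_unit h2 hW hw hQw
    obtain ⟨-, hU', -, -, hdu⟩ := split_unit h2 hU (e ⟨w, hw⟩).2 hQu
    have hpol : ∀ a b : W, polar ⇑Q ((e a : U) : ι → F) ((e b : U) : ι → F) = polar ⇑Q (a : ι → F) (b : ι → F) := by
      intro a b
      simp only [QuadraticMap.polar, ← Submodule.coe_add, ← map_add, he]
    set W' := W ⊓ polarPerp Q (F ∙ w) with hW'def
    set U' := U ⊓ polarPerp Q (F ∙ u) with hU'def
    let φ : W' →ₗ[F] U' := LinearMap.codRestrict U'
      (U.subtype ∘ₗ e.toLinearMap ∘ₗ Submodule.inclusion (inf_le_left : W' ≤ W)) fun x => by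
        refine ⟨(e _).2, mem_polarPerp.mpr fun a ha => ?_⟩
        obtain ⟨s, rfl⟩ := Submodule.mem_span_singleton.mp ha
        show polar ⇑Q (s • u) ((e ⟨(x : ι → F), x.2.1⟩ : U) : ι → F) = 0
        rw [polar_smul_left, hu, hpol, mem_polarPerp.mp x.2.2 w (Submodule.mem_span_singleton_self w), smul_zero]
    have hφ : Function.Injective φ := fun a b h => by
      have h' : ((e ⟨(a : ι → F), a.2.1⟩ : U) : ι → F) = ((e ⟨(b : ι → F), b.2.1⟩ : U) : ι → F) :=
        congrArg (fun y : U' => (y : ι → F)) h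
      have h'' : (⟨(a : ι → F), a.2.1⟩ : W) = ⟨(b : ι → F), b.2.1⟩ := e.injective (Subtype.ext h')
      exact Subtype.ext (congrArg (fun y : W => (y : ι → F)) h'')
    have hdim : Module.finrank F W' = Module.finrank F U' := by omega
    have hbij : Function.Bijective φ :=
      ⟨hφ, (LinearMap.injective_iff_surjective_of_finrank_eq_finrank hdim).mp hφ⟩
    have hiso' : AreIsometricFor (⇑Q) W' U' :=
      ⟨LinearEquiv.ofBijective φ hbij, fun x => he ⟨(x : ι → F), x.2.1⟩⟩
    rw [h1, iff_true_right (isPlusTypeOn_of_isometric hiso')]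
  · intro hniso
    obtain ⟨u, hu, hQu⟩ := exists_unit_vector hQ hU (by omega)
    obtain ⟨h1, h2'⟩ := key w hw u hu hQw hQu
    rw [h1, iff_false_right (fun h => hniso (h2' h))]

/-- An isometric decomposition with two halves of odd dimension. -/
theorem plus_iff_of_decomposition_odd (h2 : (2 : F) ≠ 0) (hQ : (QuadraticMap.polarBilin Q).Nondegenerate)
    {t k : ℕ} {D : Fin t → Submodule F (ι → F)} (hD : IsOrthogonalMDecomposition (⇑Q) k D) (ht : Even t) {j : ℕ}
    (hj : 1 ≤ j) (hn : Fintype.card ι = 2 * (2 * j + 1)) : IsPlusTypeOn (⇑Q) ⊤ ↔ IsSquare (-1 : F) := by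
  obtain ⟨W, g, hW, hd, hg, hgW⟩ := exists_halves hQ hD ht
  have hU := nondegenerateOn_polarPerp hQ hW
  have hUd : Module.finrank F (polarPerp Q W) = 2 * j + 1 := by rw [finrank_polarPerp hQ]; omega
  refine (plus_iff_odd_halves h2 hQ hW hU (fun a ha b hb => mem_polarPerp.mp hb a ha)
    (SingMax.isCompl_polarPerp hQ hW).sup_eq_top hj (by omega) hUd).1 ?_
  let φ := (Matrix.toLin' (g : Matrix ι ι F)).restrict
    (p := W) (q := polarPerp Q W) (fun x hx => by rw [Matrix.toLin'_apply]; exact hgW x hx)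
  have hφ : Function.Injective φ := fun a b h => by
    have h' := congrArg Subtype.val h
    simp only [φ, LinearMap.restrict_apply, Matrix.toLin'_apply] at h'
    exact Subtype.ext (by
      simpa [inv_mulVec_cancel] using congrArg (fun v => ((g⁻¹ : GL ι F) : Matrix ι ι F) *ᵥ v) h')
  refine ⟨LinearEquiv.ofBijective φ ⟨hφ,
    (LinearMap.injective_iff_surjective_of_finrank_eq_finrank (by omega)).mp hφ⟩, fun x => ?_⟩
  show Q (Matrix.toLin' (g : Matrix ι ι F) x) = _
  rw [Matrix.toLin'_apply, hg]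

/-- An isometric decomposition into an odd number of even-dimensional members has their type. -/
theorem plus_iff_member {t a : ℕ}
    {D : Fin t → Submodule F (ι → F)} (hD : IsOrthogonalMDecomposition (⇑Q) (2 * a) D) (ht : Odd t) (i : Fin t) :
    IsPlusTypeOn (⇑Q) (D i) ↔ IsPlusTypeOn (⇑Q) ⊤ := by
  obtain ⟨s, rfl⟩ := ht
  have ha : 1 ≤ a := by have := hD.decomp.decomp.pos; omega
  obtain ⟨-, -, hfam⟩ := isPlusTypeOn_family D ha hD.decomp.nondegenerate hD.decomp.orthogonal
    hD.decomp.decomp.finrank_eq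
  rw [← hD.decomp.decomp.iSup_eq_top]
  have hodd : ¬ Even (2 * s + 1) := by simp
  by_cases h : IsPlusTypeOn (⇑Q) (D i)
  · refine iff_of_true h ((hfam true fun l => ?_).mpr (Or.inl rfl))
    exact iff_of_true ((isPlusTypeOn_of_isometric (hD.isometric l i)).mpr h) rfl
  · refine iff_of_false h fun hp => ?_
    have := (hfam false fun l => iff_of_false
      (fun h' => h ((isPlusTypeOn_of_isometric (hD.isometric l i)).mp h')) (by simp)).mp hp
    simp [hodd] at this

end Cfsg.Agent.Lib.MaxClass.OrthEven
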