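import Mathlib
import Cfsg.Prelude.Def_GeometricClasses
import Cfsg.Agent.Lib.MaxClass.OrthEven.Halves
import Cfsg.Agent.Lib.MaxClass.OrthEven.CasesTensor

/-!
The type of a form carried by a tensor decomposition or by a rational structure over a subfield of index two.
-/

set_option autoImplicit false
set_option linter.style.haveILetI false
set_option linter.unusedSectionVars false

namespace Cfsg.Agent.Lib.MaxClass.OrthEven

open Cfsg Cfsg.Geo Matrix QuadraticMap
open scoped Kronecker
open Cfsg.Agent.Lib Cfsg.Agent.Lib.FormConj Cfsg.Agent.Lib.Aschbacher Cfsg.Agent.Lib.MaxClass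

variable {ι : Type} [Fintype ι] [DecidableEq ι] {F : Type*} [Field F] [Fintype F] {Q : QuadraticForm F (ι → F)}

theorem plus_of_totallySingular {W : Submodule F (ι → F)} (hW : IsTotallySingularQuad (⇑Q) W)
    (hd : 2 * Module.finrank F W = Fintype.card ι) : IsPlusTypeOn (⇑Q) ⊤ :=
  ⟨W, le_top, hW, by rw [finrank_top, Module.finrank_fintype_fun_eq_card, hd]⟩

/-- Plus type passes through injective similitudes. -/
theorem isPlusTypeOn_range_iff {κ : Type} [Fintype κ] [DecidableEq κ] (L : (κ → F) →ₗ[F] (ι → F))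
    (hL : Function.Injective L) {R : (κ → F) → F} {s : F} (hs : s ≠ 0) (h : ∀ y, Q (L y) = s * R y) :
    IsPlusTypeOn (⇑Q) (LinearMap.range L) ↔ IsPlusTypeOn R ⊤ := by
  constructor
  · rintro ⟨U, hUle, hU, hUd⟩
    refine ⟨U.comap L, le_top, fun y hy => ?_, ?_⟩
    · have h0 := hU _ hy
      rw [h] at h0
      exact (mul_eq_zero.mp h0).resolve_left hs
    · have h1 : Module.finrank F (U.comap L) = Module.finrank F U := by
        rw [(Submodule.equivMapOfInjective L hL (U.comap L)).finrank_eq, Submodule.map_comap_eq,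
          inf_eq_right.mpr hUle]
      rw [h1, hUd, LinearMap.finrank_range_of_inj hL, finrank_top]
  · rintro ⟨U, -, hU, hUd⟩
    refine ⟨U.map L, LinearMap.map_le_range, ?_, ?_⟩
    · rintro _ ⟨y, hy, rfl⟩
      rw [h, hU y hy, mul_zero]
    · rw [← (Submodule.equivMapOfInjective L hL U).finrank_eq, hUd, LinearMap.finrank_range_of_inj hL, finrank_top]

theorem even_of_symplectic {d : ℕ} {f : (Fin d → F) → (Fin d → F) → F} (hf : IsSymplecticForm f) : Even d := by
  let B : (Fin d → F) →ₗ[F] (Fin d → F) →ₗ[F] F := LinearMap.mk₂ F f hf.bilinear.add_left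
    (fun c x y => by rw [hf.bilinear.smul_left, smul_eq_mul]) hf.bilinear.add_right
    (fun c x y => by rw [hf.bilinear.smul_right, smul_eq_mul])
  have hinj : Function.Injective B := by
    rw [← LinearMap.ker_eq_bot, LinearMap.ker_eq_bot']
    intro v hv
    by_contra h0
    obtain ⟨-, x, hx⟩ := hf.nondegenerate v h0
    exact hx (LinearMap.congr_fun hv x)
  have h := Cfsg.Agent.Lib.AlternatingRank.even_finrank_range_of_alt _ (rfl : Module.finrank F (Fin d → F) = _) B
    (fun v => hf.alternating v)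
  rwa [LinearMap.finrank_range_of_inj hinj, Module.finrank_fintype_fun_eq_card, Fintype.card_fin] at h

/-- The linear map `y ↦ x ⊗ y` of a frame. -/
noncomputable def pureRight {d m : ℕ} (e : ι ≃ Fin d × Fin m) (B : GL ι F) (x : Fin d → F) :
    (Fin m → F) →ₗ[F] (ι → F) where
  toFun y := frameVec e B (pure2 x y)
  map_add' y y' := by
    rw [← frameVec_add]
    congr 1
    funext p
    exact mul_add _ _ _
  map_smul' c y := by
    rw [RingHom.id_apply, ← frameVec_smul]
    congr 1
    funext p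
    exact mul_left_comm _ _ _

theorem pureRight_injective {d m : ℕ} (e : ι ≃ Fin d × Fin m) (B : GL ι F) {x : Fin d → F} (hx : x ≠ 0) :
    Function.Injective (pureRight e B x) := by
  intro y y' h
  obtain ⟨i, hi⟩ := Function.ne_iff.mp hx
  funext j
  exact mul_left_cancel₀ hi (congrFun (frameVec_injective e B h) (i, j))

/-- The linear map `x ↦ x ⊗ y` of a frame. -/
noncomputable def pureLeft {d m : ℕ} (e : ι ≃ Fin d × Fin m) (B : GL ι F) (y : Fin m → F) :
    (Fin d → F) →ₗ[F] (ι → F) where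
  toFun x := frameVec e B (pure2 x y)
  map_add' x x' := by
    rw [← frameVec_add]
    congr 1
    funext p
    exact add_mul _ _ _
  map_smul' c x := by
    rw [RingHom.id_apply, ← frameVec_smul]
    congr 1
    funext p
    exact mul_assoc _ _ _

theorem pureLeft_injective {d m : ℕ} (e : ι ≃ Fin d × Fin m) (B : GL ι F) {y : Fin m → F} (hy : y ≠ 0) :
    Function.Injective (pureLeft e B y) := by
  intro x x' h
  obtain ⟨j, hj⟩ := Function.ne_iff.mp hy
  funext i
  exact mul_right_cancel₀ hj (congrFun (frameVec_injective e B h) (i, j))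

/-- Two alternating factors, one of them of dimension two, with the form vanishing on pure tensors. -/
theorem plus_of_tensor_two {d m : ℕ} (e : ι ≃ Fin d × Fin m) (B : GL ι F) (hd : 1 ≤ d) (hm : 1 ≤ m)
    (h2 : d = 2 ∨ m = 2) (hpure : ∀ x y, Q (frameVec e B (pure2 x y)) = 0) : IsPlusTypeOn (⇑Q) ⊤ := by
  have hcard := Fintype.card_congr e
  rw [Fintype.card_prod, Fintype.card_fin, Fintype.card_fin] at hcard
  rcases h2 with rfl | rfl
  · have hx : (fun _ : Fin 2 => (1 : F)) ≠ 0 := fun h => one_ne_zero (congrFun h 0)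
    refine plus_of_totallySingular (W := LinearMap.range (pureRight e B fun _ => 1)) ?_ ?_
    · rintro _ ⟨y, rfl⟩
      exact hpure _ y
    · rw [LinearMap.finrank_range_of_inj (pureRight_injective e B hx), Module.finrank_fintype_fun_eq_card,
        Fintype.card_fin, hcard]
  · have hy : (fun _ : Fin 2 => (1 : F)) ≠ 0 := fun h => one_ne_zero (congrFun h 0)
    refine plus_of_totallySingular (W := LinearMap.range (pureLeft e B fun _ => 1)) ?_ ?_
    · rintro _ ⟨x, rfl⟩
      exact hpure x _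
    · rw [LinearMap.finrank_range_of_inj (pureLeft_injective e B hy), Module.finrank_fintype_fun_eq_card,
        Fintype.card_fin, hcard, mul_comm]

/-- The values of the form on pure tensors, in odd characteristic. -/
theorem quad_pure (h2 : (2 : F) ≠ 0) {G : GL ι F}
    (hG : ∀ u v, polar ⇑Q u v = formM (RingEquiv.refl F) (G : Matrix ι ι F) u v) {d m : ℕ}
    {e : ι ≃ Fin d × Fin m} {B : GL ι F} {G₁ : Matrix (Fin d) (Fin d) F} {G₂ : Matrix (Fin m) (Fin m) F}
    (hA : gramIn (RingEquiv.refl F) G e B = G₁ ⊗ₖ G₂) (x : Fin d → F) (y : Fin m → F) :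
    Q (frameVec e B (pure2 x y)) =
      2⁻¹ * formM (RingEquiv.refl F) G₁ x x * formM (RingEquiv.refl F) G₂ y y := by
  rw [eq_half_polar h2, polar_frame hG, hA, formM_pure2, mul_assoc]

/-- An orthogonal splitting of a tensor product of two symmetric forms. -/
theorem exists_tensor_splitting (h2 : (2 : F) ≠ 0) {G : GL ι F}
    (hG : ∀ u v, polar ⇑Q u v = formM (RingEquiv.refl F) (G : Matrix ι ι F) u v) {d m : ℕ}
    {e : ι ≃ Fin d × Fin m} {B : GL ι F} {G₁ : GL (Fin d) F} {G₂ : GL (Fin m) F}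
    (hA : gramIn (RingEquiv.refl F) G e B = (G₁ : Matrix (Fin d) (Fin d) F) ⊗ₖ (G₂ : Matrix (Fin m) (Fin m) F))
    (hs : IsSymmetricForm (formM (RingEquiv.refl F) (G₁ : Matrix (Fin d) (Fin d) F))) :
    ∃ (a : Fin d → F) (x : Fin d → Fin d → F), (∀ i, a i ≠ 0) ∧
      (∀ i, a i = 2⁻¹ * formM (RingEquiv.refl F) (G₁ : Matrix (Fin d) (Fin d) F) (x i) (x i)) ∧
      (∀ i, Function.Injective (pureRight e B (x i))) ∧
      (∀ i, IsNondegenerateOn (polar ⇑Q) (LinearMap.range (pureRight e B (x i)))) ∧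
      (∀ i j, i ≠ j → AreOrthogonalFor (polar ⇑Q) (LinearMap.range (pureRight e B (x i)))
        (LinearMap.range (pureRight e B (x j)))) ∧
      ∀ i y, Q (pureRight e B (x i) y) = a i * formM (RingEquiv.refl F) (G₂ : Matrix (Fin m) (Fin m) F) y y := by
  set f₁ := formM (RingEquiv.refl F) (G₁ : Matrix (Fin d) (Fin d) F) with hf₁
  set f₂ := formM (RingEquiv.refl F) (G₂ : Matrix (Fin m) (Fin m) F) with hf₂
  let β : LinearMap.BilinForm F (Fin d → F) := LinearMap.mk₂ F f₁ hs.bilinear.add_left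
    (fun c x y => by rw [hs.bilinear.smul_left, smul_eq_mul]) hs.bilinear.add_right
    (fun c x y => by rw [hs.bilinear.smul_right, smul_eq_mul])
  haveI : Invertible (2 : F) := invertibleOfNonzero h2
  obtain ⟨b, hb⟩ := LinearMap.BilinForm.exists_orthogonal_basis (B := β) ⟨fun u v => hs.symm u v⟩
  have hsep : β.SeparatingLeft := fun u hu => by
    by_contra h0
    obtain ⟨-, v, hv⟩ := hs.nondegenerate u h0
    exact hv (hu v)
  let ix : Fin d ≃ Fin (Module.finrank F (Fin d → F)) := finCongr (by simp)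
  have ha : ∀ i, f₁ (b (ix i)) (b (ix i)) ≠ 0 := fun i => hb.not_isOrtho_basis_self_of_separatingLeft hsep (ix i)
  have ho : ∀ i j, i ≠ j → f₁ (b (ix i)) (b (ix j)) = 0 := fun i j h => hb (fun e' => h (ix.injective e'))
  have hpol : ∀ i j y y', polar ⇑Q (pureRight e B (b (ix i)) y) (pureRight e B (b (ix j)) y') =
      f₁ (b (ix i)) (b (ix j)) * f₂ y y' := fun i j y y' => by
    show polar ⇑Q (frameVec e B _) (frameVec e B _) = _
    rw [polar_frame hG, hA, formM_pure2]
  refine ⟨fun i => 2⁻¹ * f₁ (b (ix i)) (b (ix i)), fun i => b (ix i), fun i => mul_ne_zero (inv_ne_zero h2) (ha i),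
    fun i => rfl, fun i => pureRight_injective e B (b.ne_zero _), fun i => ?_, fun i j hij => ?_, fun i y => ?_⟩
  · rintro _ ⟨y, rfl⟩ hy
    have hy0 : y ≠ 0 := fun h => hy (by rw [h, map_zero])
    obtain ⟨⟨y', hy'⟩, -⟩ := nondegenerate_formM (RingEquiv.refl F) G₂ y hy0
    have hne : polar ⇑Q (pureRight e B (b (ix i)) y') (pureRight e B (b (ix i)) y) ≠ 0 := by
      rw [hpol]
      exact mul_ne_zero (ha i) hy'
    exact ⟨⟨_, ⟨y', rfl⟩, hne⟩, ⟨_, ⟨y', rfl⟩, by rwa [polar_comm]⟩⟩
  · rintro _ ⟨y, rfl⟩ _ ⟨y', rfl⟩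
    rw [hpol, ho i j hij, zero_mul]
  · show Q (frameVec e B _) = _
    rw [quad_pure h2 hG hA]

/-- The type of a tensor product of symmetric forms, the second of even dimension. -/
theorem plus_iff_of_tensor_sym (h2 : (2 : F) ≠ 0) {G : GL ι F}
    (hG : ∀ u v, polar ⇑Q u v = formM (RingEquiv.refl F) (G : Matrix ι ι F) u v) {d m : ℕ}
    {e : ι ≃ Fin d × Fin m} {B : GL ι F} {G₁ : GL (Fin d) F} {G₂ : GL (Fin m) F} (hd : 1 ≤ d) {a : ℕ} (ha : 1 ≤ a)
    (hm : m = 2 * a)
    (hA : gramIn (RingEquiv.refl F) G e B = (G₁ : Matrix (Fin d) (Fin d) F) ⊗ₖ (G₂ : Matrix (Fin m) (Fin m) F))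
    (hs : IsSymmetricForm (formM (RingEquiv.refl F) (G₁ : Matrix (Fin d) (Fin d) F))) :
    IsPlusTypeOn (⇑Q) ⊤ ↔
      (IsPlusTypeOn (fun v => formM (RingEquiv.refl F) (G₂ : Matrix (Fin m) (Fin m) F) v v) ⊤ ∨ Even d) := by
  obtain ⟨c, x, hc, -, hinj, hnd, ho, hval⟩ := exists_tensor_splitting h2 hG hA hs
  obtain ⟨t, rfl⟩ : ∃ t, d = t + 1 := ⟨d - 1, by omega⟩
  set D : Fin (t + 1) → Submodule F (ι → F) := fun i => LinearMap.range (pureRight e B (x i)) with hD
  have hdim : ∀ i, Module.finrank F (D i) = 2 * a := fun i => by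
    rw [hD, LinearMap.finrank_range_of_inj (hinj i), Module.finrank_fintype_fun_eq_card, Fintype.card_fin, hm]
  obtain ⟨-, hfin, hfam⟩ := isPlusTypeOn_family D ha hnd ho hdim
  have htop : (⨆ i, D i) = ⊤ := by
    refine Submodule.eq_top_of_finrank_eq ?_
    have hcard := Fintype.card_congr e
    rw [Fintype.card_prod, Fintype.card_fin, Fintype.card_fin] at hcard
    rw [hfin, Module.finrank_fintype_fun_eq_card, hcard, hm]
    ring
  have hiff : ∀ i, IsPlusTypeOn (⇑Q) (D i) ↔
      IsPlusTypeOn (fun v => formM (RingEquiv.refl F) (G₂ : Matrix (Fin m) (Fin m) F) v v) ⊤ :=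
    fun i => isPlusTypeOn_range_iff _ (hinj i) (hc i) (hval i)
  rw [← htop]
  by_cases h : IsPlusTypeOn (fun v => formM (RingEquiv.refl F) (G₂ : Matrix (Fin m) (Fin m) F) v v) ⊤
  · rw [hfam true fun i => iff_of_true ((hiff i).mpr h) rfl]
    simp [h]
  · rw [hfam false fun i => iff_of_false (fun h' => h ((hiff i).mp h')) (by simp)]
    simp [h]

/-- Exchanging the factors of a tensor decomposition. -/
theorem tensor_swap {G : GL ι F} {d m : ℕ} {e : ι ≃ Fin d × Fin m} {B : GL ι F}
    {G₁ : GL (Fin d) F} {G₂ : GL (Fin m) F}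
    (hA : gramIn (RingEquiv.refl F) G e B = (G₁ : Matrix (Fin d) (Fin d) F) ⊗ₖ (G₂ : Matrix (Fin m) (Fin m) F)) :
    ∃ e' : ι ≃ Fin m × Fin d, tensorProductSubgroup d m e B ≤ tensorProductSubgroup m d e' B ∧
      gramIn (RingEquiv.refl F) G e' B = (G₂ : Matrix (Fin m) (Fin m) F) ⊗ₖ (G₁ : Matrix (Fin d) (Fin d) F) :=
  ⟨_, tensorProduct_le_swap e B, gramIn_swap hA⟩

/-- A tensor decomposition, one factor of which has dimension two and the other even dimension, gives plus type. -/
theorem plus_of_tensorCase_two (hQ : (QuadraticMap.polarBilin Q).Nondegenerate) {d m : ℕ} {e : ι ≃ Fin d × Fin m}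
    {B : GL ι F} {G₁ : GL (Fin d) F} {G₂ : GL (Fin m) F} (hd : 1 ≤ d) (hm : 1 ≤ m) (h2 : d = 2 ∨ m = 2)
    (hev : Even d ∧ Even m)
    (hgram : ∀ G : GL ι F, (∀ u v, polar ⇑Q u v = formM (RingEquiv.refl F) (G : Matrix ι ι F) u v) →
      gramIn (RingEquiv.refl F) G e B = (G₁ : Matrix (Fin d) (Fin d) F) ⊗ₖ (G₂ : Matrix (Fin m) (Fin m) F))
    (hor : (∀ x y, Q (frameVec e B (pure2 x y)) = 0) ∨
      ((2 : F) ≠ 0 ∧ IsSymmetricForm (formM (RingEquiv.refl F) (G₁ : Matrix (Fin d) (Fin d) F)))) :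
    IsPlusTypeOn (⇑Q) ⊤ := by
  rcases hor with h | ⟨h2', hs⟩
  · exact plus_of_tensor_two e B hd hm h2 h
  obtain ⟨G, -, hG⟩ := exists_polarGram hQ
  obtain ⟨a, ha⟩ := hev.2
  exact (plus_iff_of_tensor_sym h2' hG hd (a := a) (by omega) (by omega) (hgram G hG) hs).mpr (Or.inr hev.1)

open Polynomial in
/-- An irreducible binary form over a subfield of index two has a zero in the field. -/
theorem exists_root_index_two {F₁ : Subfield F} (hcard : Fintype.card F = Nat.card F₁ ^ 2) {z : F₁}
    (hz : ∀ t : F₁, t ^ 2 + t + z ≠ 0) : ∃ t : F, t ^ 2 + t + (z : F) = 0 := by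
  haveI : Finite F₁ := Subtype.finite
  set p : Polynomial F₁ := X ^ 2 + X + Polynomial.C z with hp
  have hdeg : p.natDegree = 2 := by rw [hp]; compute_degree!
  have hirr : Irreducible p := by
    refine irreducible_of_degree_le_three_of_not_isRoot (by rw [hdeg]; simp) fun t ht => hz t ?_
    simpa [hp] using ht
  have hdvd : p ∣ X ^ (Nat.card F₁) ^ 2 - X :=
    hirr.natDegree_dvd_iff_dvd_X_pow_card_pow_sub_X.mp (dvd_of_eq hdeg)
  rw [← hcard, ← Nat.card_eq_fintype_card] at hdvd
  have hsplit : Splits (p.map F₁.subtype) := by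
    refine (Polynomial.splits_X_pow_nat_card_sub_X (K := F)).of_dvd ?_ ?_
    · exact FiniteField.X_pow_card_sub_X_ne_zero F Finite.one_lt_card
    · have := Polynomial.map_dvd F₁.subtype hdvd
      simpa using this
  obtain ⟨t, ht⟩ := hsplit.exists_eval_eq_zero (by
    rw [Polynomial.degree_map, degree_eq_natDegree hirr.ne_zero, hdeg]; simp)
  exact ⟨t, by simpa [hp, Polynomial.eval_map] using ht⟩

theorem isHyp_minusQ_of_root (k : ℕ) {z t : F} (ht : t ^ 2 + t + z = 0) : IsHyp (StdForms.minusQ F k 1 z) := by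
  let i : ((Fin k → F) × F) →ₗ[F] ((Fin k ⊕ Fin k) ⊕ Fin 2 → F) :=
    { toFun := fun p => Sum.elim (Sum.elim p.1 0) ![t * p.2, p.2]
      map_add' := fun u v => funext fun x => by
        rcases x with (x | x) | x
        · simp
        · simp
        · fin_cases x <;> simp [mul_add]
      map_smul' := fun c v => funext fun x => by
        rcases x with (x | x) | x
        · simp
        · simp
        · fin_cases x <;> simp [mul_left_comm] }
  have hi : Function.Injective i := fun u v h => Prod.ext (funext fun x => congrFun h (Sum.inl (Sum.inl x)))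
    (congrFun h (Sum.inr 1))
  refine ⟨LinearMap.range i, ?_, ?_⟩
  · simp [LinearMap.finrank_range_of_inj hi]
    omega
  · rintro _ ⟨p, rfl⟩
    rw [StdForms.coe_minusQ]
    simp only [Cfsg.quadFormMinus, i, LinearMap.coe_mk, AddHom.coe_mk, Sum.elim_inl, Sum.elim_inr, Pi.zero_apply,
      mul_zero, Finset.sum_const_zero, zero_add, Matrix.cons_val_zero, Matrix.cons_val_one, Matrix.cons_val_fin_one]
    linear_combination (p.2 ^ 2) * ht

/-- A rational structure over a subfield of index two gives plus type. -/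
theorem plus_of_subfield_two (hQ : (QuadraticMap.polarBilin Q).Nondegenerate) {m : ℕ} (hm : 1 ≤ m)
    (hn : Fintype.card ι = 2 * m) {F₁ : Subfield F} (hcard : Fintype.card F = Nat.card F₁ ^ 2) {P : GL ι F} {ζ : F}
    (hζ : ζ ≠ 0) (hrat : IsQuadFormRationalStructure (fun v => ζ * Q v) F₁ P) : IsPlusTypeOn (⇑Q) ⊤ := by
  classical
  haveI : Fintype F₁ := Fintype.ofFinite F₁
  let up : (ι → F₁) → (ι → F) := fun u i => (u i : F)
  have hup_add : ∀ u v, up (u + v) = up u + up v := fun u v => rfl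
  have hup_smul : ∀ (c : F₁) u, up (c • u) = (c : F) • up u := fun c u => rfl
  let r : (ι → F₁) → F₁ := fun u => ⟨ζ * Q ((P : Matrix ι ι F) *ᵥ up u), hrat _ fun i => (u i).2⟩
  have hrpol : ∀ u v, ((polar r u v : F₁) : F) =
      ζ * polar ⇑Q ((P : Matrix ι ι F) *ᵥ up u) ((P : Matrix ι ι F) *ᵥ up v) := by
    intro u v
    simp only [QuadraticMap.polar, r, AddSubgroupClass.coe_sub, hup_add, Matrix.mulVec_add]
    ring
  let R : QuadraticForm F₁ (ι → F₁) := QuadraticMap.ofPolar r
    (fun a u => Subtype.ext (by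
      show ζ * Q ((P : Matrix ι ι F) *ᵥ up (a • u)) = (a : F) * (a : F) * (ζ * Q _)
      rw [hup_smul, Matrix.mulVec_smul, QuadraticMap.map_smul, smul_eq_mul]
      ring))
    (fun u u' v => Subtype.ext (by
      push_cast
      rw [hrpol, hrpol, hrpol, hup_add, Matrix.mulVec_add, polar_add_left, mul_add]))
    (fun a u v => Subtype.ext (by
      rw [smul_eq_mul]
      push_cast
      rw [hrpol, hrpol, hup_smul, Matrix.mulVec_smul, polar_smul_left, smul_eq_mul]
      ring))
  have hRval : ∀ u, ((R u : F₁) : F) = ζ * Q ((P : Matrix ι ι F) *ᵥ up u) := fun u => rfl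
  have hspan : ∀ w : ι → F, w = ∑ i, w i • up (Pi.single i 1) := fun w => by
    funext j
    simp [up, Finset.sum_apply, Pi.single_apply, apply_ite Subtype.val]
  have hR : (polarBilin R).Nondegenerate := by
    refine StdForms.nondegenerate_of_left R fun u hu => ?_
    have h0 : ∀ w, polar ⇑Q ((P : Matrix ι ι F) *ᵥ up u) w = 0 := by
      intro w
      rw [← mulVec_inv_cancel P w, hspan (((P⁻¹ : GL ι F) : Matrix ι ι F) *ᵥ w), Matrix.mulVec_sum,
        ← QuadraticMap.polarBilin_apply_apply, map_sum]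
      refine Finset.sum_eq_zero fun i _ => ?_
      rw [QuadraticMap.polarBilin_apply_apply, Matrix.mulVec_smul, polar_smul_right]
      have h := congrArg Subtype.val (hu (Pi.single i 1))
      rw [show ((polar (⇑R) u (Pi.single i 1) : F₁) : F) = ((polar r u (Pi.single i 1) : F₁) : F) from rfl, hrpol,
        ZeroMemClass.coe_zero, mul_eq_zero] at h
      rw [h.resolve_left hζ, smul_zero]
    have h1 := hQ.1 _ h0
    have h2 := congrArg (fun w => ((P⁻¹ : GL ι F) : Matrix ι ι F) *ᵥ w) h1
    simp only [inv_mulVec_cancel, Matrix.mulVec_zero] at h2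
    funext i
    exact Subtype.ext (congrFun h2 i)
  -- transport of a hyperbolic model
  have key : ∀ {κ : Type} [Fintype κ] [DecidableEq κ] (T : QuadraticForm F (κ → F))
      (T₁ : QuadraticForm F₁ (κ → F₁)), (∀ x : κ → F₁, T (fun k => (x k : F)) = ((T₁ x : F₁) : F)) →
      ∀ E : (κ → F₁) ≃ₗ[F₁] (ι → F₁), (∀ x, R (E x) = T₁ x) → IsHyp T → IsPlusTypeOn (⇑Q) ⊤ := by
    intro κ _ _ T T₁ hT E hE hyp
    let Φ : (κ → F) →ₗ[F] (ι → F) :=
      Matrix.toLin' (P : Matrix ι ι F) ∘ₗ Fintype.linearCombination F (fun k => up (E (Pi.single k 1)))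
    have hΦ : ∀ x : κ → F, Φ x = (P : Matrix ι ι F) *ᵥ ∑ k, x k • up (E (Pi.single k 1)) := fun x => by
      simp [Φ, Fintype.linearCombination_apply, Matrix.mulVec_sum, Matrix.mulVec_smul]
    have hΦrat : ∀ x : κ → F₁, Φ (fun k => (x k : F)) = (P : Matrix ι ι F) *ᵥ up (E x) := fun x => by
      rw [hΦ]
      congr 1
      conv_rhs => rw [pi_eq_sum_univ' x, map_sum]
      funext j
      simp [up, Finset.sum_apply]
    have hsurj : Function.Surjective Φ := by
      intro w
      rw [← mulVec_inv_cancel P w, hspan (((P⁻¹ : GL ι F) : Matrix ι ι F) *ᵥ w)]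
      refine ⟨∑ i, (((P⁻¹ : GL ι F) : Matrix ι ι F) *ᵥ w) i • fun k => ((E.symm (Pi.single i 1)) k : F), ?_⟩
      rw [map_sum, Matrix.mulVec_sum]
      refine Finset.sum_congr rfl fun i _ => ?_
      rw [map_smul, hΦrat, LinearEquiv.apply_symm_apply, Matrix.mulVec_smul]
    have hdim : Module.finrank F (κ → F) = Module.finrank F (ι → F) := by
      have h := E.finrank_eq
      rw [Module.finrank_fintype_fun_eq_card, Module.finrank_fintype_fun_eq_card] at h
      rw [Module.finrank_fintype_fun_eq_card, Module.finrank_fintype_fun_eq_card, h]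
    have hinj : Function.Injective Φ := (LinearMap.injective_iff_surjective_of_finrank_eq_finrank hdim).mpr hsurj
    let Q' : QuadraticForm F (ι → F) := ζ • Q
    have hval : ∀ x : κ → F₁, Q' (Φ fun k => (x k : F)) = T (fun k => (x k : F)) := fun x => by
      rw [hΦrat, hT, ← hE, hRval]
      rfl
    have hcomp : Q'.comp Φ = T := by
      have hcast : ∀ k, (fun j => ((Pi.single k (1 : F₁) : κ → F₁) j : F)) = Pi.single k (1 : F) := fun k => by
        funext j
        simp [Pi.single_apply, apply_ite Subtype.val]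
      refine Decomp.quad_ext (Pi.basisFun F κ) (fun k => ?_) fun k l _ => ?_
      · rw [Pi.basisFun_apply, ← hcast]
        exact hval _
      · rw [Pi.basisFun_apply, Pi.basisFun_apply, ← hcast, ← hcast]
        have hadd : ((fun j => ((Pi.single k (1 : F₁) : κ → F₁) j : F)) + fun j => ((Pi.single l (1 : F₁) : κ → F₁) j : F)) =
            fun j => (((Pi.single k (1 : F₁) + Pi.single l 1 : κ → F₁)) j : F) := rfl
        simp only [QuadraticMap.polar, QuadraticMap.comp_apply]
        rw [hadd, hval, hval, hval]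
    obtain ⟨U, hUd, hU⟩ := hyp
    refine plus_of_totallySingular (W := U.map Φ) ?_ ?_
    · rintro _ ⟨u, hu, rfl⟩
      have h := congrArg (fun S : QuadraticForm F (κ → F) => S u) hcomp
      have h' : ζ * Q (Φ u) = 0 := h.trans (hU u hu)
      exact (mul_eq_zero.mp h').resolve_left hζ
    · rw [← (Submodule.equivMapOfInjective Φ hinj U).finrank_eq, hUd, hdim, Module.finrank_fintype_fun_eq_card]
  rcases exists_plus_equiv hm (by rw [Module.finrank_fintype_fun_eq_card, hn]) R hR with ⟨E, hE⟩ | ⟨z, hz, E, hE⟩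
  · refine key (StdForms.plusQ F m) _ (fun x => ?_) E hE (isHyp_plusQ m)
    simp [StdForms.coe_plusQ, Cfsg.quadFormPlus]
  · obtain ⟨t, ht⟩ := exists_root_index_two hcard hz
    refine key (StdForms.minusQ F (m - 1) 1 (z : F)) _ (fun x => ?_) E hE (isHyp_minusQ_of_root _ ht)
    simp [StdForms.coe_minusQ, Cfsg.quadFormMinus]

end Cfsg.Agent.Lib.MaxClass.OrthEven
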