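import Mathlib
import Cfsg.Prelude.Def_GeometricClasses
import Cfsg.Agent.Lib.MaxClass.OrthEven.Plus
import Cfsg.Agent.Lib.MaxClass.OrthEven.Common

/-!
Self-adjoint fields of odd degree on a space of twice that dimension: the form is the trace of a binary form
over the field, and the normaliser fixes a pair of singular spaces or a quadratic element.
-/

set_option autoImplicit false
set_option linter.style.haveILetI false
set_option linter.unusedSectionVars false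
set_option maxHeartbeats 1000000

namespace Cfsg.Agent.Lib.MaxClass.OrthEven

open Cfsg Cfsg.Geo Matrix QuadraticMap
open Cfsg.Agent.Lib Cfsg.Agent.Lib.FormConj Cfsg.Agent.Lib.Aschbacher Cfsg.Agent.Lib.MaxClass

variable {ι : Type} [Fintype ι] [DecidableEq ι] {F : Type*} [Field F] [Fintype F] {Q : QuadraticForm F (ι → F)}

theorem functional_ext_squares {L : Type*} [Field L] [Finite L] [Algebra F L] {χ : L →ₗ[F] F}
    (h : ∀ l, χ (l * l) = 0) : χ = 0 := by
  ext m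
  by_cases h2 : (2 : L) = 0
  · haveI : CharP L 2 := CharTwo.of_one_ne_zero_of_two_eq_zero one_ne_zero h2
    obtain ⟨s, hs⟩ := (frobeniusEquiv L 2).surjective m
    have hs' : s ^ 2 = m := hs
    rw [← hs', pow_two, h, LinearMap.zero_apply]
  · have h1 : χ ((2 : L) * ((2 : L)⁻¹ * m)) = 0 := by
      have e : ∀ a b : L, χ ((2 : L) * (a * b)) = 0 := fun a b => by
        rw [show (2 : L) * (a * b) = (a + b) * (a + b) - a * a - b * b by ring, map_sub, map_sub, h, h, h]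
        simp
      exact e _ _
    rwa [← mul_assoc, mul_inv_cancel₀ h2, one_mul] at h1

/-- A quadratic form invariant under a self-adjoint field is the image of a form over the field. -/
theorem exists_field_form {L : Type*} [Field L] [Algebra F L] [Module.Finite F L] (ρ : L →ₐ[F] Matrix ι ι F)
    (hsa : ∀ l u v, polar ⇑Q (ρ l *ᵥ u) v = polar ⇑Q u (ρ l *ᵥ v))
    (halt : (2 : F) = 0 → ∀ l v, polar ⇑Q (ρ l *ᵥ v) v = 0) :
    ∃ (τ : L →ₗ[F] F) (ψ : (ι → F) → L), (∀ a, (∀ l, τ (l * l * a) = 0) → a = 0) ∧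
      (∀ v l, Q (ρ l *ᵥ v) = τ (l * l * ψ v)) ∧ (∀ k v, ψ (ρ k *ᵥ v) = k * k * ψ v) ∧
      (∀ k u v, ψ (ρ k *ᵥ u + v) = k * k * ψ u + ψ v + k * (ψ (u + v) - ψ u - ψ v)) := by
  classical
  haveI : Finite L := Module.finite_of_finite F
  obtain ⟨τ, hτ⟩ : ∃ τ : L →ₗ[F] F, τ 1 = 1 := by
    obtain ⟨f, hf⟩ := LinearMap.exists_extend_of_notMem (K := F) (V := L) (p := ⊥) (0 : (⊥ : Submodule F L) →ₗ[F] F)
      (v := 1) (by simp) 1
    exact ⟨f, hf.2⟩
  let Λ : L →ₗ[F] (L →ₗ[F] F) :=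
    { toFun := fun a => τ ∘ₗ LinearMap.mulRight F a
      map_add' := fun a b => LinearMap.ext fun m => by simp [mul_add]
      map_smul' := fun c a => LinearMap.ext fun m => by simp }
  have hΛ : Function.Injective Λ := by
    rw [← LinearMap.ker_eq_bot, LinearMap.ker_eq_bot']
    intro a ha
    by_contra h0
    have h := LinearMap.congr_fun ha a⁻¹
    simp [Λ, inv_mul_cancel₀ h0, hτ] at h
  have hΛs : Function.Surjective Λ :=
    (LinearMap.injective_iff_surjective_of_finrank_eq_finrank (Subspace.dual_finrank_eq (K := F) (V := L)).symm).mp hΛ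
  have hzero : ∀ a, (∀ l, τ (l * l * a) = 0) → a = 0 := fun a ha =>
    hΛ ((functional_ext_squares (F := F) (χ := Λ a) ha).trans (map_zero Λ).symm)
  have hex : ∀ v, ∃ a, ∀ l, Q (ρ l *ᵥ v) = τ (l * l * a) := by
    intro v
    suffices ∃ χ : L →ₗ[F] F, ∀ l, Q (ρ l *ᵥ v) = χ (l * l) by
      obtain ⟨χ, hχ⟩ := this
      obtain ⟨a, ha⟩ := hΛs χ
      exact ⟨a, fun l => by rw [hχ, ← ha]; rfl⟩
    by_cases h2 : (2 : F) = 0
    swap
    · refine ⟨{ toFun := fun m => (2 : F)⁻¹ * polar ⇑Q (ρ m *ᵥ v) v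
                map_add' := fun m m' => by rw [map_add, Matrix.add_mulVec, polar_add_left, mul_add]
                map_smul' := fun c m => by
                  rw [map_smul, Matrix.smul_mulVec, polar_smul_left, smul_eq_mul, RingHom.id_apply, smul_eq_mul]
                  ring }, fun l => ?_⟩
      show _ = (2 : F)⁻¹ * polar ⇑Q (ρ (l * l) *ᵥ v) v
      rw [map_mul, ← Matrix.mulVec_mulVec, hsa, ← eq_half_polar h2]
    · haveI : CharP F 2 := CharTwo.of_one_ne_zero_of_two_eq_zero one_ne_zero h2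
      have h2L : (2 : L) = 0 := by
        have := congrArg (algebraMap F L) h2
        rwa [map_ofNat, map_zero] at this
      haveI : CharP L 2 := CharTwo.of_one_ne_zero_of_two_eq_zero one_ne_zero h2L
      let s := (frobeniusEquiv L 2).symm
      have hs : ∀ m, s m * s m = m := fun m => by
        have := (frobeniusEquiv L 2).apply_symm_apply m
        rw [← pow_two]
        exact this
      have hs' : ∀ l, s (l * l) = l := fun l => by
        rw [← pow_two]
        exact (frobeniusEquiv L 2).symm_apply_apply l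
      refine ⟨{ toFun := fun m => Q (ρ (s m) *ᵥ v)
                map_add' := fun m m' => ?_
                map_smul' := fun c m => ?_ }, fun l => by simp [hs']⟩
      · rw [map_add, map_add, Matrix.add_mulVec, QuadraticMap.map_add (⇑Q), hsa, Matrix.mulVec_mulVec, ← map_mul,
          polar_comm, halt h2, add_zero]
      · obtain ⟨d, hd⟩ := (frobeniusEquiv F 2).surjective c
        have hd' : d ^ 2 = c := hd
        have hsd : s (c • m) = d • s m := by
          apply (frobeniusEquiv L 2).injective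
          rw [RingEquiv.apply_symm_apply]
          show c • m = (d • s m) ^ 2
          rw [smul_pow, hd', pow_two, hs]
        rw [hsd, map_smul, Matrix.smul_mulVec, QuadraticMap.map_smul, ← pow_two, hd', RingHom.id_apply]
  choose ψ hψ using hex
  have huniq : ∀ v a, (∀ l, Q (ρ l *ᵥ v) = τ (l * l * a)) → ψ v = a := by
    intro v a ha
    refine sub_eq_zero.mp (hzero _ fun l => ?_)
    rw [mul_sub, map_sub, ← hψ, ha, sub_self]
  have hsmul : ∀ k v, ψ (ρ k *ᵥ v) = k * k * ψ v := fun k v => huniq _ _ fun l => by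
    rw [Matrix.mulVec_mulVec, ← map_mul, hψ]
    congr 1
    ring
  refine ⟨τ, ψ, hzero, hψ, hsmul, fun k u v => ?_⟩
  set b := ψ (u + v) - ψ u - ψ v with hb
  have hbm : ∀ m, τ (m * b) = polar ⇑Q (ρ m *ᵥ u) v := by
    intro m
    let χ : L →ₗ[F] F :=
      { toFun := fun m => τ (m * b) - polar ⇑Q (ρ m *ᵥ u) v
        map_add' := fun m m' => by
          rw [add_mul, map_add, map_add, Matrix.add_mulVec, polar_add_left]; ring
        map_smul' := fun c m => by
          rw [smul_mul_assoc, map_smul, map_smul, Matrix.smul_mulVec, polar_smul_left, RingHom.id_apply]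
          simp only [smul_eq_mul]
          ring }
    have h0 : χ = 0 := functional_ext_squares fun l => by
      show τ (l * l * b) - polar ⇑Q (ρ (l * l) *ᵥ u) v = 0
      rw [map_mul ρ, ← Matrix.mulVec_mulVec, hsa, hb, mul_sub, mul_sub, map_sub, map_sub, ← hψ, ← hψ, ← hψ,
        Matrix.mulVec_add, QuadraticMap.map_add (⇑Q)]
      ring
    exact sub_eq_zero.mp (LinearMap.congr_fun h0 m)
  refine huniq _ _ fun l => ?_
  rw [Matrix.mulVec_add, Matrix.mulVec_mulVec, ← map_mul, QuadraticMap.map_add (⇑Q), hψ, hψ, ← hsa,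
    Matrix.mulVec_mulVec, ← map_mul, ← hbm, ← map_add, ← map_add]
  congr 1
  ring

/-- Coordinates over a field acting on a space of twice its degree. -/
theorem exists_coords {L : Type*} [Field L] [Algebra F L] [Module.Finite F L] (ρ : L →ₐ[F] Matrix ι ι F)
    (hn : Fintype.card ι = 2 * Module.finrank F L) {v w : ι → F} (hv : v ≠ 0) (hw : ∀ l, ρ l *ᵥ v ≠ w) :
    ∀ u, ∃ x y : L, u = ρ x *ᵥ v + ρ y *ᵥ w := by
  have hcancel : ∀ (l : L) (u : ι → F), l ≠ 0 → ρ l⁻¹ *ᵥ (ρ l *ᵥ u) = u := fun l u hl => by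
    rw [Matrix.mulVec_mulVec, ← map_mul, inv_mul_cancel₀ hl, map_one, Matrix.one_mulVec]
  let φ : (L × L) →ₗ[F] (ι → F) :=
    { toFun := fun p => ρ p.1 *ᵥ v + ρ p.2 *ᵥ w
      map_add' := fun p q => by simp only [Prod.fst_add, Prod.snd_add, map_add, Matrix.add_mulVec]; abel
      map_smul' := fun c p => by
        simp only [Prod.smul_fst, Prod.smul_snd, map_smul, Matrix.smul_mulVec, RingHom.id_apply, smul_add] }
  have hinj : Function.Injective φ := by
    rw [← LinearMap.ker_eq_bot, LinearMap.ker_eq_bot']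
    rintro ⟨x, y⟩ h
    have h' : ρ x *ᵥ v + ρ y *ᵥ w = 0 := h
    have hy : y = 0 := by
      by_contra hy
      refine hw (-(y⁻¹ * x)) ?_
      have h1 := congrArg (fun u => ρ y⁻¹ *ᵥ u) h'
      simp only [Matrix.mulVec_add, hcancel y w hy, Matrix.mulVec_mulVec, ← map_mul, Matrix.mulVec_zero] at h1
      rw [map_neg, Matrix.neg_mulVec, eq_neg_of_add_eq_zero_left h1, neg_neg]
    subst hy
    rw [map_zero, Matrix.zero_mulVec, add_zero] at h'
    by_contra hx
    have hx0 : x ≠ 0 := fun hx0 => hx (by rw [hx0]; rfl)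
    have := hcancel x v hx0
    rw [h', Matrix.mulVec_zero] at this
    exact hv this.symm
  have hsurj := (LinearMap.injective_iff_surjective_of_finrank_eq_finrank (by
    rw [Module.finrank_prod, Module.finrank_fintype_fun_eq_card, hn]; ring)).mp hinj
  intro u
  obtain ⟨p, hp⟩ := hsurj u
  exact ⟨p.1, p.2, hp.symm⟩

/-- The orbit space of a vector under a field. -/
noncomputable def fieldLine {L : Type*} [Field L] [Algebra F L] (ρ : L →ₐ[F] Matrix ι ι F) (v : ι → F) :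
    Submodule F (ι → F) :=
  LinearMap.range
    ({ toFun := fun l => ρ l *ᵥ v
       map_add' := fun l m => by rw [map_add, Matrix.add_mulVec]
       map_smul' := fun c l => by rw [map_smul, Matrix.smul_mulVec, RingHom.id_apply] } : L →ₗ[F] (ι → F))

theorem mem_fieldLine {L : Type*} [Field L] [Algebra F L] {ρ : L →ₐ[F] Matrix ι ι F} {v u : ι → F} :
    u ∈ fieldLine ρ v ↔ ∃ l, ρ l *ᵥ v = u := LinearMap.mem_range

theorem finrank_fieldLine {L : Type*} [Field L] [Algebra F L] [Module.Finite F L] (ρ : L →ₐ[F] Matrix ι ι F)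
    {v : ι → F} (hv : v ≠ 0) : Module.finrank F (fieldLine ρ v) = Module.finrank F L := by
  refine LinearMap.finrank_range_of_inj ?_
  rw [← LinearMap.ker_eq_bot, LinearMap.ker_eq_bot']
  intro l hl
  by_contra h0
  have hl' : ρ l *ᵥ v = 0 := hl
  have := congrArg (fun u => ρ l⁻¹ *ᵥ u) hl'
  simp only [Matrix.mulVec_mulVec, ← map_mul, inv_mul_cancel₀ h0, map_one, Matrix.one_mulVec,
    Matrix.mulVec_zero] at this
  exact hv this

/-- An irreducible quadratic stays irreducible in an extension of odd degree. -/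
theorem irreducible_of_odd_degree {L : Type*} [Field L] [Algebra F L] [Module.Finite F L]
    (hodd : Odd (Module.finrank F L)) {z : F} (hz : ∀ t : F, t ^ 2 + t + z ≠ 0) :
    ∀ t : L, t ^ 2 + t + algebraMap F L z ≠ 0 := by
  intro t ht
  set p : Polynomial F := Polynomial.X ^ 2 + Polynomial.X + Polynomial.C z with hp
  have hdeg : p.natDegree = 2 := by rw [hp]; compute_degree!
  have hmon : p.Monic := by rw [hp]; monicity!
  have hirr : Irreducible p := by
    refine Polynomial.irreducible_of_degree_le_three_of_not_isRoot (by rw [hdeg]; simp) fun s hs => hz s ?_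
    simpa [hp] using hs
  have heval : Polynomial.aeval t p = 0 := by simpa [hp] using ht
  have hmin : minpoly F t = p := (minpoly.eq_of_irreducible_of_monic hirr heval hmon).symm
  have hdvd : (minpoly F t).natDegree ∣ Module.finrank F L := minpoly.degree_dvd (Algebra.IsIntegral.isIntegral t)
  rw [hmin, hdeg] at hdvd
  exact Nat.not_even_iff_odd.mpr hodd (even_iff_two_dvd.mpr hdvd)

theorem field_setup (hn : 1 ≤ Fintype.card ι) {r : ℕ} (hr : 0 < r) {K : Subalgebra F (Matrix ι ι F)}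
    (hK : IsFieldSubalgebra r K) {H : Subgroup (GL ι F)} (hle : H ≤ subalgebraNormalizer K) :
    ∀ g ∈ H, ∀ k ∈ K, ∃ k' ∈ K, ∀ v, k *ᵥ ((g : Matrix ι ι F) *ᵥ v) = (g : Matrix ι ι F) *ᵥ (k' *ᵥ v) := by
  intro g hg k hk
  refine ⟨((g⁻¹ : GL ι F) : Matrix ι ι F) * k * (g : Matrix ι ι F), ?_, fun v => ?_⟩
  · have h := (hle (H.inv_mem hg) k).mp hk
    rwa [inv_inv] at h
  · rw [Matrix.mulVec_mulVec, Matrix.mulVec_mulVec, ← mul_assoc, ← mul_assoc, Units.mul_inv, one_mul]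

/-- A self-adjoint field of half the dimension: plus type gives a pair of singular lines over the field. -/
theorem exists_pair_of_field (hn : 1 ≤ Fintype.card ι) {r : ℕ} (hr : 0 < r) (hcard : Fintype.card ι = 2 * r)
    (hQ : (QuadraticMap.polarBilin Q).Nondegenerate) {K : Subalgebra F (Matrix ι ι F)}
    (hK : IsFieldSubalgebra r K) (hsa : IsSelfAdjointFor (polar ⇑Q) K)
    (halt : ∀ k ∈ K, ∀ v, (2 : F) = 0 → polar ⇑Q (k *ᵥ v) v = 0) {H : Subgroup (GL ι F)}
    (hH : H ≤ isometryGroup F ⇑Q) (hle : H ≤ subalgebraNormalizer K) :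
    (∃ W U : Submodule F (ι → F), IsTotallySingularQuad (⇑Q) W ∧ IsTotallySingularQuad (⇑Q) U ∧
        Module.finrank F W = r ∧ Module.finrank F U = r ∧ Disjoint W U ∧
        ∀ g ∈ H, ((∀ w ∈ W, (g : Matrix ι ι F) *ᵥ w ∈ W) ∧ ∀ u ∈ U, (g : Matrix ι ι F) *ᵥ u ∈ U) ∨
          ((∀ w ∈ W, (g : Matrix ι ι F) *ᵥ w ∈ U) ∧ ∀ u ∈ U, (g : Matrix ι ι F) *ᵥ u ∈ W)) ∨
    (Odd r → ∃ (T : Matrix ι ι F) (z : F), (∀ t : F, t ^ 2 + t + z ≠ 0) ∧
        T * T = T - z • (1 : Matrix ι ι F) ∧ (∀ v, Q (T *ᵥ v) = z * Q v) ∧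
        (∀ v, Q ((1 - T) *ᵥ v) = z * Q v) ∧
        ∀ g ∈ H, (g : Matrix ι ι F) * T = T * (g : Matrix ι ι F) ∨
          (g : Matrix ι ι F) * T = (1 - T) * (g : Matrix ι ι F)) := by
  classical
  haveI : Nonempty ι := Fintype.card_pos_iff.mp (by omega)
  letI : Field ↥K := (isField_of_fieldSubalgebra hr hK).toField
  haveI : Module.Finite F ↥K := Module.finite_of_finrank_pos (hK.finrank_eq ▸ hr)
  haveI : Finite ↥K := Module.finite_of_finite F
  haveI : Fintype ↥K := Fintype.ofFinite _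
  have hL : Module.finrank F ↥K = r := hK.finrank_eq
  set ρ : ↥K →ₐ[F] Matrix ι ι F := K.val with hρ
  obtain ⟨τ, ψ, hzero, hψ, hsmul, hadd⟩ := exists_field_form (Q := Q) ρ (fun l u v => hsa _ l.2 u v)
    (fun h2 l v => halt _ l.2 v h2)
  have hn' : Fintype.card ι = 2 * Module.finrank F ↥K := by rw [hL, hcard]
  have hψ0 : ψ 0 = 0 := by
    have := hsmul 0 0
    rwa [map_zero, Matrix.zero_mulVec, zero_mul, zero_mul] at this
  have hline : ∀ v, ψ v = 0 → IsTotallySingularQuad (⇑Q) (fieldLine ρ v) := by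
    intro v hv u hu
    obtain ⟨l, rfl⟩ := mem_fieldLine.mp hu
    rw [hψ, hv, mul_zero, map_zero]
  have hconj := field_setup hn hr hK hle
  have hform2 : ∀ v w x y, ψ (ρ x *ᵥ v + ρ y *ᵥ w) =
      x * x * ψ v + x * y * (ψ (v + w) - ψ v - ψ w) + y * y * ψ w := by
    intro v w x y
    rw [hadd, hsmul, add_comm v, hadd, add_comm w]
    ring
  by_cases hiso : ∃ v, v ≠ 0 ∧ ψ v = 0
  · left
    obtain ⟨v₀, hv₀, hψv⟩ := hiso
    -- a partner outside the line
    obtain ⟨w₁, hw₁⟩ : ∃ w, w ∉ fieldLine ρ v₀ := by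
      by_contra h
      push Not at h
      have h1 := Submodule.finrank_mono (fun x (_ : x ∈ (⊤ : Submodule F (ι → F))) => h x)
      rw [finrank_top, Module.finrank_fintype_fun_eq_card, finrank_fieldLine ρ hv₀, hL, hcard] at h1
      omega
    set b := ψ (v₀ + w₁) - ψ v₀ - ψ w₁ with hb
    have hb0 : b ≠ 0 := by
      intro hb0
      refine hv₀ (hQ.1 _ fun u => ?_)
      obtain ⟨x, y, rfl⟩ := exists_coords ρ hn' hv₀ (fun l h => hw₁ (mem_fieldLine.mpr ⟨l, h⟩)) u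
      show polar ⇑Q v₀ _ = 0
      have e1 : ψ (ρ x *ᵥ v₀ + ρ y *ᵥ w₁) = y * y * ψ w₁ := by
        rw [hform2, ← hb, hb0, hψv]
        ring
      have e2 : ψ (v₀ + (ρ x *ᵥ v₀ + ρ y *ᵥ w₁)) = y * y * ψ w₁ := by
        rw [← add_assoc, show v₀ + ρ x *ᵥ v₀ = ρ (1 + x) *ᵥ v₀ by
          rw [map_add, map_one, Matrix.add_mulVec, Matrix.one_mulVec], hform2, ← hb, hb0, hψv]
        ring
      have hq : ∀ u, Q u = τ (ψ u) := fun u => by
        have := hψ u 1
        rwa [map_one, Matrix.one_mulVec, one_mul, one_mul] at this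
      rw [QuadraticMap.polar, hq, hq v₀, hq (ρ x *ᵥ v₀ + ρ y *ᵥ w₁), e1, e2, hψv, map_zero]
      ring
    set w₀ := ρ (-(ψ w₁ / b)) *ᵥ v₀ + w₁ with hw₀
    have hψw : ψ w₀ = 0 := by
      rw [hw₀, hadd, ← hb, hψv]
      field_simp
      ring
    have hw₀' : ∀ l, ρ l *ᵥ v₀ ≠ w₀ := by
      intro l h
      refine hw₁ (mem_fieldLine.mpr ⟨l + ψ w₁ / b, ?_⟩)
      rw [map_add, Matrix.add_mulVec, h, hw₀, map_neg, Matrix.neg_mulVec]
      abel
    have hb' : ψ (v₀ + w₀) = b := by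
      rw [hw₀, ← add_assoc, show v₀ + ρ (-(ψ w₁ / b)) *ᵥ v₀ = ρ (1 + -(ψ w₁ / b)) *ᵥ v₀ by
        rw [map_add, map_one, Matrix.add_mulVec, Matrix.one_mulVec], hadd, ← hb, hψv]
      field_simp
      ring
    have hsplit : ∀ u, ψ u = 0 → u ∈ fieldLine ρ v₀ ∨ u ∈ fieldLine ρ w₀ := by
      intro u hu
      obtain ⟨x, y, rfl⟩ := exists_coords ρ hn' hv₀ hw₀' u
      rw [hadd, hsmul, hψv, hψw, add_comm v₀, hadd, hψw, hψv, add_comm w₀, hb'] at hu
      have hxy : x * y = 0 := by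
        have : x * y * b = 0 := by linear_combination hu
        exact (mul_eq_zero.mp this).resolve_right hb0
      rcases mul_eq_zero.mp hxy with h | h
      · rw [h, map_zero, Matrix.zero_mulVec, zero_add]
        exact Or.inr (mem_fieldLine.mpr ⟨y, rfl⟩)
      · rw [h, map_zero, Matrix.zero_mulVec, add_zero]
        exact Or.inl (mem_fieldLine.mpr ⟨x, rfl⟩)
    have hw00 : w₀ ≠ 0 := fun h => hw₀' 0 (by rw [map_zero, Matrix.zero_mulVec, h])
    refine ⟨fieldLine ρ v₀, fieldLine ρ w₀, hline _ hψv, hline _ hψw, by rw [finrank_fieldLine ρ hv₀, hL],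
      by rw [finrank_fieldLine ρ hw00, hL], ?_, fun g hg => ?_⟩
    · rw [Submodule.disjoint_def]
      intro u h1 h2
      obtain ⟨a, ha⟩ := mem_fieldLine.mp h1
      obtain ⟨c, hc⟩ := mem_fieldLine.mp h2
      by_cases hc0 : c = 0
      · rw [← hc, hc0, map_zero, Matrix.zero_mulVec]
      · exfalso
        refine hw₀' (c⁻¹ * a) ?_
        rw [map_mul, ← Matrix.mulVec_mulVec, ha, ← hc, Matrix.mulVec_mulVec, ← map_mul, inv_mul_cancel₀ hc0, map_one,
          Matrix.one_mulVec]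
    have himage : ∀ v, ψ v = 0 → (∀ u ∈ fieldLine ρ v, (g : Matrix ι ι F) *ᵥ u ∈ fieldLine ρ v₀) ∨
        ∀ u ∈ fieldLine ρ v, (g : Matrix ι ι F) *ᵥ u ∈ fieldLine ρ w₀ := by
      intro v hv
      have hsing : ψ ((g : Matrix ι ι F) *ᵥ v) = 0 := hzero _ fun l => by
        rw [← hψ]
        obtain ⟨k', hk', hkv⟩ := hconj g hg _ l.2
        have hk : (⟨k', hk'⟩ : ↥K) = ⟨k', hk'⟩ := rfl
        show Q ((l : Matrix ι ι F) *ᵥ _) = 0
        rw [hkv, app_iso (hH hg)]
        exact (hψ v ⟨k', hk'⟩).trans (by rw [hv, mul_zero, map_zero])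
      have hmap : ∀ X : ι → F, (g : Matrix ι ι F) *ᵥ v ∈ fieldLine ρ X →
          ∀ u ∈ fieldLine ρ v, (g : Matrix ι ι F) *ᵥ u ∈ fieldLine ρ X := by
        intro X hX u hu
        obtain ⟨l, rfl⟩ := mem_fieldLine.mp hu
        obtain ⟨c, hc⟩ := mem_fieldLine.mp hX
        obtain ⟨k', hk', hkv⟩ := hconj g⁻¹ (H.inv_mem hg) _ l.2
        refine mem_fieldLine.mpr ⟨⟨k', hk'⟩ * c, ?_⟩
        rw [map_mul, ← Matrix.mulVec_mulVec, hc]
        have h1 := congrArg (fun y => (g : Matrix ι ι F) *ᵥ y) (hkv ((g : Matrix ι ι F) *ᵥ v))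
        simp only [inv_mulVec_cancel, mulVec_inv_cancel] at h1
        exact h1.symm
      rcases hsplit _ hsing with h | h
      · exact Or.inl (hmap _ h)
      · exact Or.inr (hmap _ h)
    have hcancel : ∀ u : ι → F, (g : Matrix ι ι F) *ᵥ u = 0 → u = 0 := fun u hu => by
      have := congrArg (fun x => ((g⁻¹ : GL ι F) : Matrix ι ι F) *ᵥ x) hu
      simpa [inv_mulVec_cancel] using this
    have hsame : ∀ X : Submodule F (ι → F), Module.finrank F X = r →
        (∀ u ∈ fieldLine ρ v₀, (g : Matrix ι ι F) *ᵥ u ∈ X) → (∀ u ∈ fieldLine ρ w₀, (g : Matrix ι ι F) *ᵥ u ∈ X) →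
        False := by
      intro X hX h1 h2
      have hle : (⊤ : Submodule F (ι → F)).map (Matrix.toLin' (g : Matrix ι ι F)) ≤ X := by
        rintro _ ⟨u, -, rfl⟩
        obtain ⟨x, y, rfl⟩ := exists_coords ρ hn' hv₀ hw₀' u
        rw [Matrix.toLin'_apply, Matrix.mulVec_add]
        exact X.add_mem (h1 _ (mem_fieldLine.mpr ⟨x, rfl⟩)) (h2 _ (mem_fieldLine.mpr ⟨y, rfl⟩))
      have h := Submodule.finrank_mono hle
      rw [← (Submodule.equivMapOfInjective _ (fun a b hab => by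
        rw [← sub_eq_zero]
        refine hcancel _ ?_
        rw [Matrix.mulVec_sub, ← Matrix.toLin'_apply, ← Matrix.toLin'_apply, hab, sub_self]) _).finrank_eq,
        finrank_top, Module.finrank_fintype_fun_eq_card, hX, hcard] at h
      omega
    rcases himage v₀ hψv with h1 | h1 <;> rcases himage w₀ hψw with h2 | h2
    · exact (hsame _ (by rw [finrank_fieldLine ρ hv₀, hL]) h1 h2).elim
    · exact Or.inl ⟨h1, h2⟩
    · exact Or.inr ⟨h1, h2⟩
    · exact (hsame _ (by rw [finrank_fieldLine ρ hw00, hL]) h1 h2).elim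
  -- an anisotropic form over the field
  right
  intro hodd
  push Not at hiso
  have hq : ∀ u, Q u = τ (ψ u) := fun u => by
    have := hψ u 1
    rwa [map_one, Matrix.one_mulVec, one_mul, one_mul] at this
  obtain ⟨z, hz⟩ := exists_irreducible (F := F)
  set ζ : ↥K := algebraMap F ↥K z with hζ
  have hζirr : ∀ t : ↥K, t ^ 2 + t + ζ ≠ 0 := irreducible_of_odd_degree (by rw [hL]; exact hodd) hz
  obtain ⟨v₀, hv₀⟩ : ∃ v : ι → F, v ≠ 0 := exists_ne 0
  set a := ψ v₀ with ha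
  have ha0 : a ≠ 0 := hiso v₀ hv₀
  obtain ⟨w₁, hw₁⟩ : ∃ w, w ∉ fieldLine ρ v₀ := by
    by_contra h
    push Not at h
    have h1 := Submodule.finrank_mono (fun x (_ : x ∈ (⊤ : Submodule F (ι → F))) => h x)
    rw [finrank_top, Module.finrank_fintype_fun_eq_card, finrank_fieldLine ρ hv₀, hL, hcard] at h1
    omega
  -- a vector not orthogonal to `v₀` over the field
  obtain ⟨w₂, hw₂, hb⟩ : ∃ w, w ∉ fieldLine ρ v₀ ∧ ψ (v₀ + w) - a - ψ w ≠ 0 := by
    by_cases hb : ψ (v₀ + w₁) - a - ψ w₁ = 0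
    swap
    · exact ⟨w₁, hw₁, hb⟩
    by_cases h2 : (2 : ↥K) = 0
    · exfalso
      haveI : CharP ↥K 2 := CharTwo.of_one_ne_zero_of_two_eq_zero one_ne_zero h2
      obtain ⟨s, hs⟩ := (frobeniusEquiv ↥K 2).surjective (ψ w₁ / a)
      have hs' : s ^ 2 = ψ w₁ / a := hs
      have hne : ρ s *ᵥ v₀ + w₁ ≠ 0 := fun h => hw₁ (mem_fieldLine.mpr ⟨-s, by
        rw [map_neg, Matrix.neg_mulVec, eq_neg_of_add_eq_zero_left h, neg_neg]⟩)
      refine hiso _ hne ?_
      rw [hadd, ← ha, hb, mul_zero, add_zero, ← pow_two, hs', div_mul_cancel₀ _ ha0]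
      linear_combination (ψ w₁) * h2
    · have h1 : ψ (v₀ + v₀) = 4 * a := by
        rw [show v₀ + v₀ = ρ 2 *ᵥ v₀ by
          rw [show (2 : ↥K) = 1 + 1 from one_add_one_eq_two.symm, map_add, map_one, Matrix.add_mulVec,
            Matrix.one_mulVec], hsmul, ← ha]
        ring
      refine ⟨v₀ + w₁, fun h => hw₁ ?_, ?_⟩
      · have := (fieldLine ρ v₀).sub_mem h (mem_fieldLine.mpr ⟨1, by rw [map_one, Matrix.one_mulVec]⟩ :
          v₀ ∈ fieldLine ρ v₀)
        rwa [add_sub_cancel_left] at this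
      · have e1 : ψ (v₀ + (v₀ + w₁)) = 4 * a + ψ w₁ := by
          rw [← add_assoc, show v₀ + v₀ = ρ 2 *ᵥ v₀ by
            rw [show (2 : ↥K) = 1 + 1 from one_add_one_eq_two.symm, map_add, map_one, Matrix.add_mulVec,
              Matrix.one_mulVec], hadd, ← ha, hb]
          ring
        have e2 : ψ (v₀ + w₁) = a + ψ w₁ := by linear_combination hb
        rw [e1, e2]
        intro h0
        exact mul_ne_zero h2 ha0 (by linear_combination h0)
  set b := ψ (v₀ + w₂) - a - ψ w₂ with hbdef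
  set w₃ := ρ (a / b) *ᵥ w₂ with hw₃
  have hform3 : ∀ x y, ψ (ρ x *ᵥ v₀ + ρ y *ᵥ w₂) = x * x * a + x * y * b + y * y * ψ w₂ := fun x y => by
    rw [hform2]
  set z₁ := (a / b) * (a / b) * ψ w₂ / a with hz₁def
  have hz₁ : ∀ t : ↥K, t ^ 2 + t + z₁ ≠ 0 := by
    intro t ht
    have hne : ρ t *ᵥ v₀ + ρ (a / b) *ᵥ w₂ ≠ 0 := by
      intro h
      refine hw₂ (mem_fieldLine.mpr ⟨-(b / a * t), ?_⟩)
      have h1 := congrArg (fun u => ρ (b / a) *ᵥ u) h
      simp only [Matrix.mulVec_add, Matrix.mulVec_mulVec, ← map_mul, Matrix.mulVec_zero] at h1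
      rw [show b / a * (a / b) = 1 by field_simp, map_one, Matrix.one_mulVec] at h1
      rw [map_neg, Matrix.neg_mulVec, eq_neg_of_add_eq_zero_left h1, neg_neg]
    refine hiso _ hne ?_
    rw [hform3]
    have e : z₁ * a = (a / b) * (a / b) * ψ w₂ := by rw [hz₁def, div_mul_cancel₀ _ ha0]
    have e2 : a / b * b = a := div_mul_cancel₀ _ hb
    linear_combination a * ht - e + t * e2
  obtain ⟨α, hα, hαz⟩ := exists_binary_change hz₁ hζirr
  set w := ρ α *ᵥ v₀ + ρ ((1 - 2 * α) * (a / b)) *ᵥ w₂ with hw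
  have hwv : ∀ l, ρ l *ᵥ v₀ ≠ w := by
    intro l h
    have hc : (1 - 2 * α) * (a / b) ≠ 0 := mul_ne_zero hα (div_ne_zero ha0 hb)
    refine hw₂ (mem_fieldLine.mpr ⟨((1 - 2 * α) * (a / b))⁻¹ * (l - α), ?_⟩)
    rw [map_mul, ← Matrix.mulVec_mulVec, map_sub, Matrix.sub_mulVec, h, hw, add_sub_cancel_left,
      Matrix.mulVec_mulVec, ← map_mul, inv_mul_cancel₀ hc, map_one, Matrix.one_mulVec]
  have hform : ∀ x y, ψ (ρ x *ᵥ v₀ + ρ y *ᵥ w) = a * (x * x + x * y + ζ * (y * y)) := by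
    intro x y
    rw [hw, Matrix.mulVec_add, Matrix.mulVec_mulVec, Matrix.mulVec_mulVec, ← map_mul, ← map_mul, ← add_assoc,
      ← Matrix.add_mulVec, ← map_add, hform3]
    have e : z₁ * a = (a / b) * (a / b) * ψ w₂ := by rw [hz₁def, div_mul_cancel₀ _ ha0]
    have e2 : a / b * b = a := div_mul_cancel₀ _ hb
    linear_combination (y * y * (1 - 2 * α) * (1 - 2 * α)) * (-e) + a * (y * y) * hαz +
      (y * (1 - 2 * α) * (x + y * α)) * e2
  clear_value w
  clear hw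
  have hcoords := exists_coords ρ hn' hv₀ hwv
  choose cx cy hc using hcoords
  have huniq : ∀ x y x' y', ρ x *ᵥ v₀ + ρ y *ᵥ w = ρ x' *ᵥ v₀ + ρ y' *ᵥ w → x = x' ∧ y = y' := by
    intro x y x' y' h
    have h' : ρ (x - x') *ᵥ v₀ + ρ (y - y') *ᵥ w = 0 := by
      rw [map_sub, map_sub, Matrix.sub_mulVec, Matrix.sub_mulVec]
      linear_combination (norm := module) h
    have hy : y - y' = 0 := by
      by_contra hy
      refine hwv (-((y - y')⁻¹ * (x - x'))) ?_
      have h1 := congrArg (fun u => ρ (y - y')⁻¹ *ᵥ u) h'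
      simp only [Matrix.mulVec_add, Matrix.mulVec_mulVec, ← map_mul, Matrix.mulVec_zero] at h1
      rw [inv_mul_cancel₀ hy, map_one, Matrix.one_mulVec] at h1
      rw [map_neg, Matrix.neg_mulVec, eq_neg_of_add_eq_zero_left h1, neg_neg]
    rw [hy, map_zero, Matrix.zero_mulVec, add_zero] at h'
    refine ⟨?_, sub_eq_zero.mp hy⟩
    by_contra hx
    have h1 := congrArg (fun u => ρ (x - x')⁻¹ *ᵥ u) h'
    simp only [Matrix.mulVec_mulVec, ← map_mul, Matrix.mulVec_zero] at h1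
    rw [inv_mul_cancel₀ (sub_ne_zero.mpr hx), map_one, Matrix.one_mulVec] at h1
    exact hv₀ h1
  let Tl : (ι → F) →ₗ[F] (ι → F) :=
    { toFun := fun u => ρ (-(ζ * cy u)) *ᵥ v₀ + ρ (cx u + cy u) *ᵥ w
      map_add' := fun u u' => by
        obtain ⟨h1, h2⟩ := huniq (cx (u + u')) (cy (u + u')) (cx u + cx u') (cy u + cy u') (by
          rw [← hc, map_add, map_add, Matrix.add_mulVec, Matrix.add_mulVec]
          conv_lhs => rw [hc u, hc u']
          abel)
        simp only [h1, h2, map_add, map_neg, mul_add, Matrix.add_mulVec, Matrix.neg_mulVec]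
        abel
      map_smul' := fun c u => by
        obtain ⟨h1, h2⟩ := huniq (cx (c • u)) (cy (c • u)) (c • cx u) (c • cy u) (by
          rw [← hc, map_smul, map_smul, Matrix.smul_mulVec, Matrix.smul_mulVec, ← smul_add, ← hc])
        simp only [h1, h2, ← smul_add, mul_smul_comm, ← smul_neg, map_smul, Matrix.smul_mulVec, RingHom.id_apply] }
  set T := LinearMap.toMatrix' Tl with hTdef
  have hT : ∀ x y, T *ᵥ (ρ x *ᵥ v₀ + ρ y *ᵥ w) = ρ (-(ζ * y)) *ᵥ v₀ + ρ (x + y) *ᵥ w := by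
    intro x y
    rw [← Matrix.toLin'_apply, hTdef, Matrix.toLin'_toMatrix']
    obtain ⟨h1, h2⟩ := huniq _ _ _ _ (hc (ρ x *ᵥ v₀ + ρ y *ᵥ w)).symm
    show ρ (-(ζ * cy _)) *ᵥ v₀ + ρ (cx _ + cy _) *ᵥ w = _
    rw [h1, h2]
  have hTT : ∀ u, T *ᵥ (T *ᵥ u) = T *ᵥ u - z • u := by
    intro u
    rw [hc u, hT, hT, show z • (ρ (cx u) *ᵥ v₀ + ρ (cy u) *ᵥ w) = ρ (ζ * cx u) *ᵥ v₀ + ρ (ζ * cy u) *ᵥ w by
      rw [hζ, ← Algebra.smul_def, ← Algebra.smul_def, map_smul, map_smul, Matrix.smul_mulVec, Matrix.smul_mulVec,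
        smul_add]]
    simp only [mul_add, neg_add, map_add, map_neg, Matrix.add_mulVec, Matrix.neg_mulVec]
    abel
  have hT2 : T * T = T - z • (1 : Matrix ι ι F) := by
    refine Matrix.ext_iff_mulVec.mpr fun u => ?_
    rw [← Matrix.mulVec_mulVec, hTT, Matrix.sub_mulVec, Matrix.smul_mulVec, Matrix.one_mulVec]
  have hψT : ∀ u, ψ (T *ᵥ u) = ζ * ψ u := fun u => by
    rw [hc u, hT, hform, hform]
    ring
  have hψT1 : ∀ u, ψ ((1 - T) *ᵥ u) = ζ * ψ u := fun u => by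
    rw [Matrix.sub_mulVec, Matrix.one_mulVec, hc u, hT,
      show ρ (cx u) *ᵥ v₀ + ρ (cy u) *ᵥ w - (ρ (-(ζ * cy u)) *ᵥ v₀ + ρ (cx u + cy u) *ᵥ w) =
        ρ (cx u + ζ * cy u) *ᵥ v₀ + ρ (-(cx u)) *ᵥ w by
          simp only [map_add, map_neg, Matrix.add_mulVec, Matrix.neg_mulVec]; abel, hform, hform]
    ring
  have hζτ : ∀ x, τ (ζ * x) = z * τ x := fun x => by rw [hζ, ← Algebra.smul_def, map_smul, smul_eq_mul]
  refine ⟨T, z, hz, hT2, fun v => by rw [hq, hq, hψT, hζτ], fun v => by rw [hq, hq, hψT1, hζτ], fun g hg => ?_⟩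
  set T' := (g : Matrix ι ι F) * T * ((g⁻¹ : GL ι F) : Matrix ι ι F) with hT'
  have hlin : ∀ (l : ↥K) u, T *ᵥ (ρ l *ᵥ u) = ρ l *ᵥ (T *ᵥ u) := by
    intro l u
    rw [hc u, Matrix.mulVec_add, Matrix.mulVec_mulVec, Matrix.mulVec_mulVec, ← map_mul, ← map_mul, hT, hT,
      Matrix.mulVec_add, Matrix.mulVec_mulVec, Matrix.mulVec_mulVec, ← map_mul, ← map_mul]
    congr 3 <;> ring
  have hlin' : ∀ (l : ↥K) u, T' *ᵥ (ρ l *ᵥ u) = ρ l *ᵥ (T' *ᵥ u) := by
    intro l u
    obtain ⟨k', hk', hkv⟩ := hconj g hg _ l.2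
    have hkv' : ∀ v, ρ l *ᵥ ((g : Matrix ι ι F) *ᵥ v) = (g : Matrix ι ι F) *ᵥ (ρ ⟨k', hk'⟩ *ᵥ v) := hkv
    obtain ⟨y, rfl⟩ : ∃ y, (g : Matrix ι ι F) *ᵥ y = u := ⟨_, mulVec_inv_cancel g u⟩
    simp only [hT', ← Matrix.mulVec_mulVec]
    rw [hkv', inv_mulVec_cancel, inv_mulVec_cancel, hlin, ← hkv']
  have hQT : ∀ u, Q (T' *ᵥ u) = z * Q u ∧ Q (u - T' *ᵥ u) = z * Q u := by
    intro u
    obtain ⟨y, rfl⟩ : ∃ y, (g : Matrix ι ι F) *ᵥ y = u := ⟨_, mulVec_inv_cancel g u⟩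
    simp only [hT', ← Matrix.mulVec_mulVec, inv_mulVec_cancel, ← Matrix.mulVec_sub, app_iso (hH hg)]
    refine ⟨by rw [hq, hq, hψT, hζτ], ?_⟩
    rw [show y - T *ᵥ y = (1 - T) *ᵥ y by rw [Matrix.sub_mulVec, Matrix.one_mulVec], hq, hq, hψT1, hζτ]
  have hψ' : ∀ u, ψ (T' *ᵥ u) = ζ * ψ u ∧ ψ (u - T' *ᵥ u) = ζ * ψ u := by
    intro u
    refine ⟨sub_eq_zero.mp (hzero _ fun l => ?_), sub_eq_zero.mp (hzero _ fun l => ?_)⟩
    · rw [mul_sub, map_sub, mul_left_comm _ ζ, hζτ, ← hψ, ← hψ, ← hlin', (hQT _).1, sub_self]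
    · rw [mul_sub, map_sub, mul_left_comm _ ζ, hζτ, ← hψ, ← hψ, Matrix.mulVec_sub, ← hlin', (hQT _).2, sub_self]
  obtain ⟨p, q, hpq⟩ : ∃ p q, T' *ᵥ v₀ = ρ p *ᵥ v₀ + ρ q *ᵥ w := ⟨_, _, hc _⟩
  have hT'T' : T' *ᵥ (T' *ᵥ v₀) = T' *ᵥ v₀ - z • v₀ := by
    simp only [hT', ← Matrix.mulVec_mulVec, inv_mulVec_cancel, hTT, Matrix.mulVec_sub, Matrix.mulVec_smul,
      mulVec_inv_cancel]
  have e1 : a * (p * p + p * q + ζ * (q * q)) = ζ * a := by rw [← hform, ← hpq, (hψ' v₀).1, ← ha]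
  have e2 : a * ((1 - p) * (1 - p) + (1 - p) * (-q) + ζ * (-q * -q)) = ζ * a := by
    rw [← hform]
    have : v₀ - T' *ᵥ v₀ = ρ (1 - p) *ᵥ v₀ + ρ (-q) *ᵥ w := by
      rw [hpq, map_sub, map_one, map_neg, Matrix.sub_mulVec, Matrix.one_mulVec, Matrix.neg_mulVec]
      abel
    rw [← this, (hψ' v₀).2, ← ha]
  have hq' : q = 1 - 2 * p := by
    refine mul_left_cancel₀ ha0 ?_
    linear_combination e1 - e2
  have hd : (1 : ↥K) - 4 * ζ ≠ 0 := one_sub_four_ne_zero hζirr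
  have hpp : p * (p - 1) = 0 := by
    refine (mul_eq_zero.mp (?_ : p * (p - 1) * ((1 - 4 * ζ) * a) = 0)).resolve_right (mul_ne_zero hd ha0)
    rw [hq'] at e1
    linear_combination -e1
  have hgen : ∀ (S : Matrix ι ι F), (∀ (l : ↥K) u, S *ᵥ (ρ l *ᵥ u) = ρ l *ᵥ (S *ᵥ u)) →
      T' *ᵥ v₀ = S *ᵥ v₀ → T' *ᵥ w = S *ᵥ w → T' = S := fun S hS h1 h2 => Matrix.ext_iff_mulVec.mpr fun u => by
    rw [hc u, Matrix.mulVec_add, Matrix.mulVec_add, hlin', hlin', hS, hS, h1, h2]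
  have hTv : T *ᵥ v₀ = w := by
    have := hT 1 0
    simpa using this
  have hTw : T *ᵥ w = ρ (-ζ) *ᵥ v₀ + w := by
    have := hT 0 1
    simpa using this
  have hback : T' * (g : Matrix ι ι F) = (g : Matrix ι ι F) * T := by
    rw [hT', mul_assoc, Units.inv_mul, mul_one]
  rcases mul_eq_zero.mp hpp with hp | hp
  · left
    have hv : T' *ᵥ v₀ = w := by rw [hpq, hp, hq', hp]; simp
    have hw' : T' *ᵥ w = T *ᵥ w := by
      conv_lhs => rw [← hv]
      rw [hT'T', hv, hTw, hζ, map_neg, AlgHom.commutes, Matrix.neg_mulVec, Algebra.algebraMap_eq_smul_one,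
        Matrix.smul_mulVec, Matrix.one_mulVec]
      abel
    rw [← hback, hgen T hlin (hv.trans hTv.symm) hw']
  · right
    rw [sub_eq_zero] at hp
    have hv : T' *ᵥ v₀ = v₀ - w := by
      rw [hpq, hp, hq', hp, show (1 : ↥K) - 2 * 1 = -1 by ring, map_one, map_neg, map_one, Matrix.one_mulVec,
        Matrix.neg_mulVec, Matrix.one_mulVec, sub_eq_add_neg]
    have hw' : T' *ᵥ w = (1 - T) *ᵥ w := by
      have h1 : T' *ᵥ w = T' *ᵥ v₀ - T' *ᵥ (T' *ᵥ v₀) := by
        conv_rhs => rw [hv, Matrix.mulVec_sub, hv]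
        abel
      rw [h1, hT'T', Matrix.sub_mulVec, Matrix.one_mulVec, hTw, hζ, map_neg, AlgHom.commutes, Matrix.neg_mulVec,
        Algebra.algebraMap_eq_smul_one, Matrix.smul_mulVec, Matrix.one_mulVec]
      abel
    have hlin1 : ∀ (l : ↥K) u, (1 - T) *ᵥ (ρ l *ᵥ u) = ρ l *ᵥ ((1 - T) *ᵥ u) := fun l u => by
      rw [Matrix.sub_mulVec, Matrix.sub_mulVec, Matrix.one_mulVec, Matrix.one_mulVec, Matrix.mulVec_sub, hlin]
    rw [← hback, hgen (1 - T) hlin1 (by rw [hv, Matrix.sub_mulVec, Matrix.one_mulVec, hTv]) hw']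

end Cfsg.Agent.Lib.MaxClass.OrthEven
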