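import Mathlib
import Cfsg.Prelude.Def_GeometricClasses
import Cfsg.Agent.Lib.MaxClass.OrthEven.Plus
import Cfsg.Agent.Lib.MaxClass.OrthEven.Common

/-!
Fields of degree two acting by similitudes, and groups normalising a skew element of scalar square.
-/

set_option autoImplicit false
set_option linter.style.haveILetI false
set_option linter.unusedSectionVars false

namespace Cfsg.Agent.Lib.MaxClass.OrthEven

open Cfsg Cfsg.Geo Matrix QuadraticMap
open scoped Kronecker
open Cfsg.Agent.Lib Cfsg.Agent.Lib.Aschbacher Cfsg.Agent.Lib.MaxClass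
open Cfsg.Agent.Lib.MaxClass.SympTensorPlus (jTwo transpose_mul_jTwo_mul)

variable {ι : Type} [Fintype ι] [DecidableEq ι] {F : Type*} [Field F]

theorem decomposition_pair {W U : Submodule F (ι → F)} (hd : Disjoint W U) (hs : W ⊔ U = ⊤) {k : ℕ} (hk : 0 < k)
    (hW : Module.finrank F W = k) (hU : Module.finrank F U = k) : IsMDecomposition k ![W, U] where
  two_le := le_rfl
  pos := hk
  finrank_eq i := by fin_cases i <;> simpa
  indep := (iSupIndep_pair (show (0 : Fin 2) ≠ 1 by decide) fun l => by fin_cases l <;> simp).mpr (by simpa using hd)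
  iSup_eq_top := by
    rw [← hs]
    exact le_antisymm (iSup_le fun i => by fin_cases i <;> simp)
      (sup_le (le_iSup_of_le (0 : Fin 2) le_rfl) (le_iSup_of_le (1 : Fin 2) le_rfl))

theorem mem_decompositionStabilizer_pair {W U : Submodule F (ι → F)}
    (hd : Module.finrank F W = Module.finrank F U) {g : GL ι F}
    (h : ((∀ w ∈ W, (g : Matrix ι ι F) *ᵥ w ∈ W) ∧ ∀ u ∈ U, (g : Matrix ι ι F) *ᵥ u ∈ U) ∨
      ((∀ w ∈ W, (g : Matrix ι ι F) *ᵥ w ∈ U) ∧ ∀ u ∈ U, (g : Matrix ι ι F) *ᵥ u ∈ W)) :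
    g ∈ decompositionStabilizer ![W, U] := by
  have hinj : Function.Injective (Matrix.toLin' (g : Matrix ι ι F)) := fun x y hxy => by
    have := congrArg (fun u => ((g⁻¹ : GL ι F) : Matrix ι ι F) *ᵥ u) hxy
    simpa [Matrix.mulVec_mulVec] using this
  have hmap : ∀ (X Y : Submodule F (ι → F)), Module.finrank F X = Module.finrank F Y →
      (∀ w ∈ X, (g : Matrix ι ι F) *ᵥ w ∈ Y) → X.map (Matrix.toLin' (g : Matrix ι ι F)) = Y := by
    intro X Y hXY hm
    refine Submodule.eq_of_le_of_finrank_eq ?_ ?_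
    · rintro _ ⟨w, hw, rfl⟩
      rw [Matrix.toLin'_apply]
      exact hm w hw
    · rw [← (Submodule.equivMapOfInjective _ hinj X).finrank_eq, hXY]
  rcases h with ⟨h1, h2⟩ | ⟨h1, h2⟩
  · refine ⟨1, fun i => ?_⟩
    fin_cases i
    · exact hmap W W rfl h1
    · exact hmap U U rfl h2
  · refine ⟨Equiv.swap 0 1, fun i => ?_⟩
    fin_cases i
    · exact hmap W U hd h1
    · exact hmap U W hd.symm h2

variable [Fintype F] {Q : QuadraticForm F (ι → F)}

/-- A field of degree two acting by similitudes splits the space into anisotropic planes. -/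
theorem plus_iff_of_similar_field (hQ : (QuadraticMap.polarBilin Q).Nondegenerate) {K : Subalgebra F (Matrix ι ι F)}
    (hK : IsFieldSubalgebra 2 K) (hadj : IsAdjointClosedFor (polar ⇑Q) K)
    (hsim : ∀ k ∈ K, ∃ c : F, ∀ v, Q (k *ᵥ v) = c * Q v) {j : ℕ} (hj : 1 ≤ j)
    (hn : Fintype.card ι = 2 * j) : IsPlusTypeOn (⇑Q) ⊤ ↔ Even j := by
  classical
  have hline : ∀ v, Q v ≠ 0 → ∃ P : Submodule F (ι → F), v ∈ P ∧ Module.finrank F P = 2 ∧
      IsNondegenerateOn (polar ⇑Q) P ∧ ¬ IsPlusTypeOn (⇑Q) P ∧ (∀ k ∈ K, ∀ p ∈ P, k *ᵥ p ∈ P) ∧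
      ∀ p ∈ P, ∃ k ∈ K, p = k *ᵥ v := by
    intro v hv
    let φ : K →ₗ[F] (ι → F) :=
      { toFun := fun k => (k : Matrix ι ι F) *ᵥ v
        map_add' := fun k l => Matrix.add_mulVec _ _ _
        map_smul' := fun c k => Matrix.smul_mulVec _ _ _ }
    have hv0 : v ≠ 0 := fun h => hv (by rw [h, map_zero])
    have hinv : ∀ k ∈ K, k ≠ 0 → ∀ w, k *ᵥ w = 0 → w = 0 := by
      intro k hk hk0 w hw
      obtain ⟨l, hl, hkl⟩ := hK.inv k hk hk0
      rw [← Matrix.one_mulVec w, ← hkl, hK.comm k hk l hl, ← Matrix.mulVec_mulVec, hw, Matrix.mulVec_zero]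
    have hφ : Function.Injective φ := by
      rw [← LinearMap.ker_eq_bot, LinearMap.ker_eq_bot']
      intro k hk
      by_contra h0
      exact hv0 (hinv _ k.2 (fun h => h0 (Subtype.ext h)) v hk)
    have hPd : Module.finrank F (LinearMap.range φ) = 2 := by
      rw [LinearMap.finrank_range_of_inj hφ, hK.finrank_eq]
    have haniso : ∀ p ∈ LinearMap.range φ, p ≠ 0 → Q p ≠ 0 := by
      rintro _ ⟨k, rfl⟩ hp hQp
      obtain ⟨c, hc⟩ := hsim _ k.2
      have hk0 : (k : Matrix ι ι F) ≠ 0 := fun h => hp (by show (k : Matrix ι ι F) *ᵥ v = 0; rw [h, Matrix.zero_mulVec])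
      have hc0 : c ≠ 0 := by
        intro hc0
        obtain ⟨l, hl, hkl⟩ := hK.inv _ k.2 hk0
        apply hv
        have h := hc (l *ᵥ v)
        rwa [Matrix.mulVec_mulVec, hkl, Matrix.one_mulVec, hc0, zero_mul] at h
      exact hv ((mul_eq_zero.mp ((hc v).symm.trans hQp)).resolve_left hc0)
    have hPnd : IsNondegenerateOn (polar ⇑Q) (LinearMap.range φ) := by
      intro x hx hx0
      have : ∃ y ∈ LinearMap.range φ, polar ⇑Q y x ≠ 0 := by
        by_contra h
        push Not at h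
        have hxx := h x hx
        rcases two_eq_zero_or_odd (F := F) with h2 | ⟨h2, -⟩
        · -- in characteristic two an anisotropic plane is not totally isotropic
          obtain ⟨y, hy, hyx⟩ : ∃ y ∈ LinearMap.range φ, y ∉ F ∙ x := by
            by_contra h'
            push Not at h'
            have := Submodule.finrank_mono (show LinearMap.range φ ≤ F ∙ x from h')
            rw [hPd, finrank_span_singleton hx0] at this
            omega
          haveI : CharP F 2 := CharTwo.of_one_ne_zero_of_two_eq_zero one_ne_zero h2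
          obtain ⟨s, hs⟩ := (frobeniusEquiv F 2).surjective (Q y / Q x)
          refine haniso (y + s • x) ((LinearMap.range φ).add_mem hy ((LinearMap.range φ).smul_mem s hx))
            (fun he => hyx ?_) ?_
          · rw [eq_neg_of_add_eq_zero_left he]
            exact Submodule.neg_mem _ (Submodule.smul_mem _ _ (Submodule.mem_span_singleton_self x))
          · have hs' : s ^ 2 = Q y / Q x := hs
            rw [QuadraticMap.map_add (⇑Q), QuadraticMap.map_smul, polar_smul_right, h y hy, smul_zero, add_zero,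
              smul_eq_mul, ← pow_two, hs', div_mul_cancel₀ _ (haniso x hx hx0)]
            linear_combination (Q y) * h2
        · exact haniso x hx hx0 (by rw [eq_half_polar h2, hxx, mul_zero])
      obtain ⟨y, hy, hyx⟩ := this
      exact ⟨⟨y, hy, hyx⟩, ⟨y, hy, by rwa [polar_comm]⟩⟩
    refine ⟨LinearMap.range φ, ⟨1, Matrix.one_mulVec v⟩, hPd, hPnd, fun hp => ?_, ?_, ?_⟩
    · obtain ⟨x, hx, hx0, hQx⟩ := (isPlusTypeOn_plane_iff hPd).mp hp
      exact haniso x hx hx0 hQx
    · rintro k hk _ ⟨l, rfl⟩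
      exact ⟨⟨k, hk⟩ * l, (Matrix.mulVec_mulVec _ _ _).symm⟩
    · rintro _ ⟨k, rfl⟩
      exact ⟨k, k.2, rfl⟩
  have hperp : ∀ P : Submodule F (ι → F), (∀ k ∈ K, ∀ p ∈ P, k *ᵥ p ∈ P) →
      ∀ k ∈ K, ∀ p ∈ polarPerp Q P, k *ᵥ p ∈ polarPerp Q P := by
    intro P hP k hk p hp
    obtain ⟨k', hk', hkk⟩ := hadj k hk
    refine mem_polarPerp.mpr fun w hw => ?_
    rw [polar_comm, hkk, polar_comm]
    exact mem_polarPerp.mp hp _ (hP k' hk' w hw)
  have main : ∀ i : ℕ, ∀ W : Submodule F (ι → F), (∀ k ∈ K, ∀ w ∈ W, k *ᵥ w ∈ W) →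
      IsNondegenerateOn (polar ⇑Q) W → Module.finrank F W = 2 * (i + 1) →
      (IsPlusTypeOn (⇑Q) W ↔ Even (i + 1)) := by
    intro i
    induction i with
    | zero =>
      intro W hWK hW hWd
      obtain ⟨v, hv, hQv⟩ : ∃ v ∈ W, Q v ≠ 0 := by
        by_contra h
        push Not at h
        obtain ⟨x, hx, hx0⟩ := W.ne_bot_iff.mp (ne_bot_of_finrank (by omega))
        obtain ⟨⟨y, hy, hyx⟩, -⟩ := hW x hx hx0
        exact hyx (by rw [QuadraticMap.polar, h _ (W.add_mem hy hx), h y hy, h x hx]; simp)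
      obtain ⟨P, -, hPd, -, hPm, -, hPgen⟩ := hline v hQv
      have hPW : P = W := Submodule.eq_of_le_of_finrank_eq (fun p hp => by
        obtain ⟨k, hk, rfl⟩ := hPgen p hp
        exact hWK k hk v hv) (by omega)
      rw [← hPW]
      simp [hPm]
    | succ i ih =>
      intro W hWK hW hWd
      obtain ⟨v, hv, hQv⟩ : ∃ v ∈ W, Q v ≠ 0 := by
        by_contra h
        push Not at h
        obtain ⟨x, hx, hx0⟩ := W.ne_bot_iff.mp (ne_bot_of_finrank (by omega))
        obtain ⟨⟨y, hy, hyx⟩, -⟩ := hW x hx hx0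
        exact hyx (by rw [QuadraticMap.polar, h _ (W.add_mem hy hx), h y hy, h x hx]; simp)
      obtain ⟨P, -, hPd, hPnd, hPm, hPK, hPgen⟩ := hline v hQv
      have hPW : P ≤ W := fun p hp => by
        obtain ⟨k, hk, rfl⟩ := hPgen p hp
        exact hWK k hk v hv
      have ho : AreOrthogonalFor (polar ⇑Q) P (W ⊓ polarPerp Q P) := fun a ha b hb => mem_polarPerp.mp hb.2 a ha
      have hs : P ⊔ (W ⊓ polarPerp Q P) = W := by
        refine le_antisymm (sup_le hPW inf_le_left) fun x hx => ?_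
        obtain ⟨p, hp, r, hr, hpr⟩ := Submodule.mem_sup.mp
          ((SingMax.isCompl_polarPerp hQ hPnd).sup_eq_top ▸ Submodule.mem_top : x ∈ P ⊔ polarPerp Q P)
        refine Submodule.mem_sup.mpr ⟨p, hp, r, ⟨?_, hr⟩, hpr⟩
        rw [eq_sub_of_add_eq' hpr]
        exact W.sub_mem hx (hPW hp)
      have hRnd := nondegenerateOn_of_sup hW hs ho
      have hRd : Module.finrank F (W ⊓ polarPerp Q P : Submodule F (ι → F)) = 2 * (i + 1) := by
        have h := finrank_orth_sup hPnd hRnd ho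
        rw [hs] at h
        omega
      have hih := ih (W ⊓ polarPerp Q P) (fun k hk w hw => ⟨hWK k hk w hw.1, hperp P hPK k hk w hw.2⟩) hRnd hRd
      have h := isPlusTypeOn_sup_iff hPnd hRnd ho le_rfl (show 1 ≤ i + 1 by omega) (by omega) hRd
      rw [hs] at h
      rw [h, hih, Nat.even_add_one (n := i + 1)]
      simp [hPm]
  have h := main (j - 1) ⊤ (fun k _ w _ => Submodule.mem_top) (isNondegenerateOn_top hQ)
    (by rw [finrank_top, Module.finrank_fintype_fun_eq_card, hn]; omega)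
  rwa [show j - 1 + 1 = j by omega] at h

/-- A group normalising a skew element with scalar square. -/
theorem skew_case (hQ : (QuadraticMap.polarBilin Q).Nondegenerate) (h2 : (2 : F) ≠ 0) (hn : 1 ≤ Fintype.card ι)
    {H : Subgroup (GL ι F)} {k : Matrix ι ι F} {δ : F} (hδ : δ ≠ 0) (hk : k * k = δ • (1 : Matrix ι ι F))
    (hskew : ∀ x y, polar ⇑Q (k *ᵥ x) y = -polar ⇑Q x (k *ᵥ y))
    (hconj : ∀ g ∈ H, (g : Matrix ι ι F) * k = k * (g : Matrix ι ι F) ∨
      (g : Matrix ι ι F) * k = -(k * (g : Matrix ι ι F))) :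
    (∃ K : Subalgebra F (Matrix ι ι F), IsFieldSubalgebra 2 K ∧ IsAdjointClosedFor (polar ⇑Q) K ∧
        ¬ IsSelfAdjointFor (polar ⇑Q) K ∧ (∀ x ∈ K, ∃ c : F, ∀ v, Q (x *ᵥ v) = c * Q v) ∧
        H ≤ subalgebraNormalizer K) ∨
    (∃ (m : ℕ) (D : Fin 2 → Submodule F (ι → F)), 2 * m = Fintype.card ι ∧ IsMDecomposition m D ∧
      (∀ i, IsTotallySingularQuad (⇑Q) (D i)) ∧ H ≤ decompositionStabilizer D) := by
  classical
  haveI : Nonempty ι := Fintype.card_pos_iff.mp (by omega)
  have hone : ∀ v : ι → F, k *ᵥ (k *ᵥ v) = δ • v := fun v => by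
    rw [Matrix.mulVec_mulVec, hk, Matrix.smul_mulVec, Matrix.one_mulVec]
  by_cases hsq : IsSquare δ
  · -- the eigenspaces
    right
    obtain ⟨c, hc⟩ := hsq
    have hc0 : c ≠ 0 := fun h => hδ (by rw [hc, h, zero_mul])
    let E : F → Submodule F (ι → F) := fun s => LinearMap.ker (Matrix.toLin' k - s • LinearMap.id)
    have hE : ∀ s v, v ∈ E s ↔ k *ᵥ v = s • v := fun s v => by
      rw [LinearMap.mem_ker, LinearMap.sub_apply, sub_eq_zero, Matrix.toLin'_apply]; rfl
    have hts : ∀ s, s ≠ 0 → IsTotallySingularQuad (⇑Q) (E s) := by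
      intro s hs v hv
      have h := hskew v v
      rw [(hE s v).mp hv, polar_smul_left, polar_smul_right, smul_eq_mul] at h
      have h0 : polar ⇑Q v v = 0 := by
        have : (2 : F) * (s * polar ⇑Q v v) = 0 := by linear_combination h
        exact (mul_eq_zero.mp ((mul_eq_zero.mp this).resolve_left h2)).resolve_left hs
      rw [eq_half_polar h2, h0, mul_zero]
    have hdim : ∀ s, s ≠ 0 → 2 * Module.finrank F (E s) ≤ Fintype.card ι := by
      intro s hs
      have hle : E s ≤ polarPerp Q (E s) := fun w hw => mem_polarPerp.mpr fun a ha => by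
        rw [QuadraticMap.polar, hts s hs _ ((E s).add_mem ha hw), hts s hs a ha, hts s hs w hw]; simp
      have h := Submodule.finrank_mono hle
      rw [finrank_polarPerp hQ] at h
      omega
    have hdis : Disjoint (E c) (E (-c)) := by
      rw [Submodule.disjoint_def]
      intro v h1 h1'
      rw [hE] at h1 h1'
      have : (2 * c) • v = 0 := by
        have h := h1.symm.trans h1'
        linear_combination (norm := module) h
      exact (smul_eq_zero.mp this).resolve_left (mul_ne_zero h2 hc0)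
    have hsup : E c ⊔ E (-c) = ⊤ := by
      rw [eq_top_iff]
      intro v _
      refine Submodule.mem_sup.mpr ⟨(2⁻¹ : F) • (v + c⁻¹ • (k *ᵥ v)), (hE _ _).mpr ?_,
        (2⁻¹ : F) • (v - c⁻¹ • (k *ᵥ v)), (hE _ _).mpr ?_, ?_⟩
      · rw [Matrix.mulVec_smul, Matrix.mulVec_add, Matrix.mulVec_smul, hone, hc]
        match_scalars <;> field_simp
      · rw [Matrix.mulVec_smul, Matrix.mulVec_sub, Matrix.mulVec_smul, hone, hc]
        match_scalars <;> field_simp
      · match_scalars <;> field_simp <;> ring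
    have hsum : Module.finrank F (E c) + Module.finrank F (E (-c)) = Fintype.card ι := by
      have h := Submodule.finrank_sup_add_finrank_inf_eq (E c) (E (-c))
      rw [hsup, hdis.eq_bot, finrank_bot, finrank_top, Module.finrank_fintype_fun_eq_card] at h
      omega
    have h1 := hdim c hc0
    have h1' := hdim (-c) (neg_ne_zero.mpr hc0)
    refine ⟨Module.finrank F (E c), ![E c, E (-c)], by omega,
      decomposition_pair hdis hsup (by omega) rfl (by omega), fun i => ?_, fun g hg => ?_⟩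
    · fin_cases i
      · exact hts c hc0
      · exact hts (-c) (neg_ne_zero.mpr hc0)
    refine mem_decompositionStabilizer_pair (by omega) ?_
    rcases hconj g hg with h | h
    · exact Or.inl ⟨fun w hw => (hE _ _).mpr (by
          rw [Matrix.mulVec_mulVec, ← h, ← Matrix.mulVec_mulVec, (hE _ _).mp hw, Matrix.mulVec_smul]),
        fun w hw => (hE _ _).mpr (by
          rw [Matrix.mulVec_mulVec, ← h, ← Matrix.mulVec_mulVec, (hE _ _).mp hw, Matrix.mulVec_smul])⟩
    · have h' : k * (g : Matrix ι ι F) = -((g : Matrix ι ι F) * k) := by rw [h, neg_neg]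
      exact Or.inr ⟨fun w hw => (hE _ _).mpr (by
          rw [Matrix.mulVec_mulVec, h', Matrix.neg_mulVec, ← Matrix.mulVec_mulVec, (hE _ _).mp hw,
            Matrix.mulVec_smul, neg_smul]),
        fun w hw => (hE _ _).mpr (by
          rw [Matrix.mulVec_mulVec, h', Matrix.neg_mulVec, ← Matrix.mulVec_mulVec, (hE _ _).mp hw,
            Matrix.mulVec_smul, neg_smul, neg_neg])⟩
  -- a field
  left
  have hli : LinearIndependent F ![(1 : Matrix ι ι F), k] := by
    refine (LinearIndependent.pair_iff' one_ne_zero).mpr fun a ha => hsq ⟨a, ?_⟩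
    have h := hk
    rw [← ha, Matrix.smul_mul, Matrix.mul_smul, one_mul, smul_smul] at h
    have := congrFun (congrFun h (Classical.arbitrary ι)) (Classical.arbitrary ι)
    simpa using this.symm
  set S : Submodule F (Matrix ι ι F) := Submodule.span F (Set.range ![(1 : Matrix ι ι F), k]) with hS
  have hmem : ∀ x, x ∈ S ↔ ∃ a b : F, x = a • (1 : Matrix ι ι F) + b • k := by
    intro x
    rw [hS, Submodule.mem_span_range_iff_exists_fun]
    constructor
    · rintro ⟨f, rfl⟩
      exact ⟨f 0, f 1, by simp [Fin.sum_univ_two]⟩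
    · rintro ⟨a, b, rfl⟩
      exact ⟨![a, b], by simp [Fin.sum_univ_two]⟩
  have hmul : ∀ a b a' b' : F, (a • (1 : Matrix ι ι F) + b • k) * (a' • (1 : Matrix ι ι F) + b' • k) =
      (a * a' + b * b' * δ) • (1 : Matrix ι ι F) + (a * b' + b * a') • k := by
    intro a b a' b'
    simp only [add_mul, mul_add, Matrix.smul_mul, Matrix.mul_smul, one_mul, mul_one, hk]
    module
  let K : Subalgebra F (Matrix ι ι F) := S.toSubalgebra ((hmem _).mpr ⟨1, 0, by simp⟩) fun x y hx hy => by
    obtain ⟨a, b, rfl⟩ := (hmem _).mp hx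
    obtain ⟨a', b', rfl⟩ := (hmem _).mp hy
    exact (hmem _).mpr ⟨_, _, hmul a b a' b'⟩
  have hKmem : ∀ x, x ∈ K ↔ ∃ a b : F, x = a • (1 : Matrix ι ι F) + b • k := hmem
  have hkK : k ∈ K := (hKmem k).mpr ⟨0, 1, by simp⟩
  refine ⟨K, ⟨?_, ?_, ?_⟩, ?_, ?_, ?_, fun g hg x => ?_⟩
  · intro x hx y hy
    obtain ⟨a, b, rfl⟩ := (hKmem _).mp hx
    obtain ⟨a', b', rfl⟩ := (hKmem _).mp hy
    rw [hmul, hmul]
    module
  · intro x hx hx0
    obtain ⟨a, b, rfl⟩ := (hKmem _).mp hx
    have hN : a * a - b * b * δ ≠ 0 := by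
      intro hN
      by_cases hb : b = 0
      · subst hb
        have ha : a = 0 := mul_self_eq_zero.mp (by linear_combination hN)
        exact hx0 (by rw [ha, zero_smul, zero_smul, add_zero])
      · exact hsq ⟨a / b, by field_simp; linear_combination -hN⟩
    refine ⟨(a / (a * a - b * b * δ)) • (1 : Matrix ι ι F) + (-b / (a * a - b * b * δ)) • k,
      (hKmem _).mpr ⟨_, _, rfl⟩, ?_⟩
    rw [hmul]
    have e1 : a * (a / (a * a - b * b * δ)) + b * (-b / (a * a - b * b * δ)) * δ = 1 := by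
      rw [show a * (a / (a * a - b * b * δ)) + b * (-b / (a * a - b * b * δ)) * δ =
        (a * a - b * b * δ) / (a * a - b * b * δ) by ring, div_self hN]
    have e2 : a * (-b / (a * a - b * b * δ)) + b * (a / (a * a - b * b * δ)) = 0 := by ring
    rw [e1, e2, one_smul, zero_smul, add_zero]
  · show Module.finrank F S = 2
    rw [hS, finrank_span_eq_card hli, Fintype.card_fin]
  · intro x hx
    obtain ⟨a, b, rfl⟩ := (hKmem _).mp hx
    refine ⟨a • (1 : Matrix ι ι F) + (-b) • k, (hKmem _).mpr ⟨_, _, rfl⟩, fun u v => ?_⟩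
    simp only [Matrix.add_mulVec, Matrix.smul_mulVec, Matrix.one_mulVec, polar_add_left, polar_add_right,
      polar_smul_left, polar_smul_right, smul_eq_mul, hskew]
    ring
  · intro hsa
    obtain ⟨w, hw⟩ : ∃ w : ι → F, w ≠ 0 := exists_ne 0
    have hz : k *ᵥ w = 0 := hQ.1 _ fun v => by
      show polar ⇑Q (k *ᵥ w) v = 0
      have h1 := hskew w v
      rw [← hsa k hkK w v] at h1
      exact (mul_eq_zero.mp (show (2 : F) * polar ⇑Q (k *ᵥ w) v = 0 by linear_combination h1)).resolve_left h2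
    have := hone w
    rw [hz, Matrix.mulVec_zero] at this
    exact (smul_eq_zero.mp this.symm).elim hδ hw
  · intro x hx
    obtain ⟨a, b, rfl⟩ := (hKmem _).mp hx
    refine ⟨a * a - b * b * δ, fun v => ?_⟩
    have hkv : polar ⇑Q (k *ᵥ v) v = 0 := by
      have h1 := hskew v v
      rw [polar_comm _ v (k *ᵥ v)] at h1
      exact (mul_eq_zero.mp (show (2 : F) * polar ⇑Q (k *ᵥ v) v = 0 by linear_combination h1)).resolve_left h2
    have hQk : Q (k *ᵥ v) = -δ * Q v := by
      rw [eq_half_polar h2, hskew, hone, polar_smul_right, eq_half_polar h2 v, smul_eq_mul]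
      ring
    rw [Matrix.add_mulVec, Matrix.smul_mulVec, Matrix.smul_mulVec, Matrix.one_mulVec, QuadraticMap.map_add (⇑Q),
      QuadraticMap.map_smul, QuadraticMap.map_smul, hQk, polar_smul_left, polar_smul_right, polar_comm _ v, hkv]
    simp only [smul_eq_mul]
    ring
  · rw [hKmem, hKmem]
    obtain ⟨s, hs, hgk⟩ : ∃ s : F, s * s = 1 ∧ (g : Matrix ι ι F) * k = s • (k * (g : Matrix ι ι F)) := by
      rcases hconj g hg with h | h
      · exact ⟨1, one_mul 1, by rw [one_smul, h]⟩
      · exact ⟨-1, by ring, by rw [h, neg_one_smul]⟩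
    have hgkg : (g : Matrix ι ι F) * k * ((g⁻¹ : GL ι F) : Matrix ι ι F) = s • k := by
      rw [hgk, Matrix.smul_mul, mul_assoc, Units.mul_inv, mul_one]
    constructor
    · rintro ⟨a, b, rfl⟩
      refine ⟨a, b * s, ?_⟩
      rw [mul_add, add_mul, Matrix.mul_smul, Matrix.smul_mul, mul_one, Units.mul_inv, Matrix.mul_smul,
        Matrix.smul_mul, hgkg, smul_smul]
    · rintro ⟨a, b, h⟩
      refine ⟨a, b * s, ?_⟩
      have hinv : ((g⁻¹ : GL ι F) : Matrix ι ι F) * k * (g : Matrix ι ι F) = s • k := by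
        have h1 := congrArg (fun X => ((g⁻¹ : GL ι F) : Matrix ι ι F) * X) hgk
        simp only [← mul_assoc, Units.inv_mul, one_mul, Matrix.mul_smul] at h1
        calc _ = (s * s) • (((g⁻¹ : GL ι F) : Matrix ι ι F) * k * (g : Matrix ι ι F)) := by rw [hs, one_smul]
          _ = s • (s • (((g⁻¹ : GL ι F) : Matrix ι ι F) * k * (g : Matrix ι ι F))) := by rw [smul_smul]
          _ = s • k := by rw [← h1]
      have h1 := congrArg (fun X => ((g⁻¹ : GL ι F) : Matrix ι ι F) * X * (g : Matrix ι ι F)) h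
      simp only [← mul_assoc, Units.inv_mul, one_mul] at h1
      rw [mul_assoc, Units.inv_mul, mul_one] at h1
      rw [h1, mul_add, add_mul, Matrix.mul_smul, Matrix.smul_mul, mul_one, Units.inv_mul, Matrix.mul_smul,
        Matrix.smul_mul, hinv, smul_smul]

/-- A tensor decomposition of symmetric forms, the first of dimension two, normalises a skew element. -/
theorem skew_of_tensor_two {H : Subgroup (GL ι F)}
    (hH : H ≤ isometryGroup F ⇑Q) {G : GL ι F}
    (hG : ∀ u v, polar ⇑Q u v = formM (RingEquiv.refl F) (G : Matrix ι ι F) u v) {m : ℕ} (hm : 1 ≤ m)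
    {e : ι ≃ Fin 2 × Fin m} {B : GL ι F} {G₁ : GL (Fin 2) F} {G₂ : GL (Fin m) F}
    (hA : gramIn (RingEquiv.refl F) G e B = (G₁ : Matrix (Fin 2) (Fin 2) F) ⊗ₖ (G₂ : Matrix (Fin m) (Fin m) F))
    (hs : IsSymmetricForm (formM (RingEquiv.refl F) (G₁ : Matrix (Fin 2) (Fin 2) F)))
    (hle : H ≤ tensorProductSubgroup 2 m e B) :
    ∃ (k : Matrix ι ι F) (δ : F), δ ≠ 0 ∧ k * k = δ • (1 : Matrix ι ι F) ∧
      (∀ x y, polar ⇑Q (k *ᵥ x) y = -polar ⇑Q x (k *ᵥ y)) ∧
      ∀ g ∈ H, (g : Matrix ι ι F) * k = k * (g : Matrix ι ι F) ∨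
        (g : Matrix ι ι F) * k = -(k * (g : Matrix ι ι F)) := by
  classical
  haveI : Nonempty (Fin m) := ⟨⟨0, hm⟩⟩
  set A := (G₁ : Matrix (Fin 2) (Fin 2) F) with hAdef
  set A' := ((G₁⁻¹ : GL (Fin 2) F) : Matrix (Fin 2) (Fin 2) F) with hA'def
  have hAA : A * A' = 1 := by rw [hAdef, hA'def, Units.mul_inv]
  have hA'A : A' * A = 1 := by rw [hAdef, hA'def, Units.inv_mul]
  have hAT : Aᵀ = A := formM_injective (RingEquiv.refl F) fun u v => by rw [formM_transpose]; exact hs.symm v u
  have hA'T : A'ᵀ = A' := by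
    calc A'ᵀ = A'ᵀ * (A * A') := by rw [hAA, mul_one]
      _ = (A * A')ᵀ * A' := by rw [Matrix.transpose_mul, hAT, mul_assoc]
      _ = A' := by rw [hAA, Matrix.transpose_one, one_mul]
  set j := A' * jTwo F with hj
  have hjT : (jTwo F : Matrix (Fin 2) (Fin 2) F)ᵀ = -jTwo F := by
    ext a b; fin_cases a <;> fin_cases b <;> simp [jTwo]
  have hjj : ∀ M : Matrix (Fin 2) (Fin 2) F, Mᵀ * jTwo F * M = M.det • jTwo F := transpose_mul_jTwo_mul
  have hdet : A.det ≠ 0 := ((Matrix.isUnit_iff_isUnit_det _).mp G₁.isUnit).ne_zero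
  have hj2 : j * j = (-(A'.det)) • (1 : Matrix (Fin 2) (Fin 2) F) := by
    rw [hj, mul_assoc]
    have h := hjj A'
    rw [hA'T] at h
    rw [← mul_assoc, ← mul_assoc, h, Matrix.smul_mul, show (jTwo F * jTwo F : Matrix (Fin 2) (Fin 2) F) = -1 by
      ext a b; fin_cases a <;> fin_cases b <;> simp [jTwo, Matrix.mul_apply, Fin.sum_univ_two], smul_neg, neg_smul]
  refine ⟨framed e B (j ⊗ₖ (1 : Matrix (Fin m) (Fin m) F)), -(A'.det), ?_, ?_, ?_, ?_⟩
  · refine neg_ne_zero.mpr fun h => one_ne_zero (α := F) ?_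
    have := congrArg Matrix.det hAA
    rwa [Matrix.det_mul, h, mul_zero, Matrix.det_one, eq_comm] at this
  · rw [← map_mul, ← Matrix.mul_kronecker_mul, one_mul, hj2, Matrix.smul_kronecker, Matrix.one_kronecker_one,
      map_smul, map_one]
  · have hcoord : ∀ z : ι → F, ∃ w, frameVec e B w = z := fun z =>
      ⟨(((B⁻¹ : GL ι F) : Matrix ι ι F) *ᵥ z) ∘ e.symm, by
        rw [frameVec, Function.comp_assoc, Equiv.symm_comp_self, Function.comp_id, mulVec_inv_cancel]⟩
    intro x y
    obtain ⟨u, rfl⟩ := hcoord x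
    obtain ⟨v, rfl⟩ := hcoord y
    have hjA : jᵀ * A = -(A * j) := by
      rw [hj, Matrix.transpose_mul, hA'T, hjT, Matrix.neg_mul, Matrix.neg_mul, mul_assoc, hA'A, mul_one, ← mul_assoc,
        hAA, one_mul]
    rw [framed_frameVec, framed_frameVec, polar_frame hG, polar_frame hG, hA]
    simp only [formM, RingEquiv.refl_apply]
    rw [Matrix.dotProduct_mulVec, ← Matrix.vecMul_transpose, Matrix.vecMul_vecMul, ← Matrix.dotProduct_mulVec,
      Matrix.mulVec_mulVec, ← Matrix.kroneckerMap_transpose, ← Matrix.mul_kronecker_mul, ← Matrix.mul_kronecker_mul,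
      Matrix.transpose_one, one_mul, mul_one, hjA, ← neg_one_smul F (A * j), Matrix.smul_kronecker, Matrix.smul_mulVec,
      dotProduct_smul, smul_eq_mul, neg_one_mul]
  · intro g hg
    obtain ⟨a, b, c, hc, hval, ha, hb⟩ := exists_similitudes hA (hle hg) (invariant_polarGram hG hH g hg)
    rw [twist_refl, ← hAdef] at ha
    set a' := (a : Matrix (Fin 2) (Fin 2) F) with ha'
    have hda : a'.det * a'.det = c * c := by
      have h := congrArg Matrix.det ha
      rw [Matrix.det_mul, Matrix.det_mul, Matrix.det_transpose, Matrix.det_smul, Fintype.card_fin] at h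
      exact mul_right_cancel₀ hdet (by linear_combination h)
    have hja : j * a' = (a'.det / c) • (a' * j) := by
      have e1 : jTwo F * a' = a'.det • (((a⁻¹ : GL (Fin 2) F) : Matrix (Fin 2) (Fin 2) F)ᵀ * jTwo F) := by
        rw [← Matrix.mul_smul, ← hjj a', ← mul_assoc, ← mul_assoc, ← Matrix.transpose_mul, ha', Units.mul_inv,
          Matrix.transpose_one, one_mul]
      have e2 : ((a⁻¹ : GL (Fin 2) F) : Matrix (Fin 2) (Fin 2) F)ᵀ = c⁻¹ • (A * a' * A') := by
        have h2' : a'ᵀ * (c⁻¹ • (A * a' * A')) = 1 := by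
          rw [Matrix.mul_smul, ← mul_assoc, ← mul_assoc, ha, Matrix.smul_mul, smul_smul, inv_mul_cancel₀ hc, one_smul,
            hAA]
        calc _ = ((a⁻¹ : GL (Fin 2) F) : Matrix (Fin 2) (Fin 2) F)ᵀ * (a'ᵀ * (c⁻¹ • (A * a' * A'))) := by
              rw [h2', mul_one]
          _ = _ := by rw [← mul_assoc, ← Matrix.transpose_mul, ha', Units.mul_inv, Matrix.transpose_one, one_mul]
      rw [hj, mul_assoc, e1, e2, Matrix.smul_mul, smul_smul, Matrix.mul_smul, ← mul_assoc, ← mul_assoc, ← mul_assoc,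
        hA'A, one_mul, div_eq_mul_inv, mul_assoc a' A']
    have hsign : a'.det / c = 1 ∨ a'.det / c = -1 := mul_self_eq_one_iff.mp (by field_simp; linear_combination hda)
    rw [hval, ← map_mul, ← map_mul, ← Matrix.mul_kronecker_mul, ← Matrix.mul_kronecker_mul, one_mul, mul_one, hja,
      Matrix.smul_kronecker, map_smul]
    rcases hsign with h | h
    · exact Or.inl (by rw [h, one_smul])
    · exact Or.inr (by rw [h, neg_one_smul, neg_neg])

end Cfsg.Agent.Lib.MaxClass.OrthEven
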