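import Mathlib
import Cfsg.Prelude.Def_GeometricClasses
import Cfsg.Agent.Lib.MaxClass.OrthEven.Involution
import Cfsg.Agent.Lib.MaxClass.SympTensorPlus
import Cfsg.Agent.S5705

/-!
Tensor decompositions, frames and pairs of halves lying in larger geometric groups.
-/

set_option autoImplicit false
set_option linter.style.haveILetI false
set_option linter.unusedSectionVars false

namespace Cfsg.Agent.Lib.MaxClass.OrthEven

open Cfsg Cfsg.Geo Matrix QuadraticMap
open scoped Kronecker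
open Cfsg.Agent.Lib Cfsg.Agent.Lib.Aschbacher Cfsg.Agent.Lib.MaxClass
open Cfsg.Agent.Lib.MaxClass.SympTensorPlus (jTwo transpose_mul_jTwo_mul similitude_det_two exists_hyperbolic_four)

variable {ι : Type} [Fintype ι] [DecidableEq ι] {F : Type*} [Field F]

theorem det_of_mem_omega {Q : QuadraticForm F (ι → F)} {g : GL ι F} (hg : g ∈ omegaGL ⇑Q) :
    (g : Matrix ι ι F).det = 1 := by
  obtain ⟨h, hh, rfl⟩ := hg
  have hle : Cfsg.Omega F ⇑Q ≤
      (Matrix.GeneralLinearGroup.det.comp (isometryGroup F ⇑Q).subtype).ker := by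
    rw [Cfsg.Omega]
    exact Abelianization.commutator_subset_ker _
  exact congrArg Units.val (hle hh)

theorem det_framed {κ : Type} [Fintype κ] [DecidableEq κ] (e : ι ≃ κ) (B : GL ι F) (X : Matrix κ κ F) :
    (framed e B X).det = X.det := by
  rw [framed_apply, Matrix.det_units_conj, Matrix.det_submatrix_equiv_self]

/-- A change of basis of the coordinates inside a frame. -/
theorem framed_reframe {κ κ' : Type} [Fintype κ] [DecidableEq κ] [Fintype κ'] [DecidableEq κ'] (e : ι ≃ κ)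
    (B : GL ι F) (W : GL κ F) (π : κ ≃ κ') (X : Matrix κ' κ' F) :
    framed (e.trans π) (B * glReindex e.symm W) X =
      framed e B ((W : Matrix κ κ F) * X.submatrix π π * ((W⁻¹ : GL κ F) : Matrix κ κ F)) := by
  rw [framed_apply, framed_apply]
  have h1 : ∀ V : GL κ F, ((glReindex e.symm V : GL ι F) : Matrix ι ι F) = (V : Matrix κ κ F).submatrix e e :=
    fun V => by simp [glReindex, Matrix.reindex_apply]
  rw [_root_.mul_inv_rev, Units.val_mul, Units.val_mul, ← map_inv, h1, h1, ← Matrix.submatrix_mul_equiv _ _ e e e,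
    ← Matrix.submatrix_mul_equiv _ _ e e e, Matrix.submatrix_submatrix]
  simp only [mul_assoc]
  rfl

theorem gramIn_reframe {κ κ' : Type} [Fintype κ] [DecidableEq κ] [Fintype κ'] [DecidableEq κ'] (e : ι ≃ κ)
    (B : GL ι F) (W : GL κ F) (π : κ ≃ κ') (G : GL ι F) :
    gramIn (RingEquiv.refl F) G (e.trans π) (B * glReindex e.symm W) =
      ((W : Matrix κ κ F)ᵀ * gramIn (RingEquiv.refl F) G e B * (W : Matrix κ κ F)).submatrix π.symm π.symm := by
  have h1 : ((glReindex e.symm W : GL ι F) : Matrix ι ι F) = (W : Matrix κ κ F).submatrix e e := by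
    simp [glReindex, Matrix.reindex_apply]
  rw [gramIn, gramIn, twist_refl, twist_refl, Units.val_mul, h1, Matrix.transpose_mul, Matrix.transpose_submatrix]
  set M := (B : Matrix ι ι F)ᵀ * (G : Matrix ι ι F) * (B : Matrix ι ι F) with hM
  rw [show ((W : Matrix κ κ F)ᵀ.submatrix e e) * (B : Matrix ι ι F)ᵀ * (G : Matrix ι ι F) *
      ((B : Matrix ι ι F) * (W : Matrix κ κ F).submatrix e e) =
      (W : Matrix κ κ F)ᵀ.submatrix e e * M * (W : Matrix κ κ F).submatrix e e by rw [hM]; simp only [mul_assoc],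
    show M = (M.submatrix e.symm e.symm).submatrix e e by simp [Matrix.submatrix_submatrix],
    Matrix.submatrix_mul_equiv, Matrix.submatrix_mul_equiv, Matrix.submatrix_submatrix]
  simp [Matrix.submatrix_submatrix, Function.comp_def]

variable [Fintype F] {Q : QuadraticForm F (ι → F)}

/-- An orthogonal three-space tensor an orthogonal four-space of plus type lies in a symplectic tensor product. -/
theorem exists_two_six (hQ : (QuadraticMap.polarBilin Q).Nondegenerate) (h2 : (2 : F) ≠ 0) {G : GL ι F}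
    (hG : ∀ u v, polar ⇑Q u v = formM (RingEquiv.refl F) (G : Matrix ι ι F) u v) {H : Subgroup (GL ι F)}
    (hH : H ≤ omegaGL ⇑Q) {e : ι ≃ Fin 3 × Fin 4} {B : GL ι F} {G₁ : GL (Fin 3) F} {G₂ : GL (Fin 4) F}
    (hA : gramIn (RingEquiv.refl F) G e B = (G₁ : Matrix (Fin 3) (Fin 3) F) ⊗ₖ (G₂ : Matrix (Fin 4) (Fin 4) F))
    (hs₁ : IsSymmetricForm (formM (RingEquiv.refl F) (G₁ : Matrix (Fin 3) (Fin 3) F)))
    (hs₂ : IsSymmetricForm (formM (RingEquiv.refl F) (G₂ : Matrix (Fin 4) (Fin 4) F)))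
    (hplus : IsPlusTypeOn (fun v => formM (RingEquiv.refl F) (G₂ : Matrix (Fin 4) (Fin 4) F) v v) ⊤)
    (hle : H ≤ tensorProductSubgroup 3 4 e B) :
    ∃ (e' : ι ≃ Fin 2 × Fin 6) (B' : GL ι F) (K₁ : GL (Fin 2) F) (K₂ : GL (Fin 6) F),
      gramIn (RingEquiv.refl F) G e' B' = (K₁ : Matrix (Fin 2) (Fin 2) F) ⊗ₖ (K₂ : Matrix (Fin 6) (Fin 6) F) ∧
      IsSymplecticForm (formM (RingEquiv.refl F) (K₁ : Matrix (Fin 2) (Fin 2) F)) ∧
      IsSymplecticForm (formM (RingEquiv.refl F) (K₂ : Matrix (Fin 6) (Fin 6) F)) ∧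
      (∀ x y, Q (frameVec e' B' (pure2 x y)) = 0) ∧ H ≤ tensorProductSubgroup 2 6 e' B' := by
  classical
  obtain ⟨u, hu⟩ := exists_hyperbolic_four h2 hs₂ hplus
  set A₂ := (G₂ : Matrix (Fin 4) (Fin 4) F) with hA₂
  set JJ : Matrix (Fin 2 × Fin 2) (Fin 2 × Fin 2) F := jTwo F ⊗ₖ jTwo F with hJJ
  let e4 : Fin 4 ≃ Fin 2 × Fin 2 := (finProdFinEquiv (m := 2) (n := 2)).symm
  let e6 : Fin 3 × Fin 2 ≃ Fin 6 := finProdFinEquiv
  let Bm : Matrix (Fin 4) (Fin 4) F := Matrix.of fun i j => u (e4 j) i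
  set JS : Matrix (Fin 4) (Fin 4) F := JJ.submatrix e4 e4 with hJS
  have hBG : Bmᵀ * A₂ * Bm = JS := by
    ext i j
    rw [hJS, Matrix.submatrix_apply, ← hu]
    simp only [formM, RingEquiv.refl_apply, dotProduct, Matrix.mulVec, Matrix.mul_apply, Matrix.transpose_apply, Bm,
      Matrix.of_apply, Finset.sum_mul, Finset.mul_sum]
    rw [Finset.sum_comm]
    exact Finset.sum_congr rfl fun _ _ => Finset.sum_congr rfl fun _ _ => by ring
  have hJJ2 : JJ * JJ = 1 := by
    rw [hJJ, ← Matrix.mul_kronecker_mul, show jTwo F * jTwo F = (-1 : F) • (1 : Matrix (Fin 2) (Fin 2) F) by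
      ext i j; fin_cases i <;> fin_cases j <;> simp [jTwo, Matrix.mul_apply, Fin.sum_univ_two],
      Matrix.smul_kronecker, Matrix.kronecker_smul, Matrix.one_kronecker_one, smul_smul]
    simp
  have hJS2 : JS * JS = 1 := by rw [hJS, Matrix.submatrix_mul_equiv, hJJ2, Matrix.submatrix_one_equiv]
  obtain ⟨Bi, hBi⟩ : ∃ Bi : Matrix (Fin 4) (Fin 4) F, Bi * Bm = 1 :=
    ⟨JS * Bmᵀ * A₂, by rw [mul_assoc, mul_assoc, ← mul_assoc Bmᵀ, hBG, hJS2]⟩
  have hBi' : Bm * Bi = 1 := mul_eq_one_comm.mp hBi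
  let W : GL (Fin 3 × Fin 4) F := ⟨(1 : Matrix (Fin 3) (Fin 3) F) ⊗ₖ Bm, (1 : Matrix (Fin 3) (Fin 3) F) ⊗ₖ Bi,
    by rw [← Matrix.mul_kronecker_mul, one_mul, hBi', Matrix.one_kronecker_one],
    by rw [← Matrix.mul_kronecker_mul, one_mul, hBi, Matrix.one_kronecker_one]⟩
  let π : Fin 3 × Fin 4 ≃ Fin 2 × Fin 6 :=
    { toFun := fun p => ((e4 p.2).1, e6 (p.1, (e4 p.2).2))
      invFun := fun q => ((e6.symm q.2).1, e4.symm (q.1, (e6.symm q.2).2))
      left_inv := fun p => by simp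
      right_inv := fun q => by simp }
  let J₁ : GL (Fin 2) F := ⟨jTwo F, -jTwo F,
    by ext i j; fin_cases i <;> fin_cases j <;> simp [jTwo, Matrix.mul_apply, Fin.sum_univ_two],
    by ext i j; fin_cases i <;> fin_cases j <;> simp [jTwo, Matrix.mul_apply, Fin.sum_univ_two]⟩
  let K₀ : GL (Fin 3 × Fin 2) F :=
    ⟨(G₁ : Matrix (Fin 3) (Fin 3) F) ⊗ₖ (J₁ : Matrix (Fin 2) (Fin 2) F),
      ((G₁⁻¹ : GL (Fin 3) F) : Matrix (Fin 3) (Fin 3) F) ⊗ₖ ((J₁⁻¹ : GL (Fin 2) F) : Matrix (Fin 2) (Fin 2) F),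
      by rw [← Matrix.mul_kronecker_mul, Units.mul_inv, Units.mul_inv, Matrix.one_kronecker_one],
      by rw [← Matrix.mul_kronecker_mul, Units.inv_mul, Units.inv_mul, Matrix.one_kronecker_one]⟩
  let K₂ : GL (Fin 6) F := glReindex e6 K₀
  have hK₂ : (K₂ : Matrix (Fin 6) (Fin 6) F) =
      ((G₁ : Matrix (Fin 3) (Fin 3) F) ⊗ₖ jTwo F).submatrix e6.symm e6.symm := by
    show ((glReindex e6 K₀ : GL (Fin 6) F) : Matrix (Fin 6) (Fin 6) F) = _
    simp [glReindex, Matrix.reindex_apply, K₀, J₁]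
  have hgram : gramIn (RingEquiv.refl F) G (e.trans π) (B * glReindex e.symm W) =
      (J₁ : Matrix (Fin 2) (Fin 2) F) ⊗ₖ (K₂ : Matrix (Fin 6) (Fin 6) F) := by
    rw [gramIn_reframe, hA, show (W : Matrix _ _ F) = (1 : Matrix (Fin 3) (Fin 3) F) ⊗ₖ Bm from rfl,
      ← Matrix.kroneckerMap_transpose, ← Matrix.mul_kronecker_mul, ← Matrix.mul_kronecker_mul, Matrix.transpose_one,
      one_mul, mul_one, hBG, hK₂]
    ext ⟨x, c⟩ ⟨y, d⟩
    simp only [Matrix.submatrix_apply, kroneckerMap_apply, hJS, hJJ, π, Equiv.coe_fn_symm_mk, Equiv.apply_symm_apply]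
    show _ = jTwo F x y * _
    ring
  have hjT : (jTwo F : Matrix (Fin 2) (Fin 2) F)ᵀ = -jTwo F := by
    ext a b; fin_cases a <;> fin_cases b <;> simp [jTwo]
  have halt : ∀ {k : ℕ} (A : GL (Fin k) F), (A : Matrix (Fin k) (Fin k) F)ᵀ = -(A : Matrix (Fin k) (Fin k) F) →
      IsSymplecticForm (formM (RingEquiv.refl F) (A : Matrix (Fin k) (Fin k) F)) := fun {k} A hA' =>
    isSymplecticForm_formM A hA' fun v => by
      have h := formM_transpose (A : Matrix (Fin k) (Fin k) F) v v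
      rw [hA', ← neg_one_smul F (A : Matrix (Fin k) (Fin k) F), formM_smul] at h
      exact (mul_eq_zero.mp (show (2 : F) * formM (RingEquiv.refl F) (A : Matrix (Fin k) (Fin k) F) v v = 0 by
        linear_combination -h)).resolve_left h2
  have hS₁ := halt J₁ hjT
  have hS₂ := halt K₂ (by
    have hT : (G₁ : Matrix (Fin 3) (Fin 3) F)ᵀ = (G₁ : Matrix (Fin 3) (Fin 3) F) :=
      formM_injective (RingEquiv.refl F) fun u v => by rw [formM_transpose]; exact hs₁.symm v u
    rw [hK₂, Matrix.transpose_submatrix, ← Matrix.kroneckerMap_transpose, hT, hjT, ← neg_one_smul F (jTwo F),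
      Matrix.kronecker_smul]
    ext i j
    simp)
  refine ⟨_, _, J₁, K₂, hgram, hS₁, hS₂, fun x y => by rw [quad_pure h2 hG hgram, hS₁.alternating]; ring,
    fun g hg => ?_⟩
  obtain ⟨a, b, c, hc, hval, ha, hb⟩ := exists_similitudes hA (hle hg)
    (invariant_polarGram hG (H := H) (fun x hx => Subgroup.map_subtype_le _ (hH hx)) g hg)
  rw [twist_refl] at ha hb
  set b' : Matrix (Fin 4) (Fin 4) F := Bi * (b : Matrix (Fin 4) (Fin 4) F) * Bm with hb'
  set b4 : Matrix (Fin 2 × Fin 2) (Fin 2 × Fin 2) F := b'.submatrix e4.symm e4.symm with hb4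
  have hG2B : Biᵀ * JS * Bi = A₂ := by
    calc Biᵀ * JS * Bi = Biᵀ * (Bmᵀ * A₂ * Bm) * Bi := by rw [hBG]
      _ = (Bm * Bi)ᵀ * A₂ * (Bm * Bi) := by rw [Matrix.transpose_mul]; simp only [mul_assoc]
      _ = A₂ := by rw [hBi', Matrix.transpose_one, one_mul, mul_one]
  have hbA : (b : Matrix (Fin 4) (Fin 4) F)ᵀ * A₂ * (b : Matrix (Fin 4) (Fin 4) F) = c⁻¹ • A₂ := by
    conv_rhs => rw [hA₂, ← hb]
    rw [smul_smul, inv_mul_cancel₀ hc, one_smul]
  have hsim : b4ᵀ * JJ * b4 = c⁻¹ • JJ := by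
    have hJ4 : JJ = JS.submatrix e4.symm e4.symm := by rw [hJS]; simp [Matrix.submatrix_submatrix]
    rw [hb4, hJ4, Matrix.transpose_submatrix, Matrix.submatrix_mul_equiv, Matrix.submatrix_mul_equiv, hb']
    have : (Bi * (b : Matrix (Fin 4) (Fin 4) F) * Bm)ᵀ * JS * (Bi * (b : Matrix (Fin 4) (Fin 4) F) * Bm) =
        c⁻¹ • JS := by
      calc _ = Bmᵀ * ((b : Matrix (Fin 4) (Fin 4) F)ᵀ * (Biᵀ * JS * Bi) * (b : Matrix (Fin 4) (Fin 4) F)) * Bm := by
            simp only [Matrix.transpose_mul, mul_assoc]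
        _ = _ := by rw [hG2B, hbA, Matrix.mul_smul, Matrix.smul_mul, hBG]
    rw [this]
    rfl
  obtain ⟨p, q, hpq | hpq⟩ := similitude_det_two h2 (inv_ne_zero hc) hsim
  · let k₀ : GL (Fin 6) F := glReindex e6
      ⟨(a : Matrix (Fin 3) (Fin 3) F) ⊗ₖ (q : Matrix (Fin 2) (Fin 2) F),
        ((a⁻¹ : GL (Fin 3) F) : Matrix (Fin 3) (Fin 3) F) ⊗ₖ ((q⁻¹ : GL (Fin 2) F) : Matrix (Fin 2) (Fin 2) F),
        by rw [← Matrix.mul_kronecker_mul, Units.mul_inv, Units.mul_inv, Matrix.one_kronecker_one],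
        by rw [← Matrix.mul_kronecker_mul, Units.inv_mul, Units.inv_mul, Matrix.one_kronecker_one]⟩
    let k : GL (Fin 2 × Fin 6) F :=
      ⟨(p : Matrix (Fin 2) (Fin 2) F) ⊗ₖ (k₀ : Matrix (Fin 6) (Fin 6) F),
        ((p⁻¹ : GL (Fin 2) F) : Matrix (Fin 2) (Fin 2) F) ⊗ₖ ((k₀⁻¹ : GL (Fin 6) F) : Matrix (Fin 6) (Fin 6) F),
        by rw [← Matrix.mul_kronecker_mul, Units.mul_inv, Units.mul_inv, Matrix.one_kronecker_one],
        by rw [← Matrix.mul_kronecker_mul, Units.inv_mul, Units.inv_mul, Matrix.one_kronecker_one]⟩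
    refine mem_map_glReindex_conj (k := k) ⟨p, k₀, rfl⟩ ?_
    rw [hval, framed_reframe]
    congr 1
    have hk : (k : Matrix _ _ F).submatrix π π = (a : Matrix (Fin 3) (Fin 3) F) ⊗ₖ b' := by
      ext ⟨i, l⟩ ⟨i', l'⟩
      have hbl : b' l l' = b4 (e4 l) (e4 l') := by simp [hb4]
      rw [kroneckerMap_apply, hbl, hpq, Matrix.submatrix_apply]
      show (p : Matrix (Fin 2) (Fin 2) F) (e4 l).1 (e4 l').1 *
        (k₀ : Matrix (Fin 6) (Fin 6) F) (e6 (i, (e4 l).2)) (e6 (i', (e4 l').2)) = _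
      simp [k₀, glReindex, Matrix.reindex_apply]
      ring
    rw [hk]
    show _ = (1 : Matrix (Fin 3) (Fin 3) F) ⊗ₖ Bm * ((a : Matrix (Fin 3) (Fin 3) F) ⊗ₖ b') *
      ((1 : Matrix (Fin 3) (Fin 3) F) ⊗ₖ Bi)
    rw [← Matrix.mul_kronecker_mul, ← Matrix.mul_kronecker_mul, one_mul, mul_one, hb',
      show Bm * (Bi * (b : Matrix (Fin 4) (Fin 4) F) * Bm) * Bi = (b : Matrix (Fin 4) (Fin 4) F) by
        simp only [← mul_assoc, hBi', one_mul]; rw [mul_assoc, hBi', mul_one]]
  -- an improper similitude of the second factor has determinant minus one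
  exfalso
  set σ : Equiv.Perm (Fin 2 × Fin 2) := Equiv.prodComm (Fin 2) (Fin 2) with hσ
  set M := (p : Matrix (Fin 2) (Fin 2) F) ⊗ₖ (q : Matrix (Fin 2) (Fin 2) F) with hM
  set P := (p : Matrix (Fin 2) (Fin 2) F).det * (q : Matrix (Fin 2) (Fin 2) F).det with hP
  have hL : b4 = M.submatrix id σ := by
    ext x y
    rw [hpq]
    rfl
  have hMJ : Mᵀ * JJ * M = P • JJ := by
    rw [hM, hJJ, ← Matrix.kroneckerMap_transpose, ← Matrix.mul_kronecker_mul, ← Matrix.mul_kronecker_mul,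
      transpose_mul_jTwo_mul, transpose_mul_jTwo_mul, Matrix.smul_kronecker, Matrix.kronecker_smul, smul_smul, hP]
  have hc' : c⁻¹ = P := by
    have h : (Mᵀ * JJ * M).submatrix σ σ = c⁻¹ • JJ := by
      rw [← hsim, hL]
      ext x y
      simp [Matrix.mul_apply]
    rw [hMJ] at h
    have := congrFun (congrFun h (0, 1)) (1, 0)
    simp [hJJ, jTwo, hσ] at this
    exact this.symm
  have hdet4 : (b : Matrix (Fin 4) (Fin 4) F).det = -(c⁻¹ * c⁻¹) := by
    have h1 : b4.det = (b : Matrix (Fin 4) (Fin 4) F).det := by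
      rw [hb4, Matrix.det_submatrix_equiv_self, hb', Matrix.det_mul, Matrix.det_mul, mul_comm, ← mul_assoc,
        ← Matrix.det_mul, hBi', Matrix.det_one, one_mul]
    rw [← h1, hL, Matrix.det_permute', hM, Matrix.det_kronecker, hc', hP,
      show Equiv.Perm.sign σ = -1 by rw [hσ]; decide]
    simp
    ring
  have hda : (a : Matrix (Fin 3) (Fin 3) F).det * (a : Matrix (Fin 3) (Fin 3) F).det = c ^ 3 := by
    have h := congrArg Matrix.det ha
    rw [Matrix.det_mul, Matrix.det_mul, Matrix.det_transpose, Matrix.det_smul, Fintype.card_fin] at h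
    exact mul_right_cancel₀ ((Matrix.isUnit_iff_isUnit_det _).mp G₁.isUnit).ne_zero (by linear_combination h)
  have hdg := det_of_mem_omega (hH hg)
  rw [hval, det_framed, Matrix.det_kronecker, Fintype.card_fin, Fintype.card_fin, hdet4] at hdg
  have h4 : (a : Matrix (Fin 3) (Fin 3) F).det ^ 4 = c ^ 6 := by
    linear_combination ((a : Matrix (Fin 3) (Fin 3) F).det * (a : Matrix (Fin 3) (Fin 3) F).det + c ^ 3) * hda
  have hinv : c ^ 6 * (c⁻¹) ^ 6 = 1 := by rw [← mul_pow, mul_inv_cancel₀ hc, one_pow]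
  exact h2 (by linear_combination -hdg - (c⁻¹) ^ 6 * h4 - hinv)

/-- Over two elements a symplectic tensor decomposition with a factor of dimension two is not maximal. -/
theorem false_of_tensor_two {n m : ℕ} {Q : QuadraticForm F (Fin n → F)}
    (hQ : (QuadraticMap.polarBilin Q).Nondegenerate) (hq : Fintype.card F = 2) (hn : n ≠ 4) (hm : 2 < m)
    {H : Subgroup (GL (Fin n) F)} (hH : IsMaximalIn (omegaGL ⇑Q) H) {G : GL (Fin n) F}
    (hG : ∀ u v, polar ⇑Q u v = formM (RingEquiv.refl F) (G : Matrix (Fin n) (Fin n) F) u v)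
    {e : Fin n ≃ Fin 2 × Fin m} {B : GL (Fin n) F} {G₁ : GL (Fin 2) F} {G₂ : GL (Fin m) F}
    (hA : gramIn (RingEquiv.refl F) G e B = (G₁ : Matrix (Fin 2) (Fin 2) F) ⊗ₖ (G₂ : Matrix (Fin m) (Fin m) F))
    (h₁ : IsSymplecticForm (formM (RingEquiv.refl F) (G₁ : Matrix (Fin 2) (Fin 2) F)))
    (h₂ : IsSymplecticForm (formM (RingEquiv.refl F) (G₂ : Matrix (Fin m) (Fin m) F)))
    (hpure : ∀ x y, Q (frameVec e B (pure2 x y)) = 0) (hle : H ≤ tensorProductSubgroup 2 m e B) : False := by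
  have hq2 : ∀ c : F, c ≠ 0 → c = 1 := by
    intro c hc
    have := FiniteField.pow_card_sub_one_eq_one c hc
    rwa [hq, pow_one] at this
  let f₂ := formM (RingEquiv.refl F) (G₂ : Matrix (Fin m) (Fin m) F)
  let β : (Fin m → F) →ₗ[F] (Fin m → F) →ₗ[F] F := LinearMap.mk₂ F f₂ h₂.bilinear.add_left
    (fun c x y => (h₂.bilinear.smul_left c x y).trans (smul_eq_mul c _).symm) h₂.bilinear.add_right
    (fun c x y => (h₂.bilinear.smul_right c x y).trans (smul_eq_mul c _).symm)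
  have hsplit : ∀ w : Fin 2 × Fin m → F, w =
      pure2 ![1, 0] (fun j => w (0, j)) + pure2 ![0, 1] (fun j => w (1, j)) := fun w => by
    funext ⟨i, j⟩
    fin_cases i <;> simp [pure2]
  let ψ : ((Fin m → F) × (Fin m → F)) →ₗ[F] (Fin n → F) :=
    (pureRight e B ![1, 0]).coprod (pureRight e B ![0, 1])
  have hψ : ∀ p, ψ p = frameVec e B (fun a => ![p.1, p.2] a.1 a.2) := fun p => by
    show frameVec e B _ + frameVec e B _ = _
    rw [← frameVec_add]
    congr 1
    funext ⟨i, j⟩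
    fin_cases i <;> simp [pure2]
  have hinj : Function.Injective ψ := fun p p' h => by
    rw [hψ, hψ] at h
    have h' := frameVec_injective e B h
    exact Prod.ext (funext fun j => congrFun h' (0, j)) (funext fun j => congrFun h' (1, j))
  have hcard := Fintype.card_congr e
  rw [Fintype.card_prod, Fintype.card_fin, Fintype.card_fin, Fintype.card_fin] at hcard
  let Φ := LinearEquiv.ofBijective ψ ⟨hinj, (LinearMap.injective_iff_surjective_of_finrank_eq_finrank (by
    rw [Module.finrank_prod, Module.finrank_fintype_fun_eq_card, Module.finrank_fintype_fun_eq_card,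
      Fintype.card_fin, Fintype.card_fin, hcard]
    ring)).mp hinj⟩
  have hQΦ : ∀ x y, Q (Φ (x, y)) = β x y := by
    intro x y
    show Q (frameVec e B (pure2 ![1, 0] x) + frameVec e B (pure2 ![0, 1] y)) = f₂ x y
    rw [QuadraticMap.map_add (⇑Q), hpure, hpure, zero_add, zero_add, polar_frame hG, hA, formM_pure2]
    have hne : formM (RingEquiv.refl F) (G₁ : Matrix (Fin 2) (Fin 2) F) ![1, 0] ![0, 1] ≠ 0 := by
      intro h0
      obtain ⟨-, z, hz⟩ := h₁.nondegenerate ![1, 0] (fun h => one_ne_zero (congrFun h 0))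
      apply hz
      rw [show z = z 0 • ![(1 : F), 0] + z 1 • ![(0 : F), 1] by funext i; fin_cases i <;> simp,
        h₁.bilinear.add_right, h₁.bilinear.smul_right, h₁.bilinear.smul_right, h₁.alternating, h0, mul_zero,
        mul_zero, add_zero]
    rw [hq2 _ hne, one_mul]
  exact false_of_between hH hle (Cfsg.Agent.S5705.aux Q hQ hq hn hm e B β h₂.alternating
    (fun u hu => (h₂.nondegenerate u hu).2) Φ (fun p => hψ p) hQΦ)

/-- An isometric frame over a field that is not prime lies in a subfield group. -/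
theorem subfieldCase_of_frame (hQ : (QuadraticMap.polarBilin Q).Nondegenerate) (h2 : (2 : F) ≠ 0)
    (hq : ¬ (Fintype.card F).Prime) {H : Subgroup (GL ι F)} (hH : H ≤ isometryGroup F ⇑Q) {t : ℕ}
    {D : Fin t → Submodule F (ι → F)} (hD : IsOrthogonalMDecomposition (⇑Q) 1 D)
    (hle : H ≤ decompositionStabilizer D) : SubfieldCase Q H := by
  classical
  obtain ⟨F₁, r, -, hr, hcard, -⟩ := exists_prime_index (F₀ := (⊥ : Subfield F)) (fun h => hq (by
    obtain ⟨p, hp⟩ := CharP.exists F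
    haveI := Fact.mk (CharP.char_is_prime F p)
    have h1 : Nat.card (⊥ : Subfield F) = p := Subfield.card_bot F p
    rw [h, Nat.card_congr Subfield.topEquiv.toEquiv, Nat.card_eq_fintype_card] at h1
    rw [h1]
    exact CharP.char_is_prime F p))
  rw [Nat.card_eq_fintype_card (α := F)] at hcard
  have htι : t = Fintype.card ι := by
    have h := isMDecomposition_card hD.decomp.decomp
    omega
  let σ : ι ≃ Fin t := (Fintype.equivFinOfCardEq htι.symm)
  have hpos : 0 < t := by have := hD.decomp.decomp.two_le; omega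
  let i₀ : Fin t := ⟨0, hpos⟩
  obtain ⟨w, hw, hw0⟩ := (D i₀).ne_bot_iff.mp (ne_bot_of_finrank (by rw [hD.decomp.decomp.finrank_eq]; exact one_pos))
  have hspan : ∀ i, ∀ x ∈ D i, x ≠ 0 → D i = F ∙ x := fun i x hx hx0 =>
    (Submodule.eq_of_le_of_finrank_eq ((Submodule.span_singleton_le_iff_mem _ _).mpr hx)
      (by rw [finrank_span_singleton hx0, hD.decomp.decomp.finrank_eq])).symm
  set a := Q w with ha
  have ha0 : a ≠ 0 := by
    intro h0
    obtain ⟨⟨y, hy, hyw⟩, -⟩ := hD.decomp.nondegenerate i₀ w hw hw0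
    rw [hspan i₀ w hw hw0] at hy
    obtain ⟨s, rfl⟩ := Submodule.mem_span_singleton.mp hy
    exact hyw (by rw [polar_smul_left, polar_self, ← ha, h0, smul_zero, smul_zero])
  choose φ hφ using fun i => hD.isometric i₀ i
  let v : ι → (ι → F) := fun x => (φ (σ x) ⟨w, hw⟩ : ι → F)
  have hvQ : ∀ x, Q (v x) = a := fun x => hφ (σ x) ⟨w, hw⟩
  have hvD : ∀ x, v x ∈ D (σ x) := fun x => (φ (σ x) _).2
  have hv0 : ∀ x, v x ≠ 0 := fun x h => ha0 (by rw [← hvQ x, h, map_zero])
  have hpol : ∀ x y, polar ⇑Q (v x) (v y) = if x = y then 2 * a else 0 := by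
    intro x y
    split_ifs with h
    · rw [h, polar_self, hvQ, nsmul_eq_mul, Nat.cast_ofNat]
    · exact hD.decomp.orthogonal _ _ (σ.injective.ne h) _ (hvD x) _ (hvD y)
  obtain ⟨G, -, hG⟩ := exists_polarGram hQ
  obtain ⟨P, hcol, hP⟩ := gram_of_columns (σ := RingEquiv.refl F) (G := G) v (fun _ => 2 * a)
    (fun x y => by rw [← hG]; exact hpol x y) (fun _ => mul_ne_zero h2 ha0)
  rw [twist_refl] at hP
  refine ⟨F₁, r, P, a⁻¹, hr, hcard, inv_ne_zero ha0, fun u hu => ?_, fun g hg => ?_⟩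
  · have h : Q ((P : Matrix ι ι F) *ᵥ u) = a * ∑ x, u x * u x := by
      rw [eq_half_polar h2, hG, formM_mulVec, twist_refl, hP]
      simp only [formM, RingEquiv.refl_apply, Matrix.mulVec_diagonal, dotProduct, Finset.mul_sum]
      exact Finset.sum_congr rfl fun x _ => by field_simp
    show a⁻¹ * Q _ ∈ F₁
    rw [h, ← mul_assoc, inv_mul_cancel₀ ha0, one_mul]
    exact F₁.sum_mem fun x _ => F₁.mul_mem (hu x) (hu x)
  · obtain ⟨π, hπ⟩ := hle hg
    set M : GL ι F := P⁻¹ * g * P with hM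
    have hcolM : ∀ x, ∃ (y : ι) (c : F), (c = 1 ∨ c = -1) ∧
        (M : Matrix ι ι F) *ᵥ Pi.single x 1 = c • Pi.single y 1 := by
      intro x
      have hmem : (g : Matrix ι ι F) *ᵥ v x ∈ D (π (σ x)) := by
        rw [← hπ]
        exact ⟨v x, hvD x, Matrix.toLin'_apply _ _⟩
      set y := σ.symm (π (σ x)) with hy
      have hDy : D (π (σ x)) = F ∙ v y := hspan _ _ (by have := hvD y; rwa [hy, Equiv.apply_symm_apply] at this) (hv0 y)
      rw [hDy] at hmem
      obtain ⟨c, hc⟩ := Submodule.mem_span_singleton.mp hmem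
      refine ⟨y, c, mul_self_eq_one_iff.mp ?_, ?_⟩
      · have h := app_iso (hH hg) (v x)
        rw [← hc, QuadraticMap.map_smul, hvQ, hvQ, smul_eq_mul] at h
        exact mul_right_cancel₀ ha0 (h.trans (one_mul a).symm)
      · rw [hM, Units.val_mul, Units.val_mul, ← Matrix.mulVec_mulVec, ← Matrix.mulVec_mulVec, hcol, ← hc,
          Matrix.mulVec_smul, ← hcol, inv_mulVec_cancel]
    have hrat : ∀ i j, (M : Matrix ι ι F) i j ∈ F₁ := by
      intro i j
      obtain ⟨y, c, hc, hMc⟩ := hcolM j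
      have h := congrFun hMc i
      rw [Matrix.mulVec_single_one, Matrix.col_apply, Pi.smul_apply, Pi.single_apply, smul_eq_mul] at h
      rw [h]
      refine F₁.mul_mem ?_ (by split_ifs; exacts [F₁.one_mem, F₁.zero_mem])
      rcases hc with rfl | rfl
      exacts [F₁.one_mem, F₁.neg_mem F₁.one_mem]
    set A : Matrix ι ι F₁ := Matrix.of fun i j => ⟨(M : Matrix ι ι F) i j, hrat i j⟩ with hAdef
    have hAM : A.map F₁.subtype = (M : Matrix ι ι F) := rfl
    have hdA : IsUnit A := by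
      rw [Matrix.isUnit_iff_isUnit_det]
      refine isUnit_iff_ne_zero.mpr fun h0 => ?_
      have h := RingHom.map_det F₁.subtype A
      rw [h0, map_zero, RingHom.mapMatrix_apply, hAM] at h
      exact ((Matrix.isUnit_iff_isUnit_det _).mp M.isUnit).ne_zero h.symm
    refine ⟨M, Subgroup.mem_sup_left ⟨hdA.unit, Units.ext hAM⟩, ?_⟩
    show P * M * P⁻¹ = g
    rw [hM]
    group

/-- Two isometric orthogonal halves. -/
theorem decomposition_of_halves (hQ : (QuadraticMap.polarBilin Q).Nondegenerate) {W : Submodule F (ι → F)}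
    (hW : IsNondegenerateOn (polar ⇑Q) W) {k : ℕ} (hk : 0 < k) (hWd : Module.finrank F W = k)
    (hn : Fintype.card ι = 2 * k) {H : Subgroup (GL ι F)} (hH : H ≤ isometryGroup F ⇑Q)
    (hle : H ≤ subspaceStabilizer W) :
    IsNondegenerateMDecomposition (polar ⇑Q) k ![W, polarPerp Q W] ∧
      H ≤ decompositionStabilizer ![W, polarPerp Q W] ∧
      (AreIsometricFor (⇑Q) W (polarPerp Q W) → IsOrthogonalMDecomposition (⇑Q) k ![W, polarPerp Q W]) := by
  have hUd : Module.finrank F (polarPerp Q W) = k := by rw [finrank_polarPerp hQ]; omega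
  have hc := SingMax.isCompl_polarPerp hQ hW
  have hnd : IsNondegenerateMDecomposition (polar ⇑Q) k ![W, polarPerp Q W] := by
    refine ⟨decomposition_pair hc.disjoint hc.sup_eq_top hk hWd hUd, fun i => ?_, fun i j hij => ?_⟩
    · fin_cases i
      · exact hW
      · exact nondegenerateOn_polarPerp hQ hW
    · intro x hx y hy
      fin_cases i <;> fin_cases j
      · exact absurd rfl hij
      · exact mem_polarPerp.mp hy x hx
      · rw [polar_comm]; exact mem_polarPerp.mp hx y hy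
      · exact absurd rfl hij
  refine ⟨hnd, fun g hg => ?_, fun hiso => ⟨hnd, fun i j => ?_⟩⟩
  · have h' := stabilizer_le_polarPerp (Q := Q) W ⟨hle hg, hH hg⟩
    exact mem_decompositionStabilizer_pair (by omega)
      (Or.inl ⟨fun w hw => (hle hg w).mp hw, fun u hu => (h' u).mp hu⟩)
  · obtain ⟨f, hf⟩ := hiso
    have hrefl : ∀ X : Submodule F (ι → F), AreIsometricFor (⇑Q) X X := fun X => ⟨LinearEquiv.refl F X, fun _ => rfl⟩
    fin_cases i <;> fin_cases j
    · exact hrefl W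
    · exact ⟨f, hf⟩
    · exact ⟨f.symm, fun w =>
        ((congrArg (fun z : polarPerp Q W => Q (z : ι → F)) (f.apply_symm_apply w)).symm.trans (hf (f.symm w))).symm⟩
    · exact hrefl _

end Cfsg.Agent.Lib.MaxClass.OrthEven
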