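import Cfsg.Agent.S5693
import Cfsg.Agent.Lib.SingMax.SmallDecomp
import Cfsg.Agent.Lib.NonMax.OrthFrames

/-!
Small decompositions whose stabilisers are not maximal, in dimensions at least seven.
-/

set_option autoImplicit false
set_option linter.unusedSectionVars false
set_option linter.style.haveILetI false

namespace Cfsg.Agent.Lib.MaxClass.OrthEven

open Cfsg QuadraticMap

/-- The stabilisers of the small plane, three-space and four-space decompositions are not maximal. -/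
theorem exists_between_small {F : Type*} [Field F] [Fintype F] {n : ℕ} (hn : 7 ≤ n) (Q : (Fin n → F) → F)
    (hQ : Cfsg.Geo.IsNondegenerateQuadraticForm Q) {t : ℕ} (k : ℕ) (D : Fin t → Submodule F (Fin n → F))
    (hD : Cfsg.Geo.IsOrthogonalMDecomposition Q k D) (ht2 : k = 2 → 5 ≤ t) (ht3 : k = 3 → 4 ≤ t)
    (hcase : ((k = 2 ∧ (Fintype.card F = 3 ∨ ((∀ i, Cfsg.Geo.IsPlusTypeOn Q (D i)) ∧ (Fintype.card F = 2 ∨ Fintype.card F = 4 ∨ Fintype.card F = 5)))) ∨ (k = 3 ∧ Fintype.card F = 3) ∨ (k = 4 ∧ Fintype.card F = 2 ∧ ∀ i, Cfsg.Geo.IsPlusTypeOn Q (D i)))) :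
    ∃ K : Subgroup (Matrix.GeneralLinearGroup (Fin n) F), Cfsg.Geo.decompositionStabilizer D ⊓ Cfsg.Geo.omegaGL Q < K ∧ K < Cfsg.Geo.omegaGL Q := by
  classical
  set Q' := Cfsg.Agent.Lib.Forms.bundleQuad Q hQ with hQdef
  have hQ' := Cfsg.Agent.Lib.Forms.nondegenerate_bundleQuad Q hQ
  have hn7 : 7 ≤ Fintype.card (Fin n) := by simpa using hn
  have hcard : Fintype.card (Fin n) = t * k := Cfsg.Agent.Lib.NonMax.card_members hD.decomp.decomp
  rw [Fintype.card_fin] at hcard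
  have hnd : ∀ i, Cfsg.Geo.IsNondegenerateOn (QuadraticMap.polar ⇑Q') (D i) := hD.decomp.nondegenerate
  have horth : ∀ i j, i ≠ j → ∀ u ∈ D i, ∀ v ∈ D j, QuadraticMap.polar ⇑Q' u v = 0 := hD.decomp.orthogonal
  have hfr := hD.decomp.decomp.finrank_eq
  have htrans : ∀ i, Cfsg.Geo.IsPlusTypeOn Q (D i) → ∀ j, Cfsg.Geo.IsPlusTypeOn Q (D j) := by
    intro i hi j
    obtain ⟨U, hUW, hU, hUd⟩ := hi
    obtain ⟨φ, hφ⟩ := hD.isometric i j
    refine ⟨((U.comap (D i).subtype).map φ.toLinearMap).map (D j).subtype, Submodule.map_subtype_le _ _, ?_, ?_⟩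
    · rintro z ⟨w, ⟨y, hy, rfl⟩, rfl⟩
      exact (hφ y).trans (hU _ hy)
    · rw [Submodule.finrank_map_subtype_eq, ← (Submodule.equivMapOfInjective φ.toLinearMap φ.injective _).finrank_eq,
        (Submodule.comapSubtypeEquivOfLe hUW).finrank_eq, hfr j, hUd, hfr i]
  have hplanes : k = 2 → (∀ i, Cfsg.Geo.IsPlusTypeOn Q (D i)) → ∃ e f, Cfsg.Agent.Lib.SingMax.PlaneFrame Q' D e f := by
    intro hk hp
    have h : ∀ i, ∃ e f, e ∈ D i ∧ f ∈ D i ∧ Q' e = 0 ∧ Q' f = 0 ∧ QuadraticMap.polar ⇑Q' e f = 1 := by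
      intro i
      obtain ⟨U, hUW, hU, hUd⟩ := hp i
      obtain ⟨e, f, he, h⟩ := Cfsg.Agent.S5693.exists_pair_in (Q := Q') hQ' (hnd i) hUW hU (by have := hfr i; omega)
      exact ⟨e, f, hUW he, h⟩
    choose e f he hf heQ hfQ hef using h
    exact ⟨e, f, fun i => Cfsg.Agent.S5693.span_pair_eq (he i) (hf i) (heQ i) (hfQ i) (hef i) (hk ▸ hfr i), heQ, hfQ, hef, horth⟩
  have hthree : Fintype.card F = 3 → (k = 2 ∨ k = 3) → (k = 2 → ∀ i, ¬ Cfsg.Geo.IsPlusTypeOn Q (D i)) →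
      ∃ K : Subgroup (Matrix.GeneralLinearGroup (Fin n) F),
        Cfsg.Geo.decompositionStabilizer D ⊓ Cfsg.Geo.omegaGL Q < K ∧ K < Cfsg.Geo.omegaGL Q := fun hq hk hmp =>
    Cfsg.Agent.Lib.NonMax.exists_between_orth_decomposition hQ hq hk (hk.elim (fun h => le_trans (by norm_num) (ht2 h)) ht3) D hD hmp
  show ∃ K : Subgroup (Matrix.GeneralLinearGroup (Fin n) F),
    Cfsg.Geo.decompositionStabilizer D ⊓ Cfsg.Geo.omegaGL ⇑Q' < K ∧ K < Cfsg.Geo.omegaGL ⇑Q'
  rcases hcase with ⟨hk, hq⟩ | ⟨hk, hq⟩ | ⟨hk, hq, hp⟩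
  · by_cases hp : ∀ i, Cfsg.Geo.IsPlusTypeOn Q (D i)
    swap
    · rcases hq with hq | ⟨hp', -⟩
      · exact hthree hq (Or.inl hk) fun _ i hi => hp (htrans i hi)
      · exact absurd hp' hp
    obtain ⟨e, f, hF⟩ := hplanes hk hp
    subst hk
    have ht : 5 ≤ t := ht2 rfl
    have h5 : Fintype.card F = 2 ∨ Fintype.card F = 4 ∨ Fintype.card F = 3 ∨ Fintype.card F = 5 := by
      rcases hq with hq | ⟨-, hq | hq | hq⟩ <;> simp [hq]
    let u : Fin t → (Fin n → F) := fun i => e i + f i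
    let i₀ : Fin t := ⟨0, by omega⟩
    let i₁ : Fin t := ⟨1, by omega⟩
    let i₂ : Fin t := ⟨2, by omega⟩
    let i₃ : Fin t := ⟨3, by omega⟩
    have hQu : ∀ i, Q' (u i) = 1 := hF.Q_pair
    have hpu : ∀ i j, i ≠ j → QuadraticMap.polar ⇑Q' (u i) (u j) = 0 := hF.pair_pair
    have key : ∀ x y z, QuadraticMap.polar ⇑Q' (x + y) z =
        QuadraticMap.polar ⇑Q' x z + QuadraticMap.polar ⇑Q' y z := fun x y z => by
      rw [QuadraticMap.polar_add_left]
    by_cases h3 : Fintype.card F = 3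
    · have three : (3 : F) = 0 := by
        have := Nat.cast_card_eq_zero F
        rw [h3] at this
        exact_mod_cast this
      refine Cfsg.Agent.Lib.SingMax.between_graph hF hQ' hn7 ht (m := 1) one_pos (fun x y => by ring) (fun c hc => ?_)
        (fun x => by simp) (fun x => by simp) (w := u i₀ + u i₁ + u i₂ + u i₃)
        ⟨[i₀, i₁, i₂, i₃], by simp [i₀, i₁, i₂, i₃], by simp [i₀], by simp [i₁], by simp [i₀, i₁, i₂, i₃],
          by simp [u]; abel⟩ ?_
      · have h := FiniteField.pow_card_sub_one_eq_one c hc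
        rw [h3] at h
        rw [pow_one]
        exact eq_inv_of_mul_eq_one_right (by linear_combination h)
      · rw [QuadraticMap.map_add (⇑Q'), QuadraticMap.map_add (⇑Q'), QuadraticMap.map_add (⇑Q'),
          key (u i₀ + u i₁) (u i₂) (u i₃), key (u i₀) (u i₁) (u i₂), key (u i₀) (u i₁) (u i₃),
          hQu, hQu, hQu, hQu, hpu i₀ i₁ (by simp [i₀, i₁]), hpu i₀ i₂ (by simp [i₀, i₂]),
          hpu i₁ i₂ (by simp [i₁, i₂]), hpu i₀ i₃ (by simp [i₀, i₃]), hpu i₁ i₃ (by simp [i₁, i₃]),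
          hpu i₂ i₃ (by simp [i₂, i₃])]
        linear_combination three
    by_cases h55 : Fintype.card F = 5
    · exact Cfsg.Agent.Lib.SingMax.between_five hF hQ' hn7 ht h55
    have hq24 : Fintype.card F = 2 ∨ Fintype.card F = 4 := by omega
    haveI : CharP F 2 := Cfsg.Agent.Lib.Forms.charP_two_of_not_odd (by
      rcases hq24 with h | h <;> rw [h] <;> decide)
    have h4 : ∀ x : F, x ^ 4 = x := by
      intro x
      rcases hq24 with h | h
      · have := FiniteField.pow_card x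
        rw [h] at this
        calc x ^ 4 = (x ^ 2) ^ 2 := by ring
          _ = x := by rw [this, this]
      · have := FiniteField.pow_card x
        rwa [h] at this
    have hadd : ∀ x y : F, (x + y) ^ 2 = x ^ 2 + y ^ 2 := fun x y => CharTwo.add_sq x y
    refine Cfsg.Agent.Lib.SingMax.between_graph hF hQ' hn7 ht (m := 2) two_pos hadd (fun c hc => ?_)
      (fun x => by rw [← pow_mul]; exact h4 x) (fun x => by rw [hadd, ← pow_mul, h4 x, add_comm])
      (w := u i₀ + u i₁ + u i₂)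
      ⟨[i₀, i₁, i₂], by simp [i₀, i₁, i₂], by simp [i₀], by simp [i₁], by simp [i₀, i₁, i₂],
        by simp [u]; abel⟩ ?_
    · exact eq_inv_of_mul_eq_one_right (mul_left_cancel₀ hc (by linear_combination h4 c))
    · rw [QuadraticMap.map_add (⇑Q'), QuadraticMap.map_add (⇑Q'), key (u i₀) (u i₁) (u i₂),
        hQu, hQu, hQu, hpu i₀ i₁ (by simp [i₀, i₁]), hpu i₀ i₂ (by simp [i₀, i₂]),
        hpu i₁ i₂ (by simp [i₁, i₂])]
      linear_combination (CharTwo.two_eq_zero : (2 : F) = 0)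
  · exact hthree hq (Or.inr hk) fun h2 => absurd h2 (by omega)
  · haveI : CharP F 2 := Cfsg.Agent.Lib.Forms.charP_two_of_not_odd (by rw [hq]; decide)
    have h : ∀ i, ∃ a b a' b', _ := fun i =>
      Cfsg.Agent.S5693.exists_minus_pair (Q := Q') hQ' (hnd i) (hk ▸ hfr i) (hp i)
    choose a b a' b' hs h1 h2 h3 h4 h5 h6 h7 h8 h9 h10 using h
    exact Cfsg.Agent.Lib.SingMax.between_four_two (Q := Q') hQ' hn7 hq hD.decomp.decomp.two_le
      hD.decomp.decomp.indep hD.decomp.decomp.iSup_eq_top horth a b a' b' hs h1 h2 h3 h4 h5 h6 h7 h8 h9 h10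

end Cfsg.Agent.Lib.MaxClass.OrthEven
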