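import Mathlib
import Cfsg.Prelude.Def_GeometricClasses
import Cfsg.Agent.Lib.MaxClass.OrthEven.Types
import Cfsg.Agent.Lib.MaxClass.OrthEven.Basics
import Cfsg.Agent.Lib.Forms.Parity
import Cfsg.Agent.Lib.Classical.AlternatingRank
import Cfsg.Agent.Lib.SingMax.Planes

/-!
Elements of the Omega group and maximal totally singular subspaces: an element fixing one has even fixed
dimension, and no element exchanges two complementary ones of odd dimension.
-/

set_option autoImplicit false
set_option linter.style.haveILetI false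
set_option linter.unusedSectionVars false

namespace Cfsg.Agent.Lib.MaxClass.OrthEven

open Cfsg Cfsg.Geo Matrix QuadraticMap
open Cfsg.Agent.Lib.MaxClass

variable {ι : Type} [Fintype ι] [DecidableEq ι] {F : Type*} [Field F] [Fintype F] {Q : QuadraticForm F (ι → F)}

/-- The fixed space of a matrix group element. -/
noncomputable def fixSpace (g : GL ι F) : Submodule F (ι → F) :=
  LinearMap.ker (Matrix.toLin' (g : Matrix ι ι F) - LinearMap.id)

theorem mem_fixSpace {g : GL ι F} {v : ι → F} : v ∈ fixSpace g ↔ (g : Matrix ι ι F) *ᵥ v = v := by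
  rw [fixSpace, LinearMap.mem_ker, LinearMap.sub_apply, sub_eq_zero, Matrix.toLin'_apply]; rfl

theorem parity_eq (g : isometryGroup F ⇑Q) :
    Forms.parity g = (-1) ^ (Fintype.card ι + Module.finrank F (fixSpace (g : GL ι F))) := by
  rw [Forms.parity]
  congr 3

/-- Elements of the Omega group have even fixed codimension. -/
theorem parity_of_mem_omega (hQ : (QuadraticMap.polarBilin Q).Nondegenerate) (hn : Fintype.card ι ≠ 4) {g : GL ι F}
    (hg : g ∈ omegaGL ⇑Q) : Even (Fintype.card ι + Module.finrank F (fixSpace g)) := by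
  obtain ⟨h, hh, rfl⟩ := hg
  have hle : Cfsg.Omega F ⇑Q ≤ (Forms.parityHom hQ (Or.inr hn)).ker := by
    rw [Cfsg.Omega]
    exact Abelianization.commutator_subset_ker _
  have h1 : Forms.parity h = 1 := hle hh
  rw [parity_eq] at h1
  by_contra hne
  rw [Nat.not_even_iff_odd] at hne
  change Odd (Fintype.card ι + Module.finrank F (fixSpace (h : GL ι F))) at hne
  rw [hne.neg_one_pow] at h1
  exact absurd h1 (by decide)

/-- An isometry fixing a maximal totally singular subspace has even fixed dimension. -/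
theorem even_fixSpace_of_stabilises (hQ : (QuadraticMap.polarBilin Q).Nondegenerate) {W : Submodule F (ι → F)}
    (hW : IsTotallySingularQuad (⇑Q) W) {m : ℕ} (hd : Module.finrank F W = m) (hn : Fintype.card ι = 2 * m)
    {g : GL ι F} (hg : g ∈ isometryGroup F ⇑Q) (hgW : ∀ w, w ∈ W ↔ (g : Matrix ι ι F) *ᵥ w ∈ W) :
    Even (Module.finrank F (fixSpace g)) := by
  have hWperp : polarPerp Q W = W := by
    refine (Submodule.eq_of_le_of_finrank_eq (fun w hw => mem_polarPerp.mpr fun a ha => ?_) ?_).symm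
    · rw [QuadraticMap.polar, hW _ (W.add_mem ha hw), hW a ha, hW w hw]; simp
    · rw [finrank_polarPerp hQ, hd]; omega
  set N : (ι → F) →ₗ[F] (ι → F) := Matrix.toLin' (g : Matrix ι ι F) - LinearMap.id with hN
  have hNa : ∀ v, N v = (g : Matrix ι ι F) *ᵥ v - v := fun v => by simp [hN]
  set S := W.comap N with hS
  set T := W.map N with hT
  have hTW : T ≤ W := by
    rintro _ ⟨w, hw, rfl⟩
    rw [hNa]
    exact W.sub_mem ((hgW w).mp hw) hw
  have hperpT : polarPerp Q T = S := by
    ext v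
    rw [mem_polarPerp, hS, Submodule.mem_comap, hNa]
    have e : ∀ w, polar ⇑Q ((g : Matrix ι ι F) *ᵥ w - w) ((g : Matrix ι ι F) *ᵥ v) =
        polar ⇑Q w (v - (g : Matrix ι ι F) *ᵥ v) := fun w => by
      rw [polar_sub_left, polar_iso hg, polar_sub_right]
    have hg' : ∀ x, x ∈ W ↔ ∀ w ∈ W, polar ⇑Q w x = 0 := fun x => by
      conv_lhs => rw [← hWperp, mem_polarPerp]
    constructor
    · intro h
      -- apply the hypothesis to the image of `v` under the inverse
      have h' : ∀ w ∈ W, polar ⇑Q w (((g⁻¹ : GL ι F) : Matrix ι ι F) *ᵥ v - v) = 0 := fun w hw => by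
        have h1 := h (N w) ⟨w, hw, rfl⟩
        rw [hNa, polar_sub_left] at h1
        rw [polar_sub_right, ← polar_iso hg w, mulVec_inv_cancel]
        exact h1
      have h2 := (hgW _).mp ((hg' _).mpr h')
      rw [Matrix.mulVec_sub, mulVec_inv_cancel] at h2
      rw [← neg_sub]
      exact W.neg_mem h2
    · rintro h _ ⟨w, hw, rfl⟩
      rw [hNa, polar_sub_left]
      have h2 : ((g⁻¹ : GL ι F) : Matrix ι ι F) *ᵥ v - v ∈ W := by
        rw [hgW, Matrix.mulVec_sub, mulVec_inv_cancel, ← neg_sub]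
        exact W.neg_mem h
      have h3 := (hg' _).mp h2 w hw
      rwa [polar_sub_right, ← polar_iso hg w, mulVec_inv_cancel] at h3
  have hTS : T = polarPerp Q S := by rw [← hperpT, polarPerp_polarPerp hQ]
  let δ : S →ₗ[F] S →ₗ[F] F := ((QuadraticMap.polarBilin Q).compl₂ S.subtype).comp (N ∘ₗ S.subtype)
  have halt : ∀ v : S, δ v v = 0 := by
    intro v
    show polar ⇑Q (N (v : ι → F)) (v : ι → F) = 0
    have hNv : N (v : ι → F) ∈ W := v.2
    have h := app_iso hg (v : ι → F)
    rw [show (g : Matrix ι ι F) *ᵥ (v : ι → F) = N (v : ι → F) + (v : ι → F) by rw [hNa, sub_add_cancel],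
      QuadraticMap.map_add (⇑Q), hW _ hNv] at h
    linear_combination h
  have heven := Cfsg.Agent.Lib.AlternatingRank.even_finrank_range_of_alt _ (rfl : Module.finrank F S = _) δ halt
  set k := LinearMap.ker N with hk
  have hfix : fixSpace g = k := rfl
  rw [hfix]
  have hker : (LinearMap.ker δ).map S.subtype = W ⊔ k := by
    ext v
    constructor
    · rintro ⟨x, hx, rfl⟩
      have hxT : N (x : ι → F) ∈ T := by
        rw [hTS, mem_polarPerp]
        intro s hs
        rw [polar_comm]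
        exact LinearMap.congr_fun hx ⟨s, hs⟩
      obtain ⟨w, hw, hwx⟩ := hxT
      refine Submodule.mem_sup.mpr ⟨w, hw, (x : ι → F) - w, ?_, add_sub_cancel _ _⟩
      rw [hk, LinearMap.mem_ker, map_sub, hwx, sub_self]
    · intro hv
      obtain ⟨w, hw, z, hz, rfl⟩ := Submodule.mem_sup.mp hv
      have hNv : N (w + z) ∈ T := by
        rw [map_add, LinearMap.mem_ker.mp hz, add_zero]
        exact Submodule.mem_map_of_mem hw
      refine ⟨⟨w + z, hTW hNv⟩, LinearMap.ext fun s => ?_, rfl⟩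
      have := hTS ▸ hNv
      show polar ⇑Q (N (w + z)) (s : ι → F) = 0
      rw [polar_comm]
      exact mem_polarPerp.mp this _ s.2
  have e1 := δ.finrank_range_add_finrank_ker
  have e2 : Module.finrank F (LinearMap.ker δ) = Module.finrank F (W ⊔ k : Submodule F (ι → F)) := by
    rw [← hker, Submodule.finrank_map_subtype_eq]
  have e3 := Submodule.finrank_sup_add_finrank_inf_eq W k
  have e4 := (N.domRestrict W).finrank_range_add_finrank_ker
  rw [LinearMap.range_domRestrict, ← hT, LinearMap.ker_domRestrict, ← hk] at e4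
  have e5 : Module.finrank F (k.comap W.subtype) = Module.finrank F (W ⊓ k : Submodule F (ι → F)) := by
    rw [← Submodule.finrank_map_subtype_eq W (k.comap W.subtype), Submodule.map_comap_subtype]
  have e6 : Module.finrank F S = Fintype.card ι - Module.finrank F T := by rw [← hperpT, finrank_polarPerp hQ]
  obtain ⟨l, hl⟩ := heven
  have e7 : Module.finrank F T ≤ Module.finrank F W := Submodule.finrank_mono hTW
  exact ⟨Module.finrank F (W ⊓ k : Submodule F (ι → F)) - l, by omega⟩

/-- An isometry exchanging two complementary totally singular subspaces of odd dimension is not in the Omega group. -/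
theorem not_swap_of_odd (hQ : (QuadraticMap.polarBilin Q).Nondegenerate) (hn4 : Fintype.card ι ≠ 4)
    {W U : Submodule F (ι → F)} (hW : IsTotallySingularQuad (⇑Q) W) {m : ℕ} (hm : Odd m)
    (hWd : Module.finrank F W = m) (hUd : Module.finrank F U = m) (hn : Fintype.card ι = 2 * m)
    (hdis : Disjoint W U) {g : GL ι F} (hg : g ∈ omegaGL ⇑Q)
    (hgW : ∀ w ∈ W, (g : Matrix ι ι F) *ᵥ w ∈ U) (hgU : ∀ u ∈ U, (g : Matrix ι ι F) *ᵥ u ∈ W) : False := by
  have hgI : g ∈ isometryGroup F ⇑Q := Subgroup.map_subtype_le _ hg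
  have hsup : W ⊔ U = ⊤ := by
    refine Submodule.eq_top_of_finrank_eq ?_
    have h := Submodule.finrank_sup_add_finrank_inf_eq W U
    rw [hdis.eq_bot, finrank_bot, add_zero] at h
    rw [Module.finrank_fintype_fun_eq_card, h]; omega
  have hinvW : ∀ w ∈ W, ((g⁻¹ : GL ι F) : Matrix ι ι F) *ᵥ w ∈ U := by
    intro w hw
    obtain ⟨a, ha, b, hb, hab⟩ := Submodule.mem_sup.mp
      (hsup ▸ Submodule.mem_top : ((g⁻¹ : GL ι F) : Matrix ι ι F) *ᵥ w ∈ W ⊔ U)
    have h := congrArg (fun x => (g : Matrix ι ι F) *ᵥ x) hab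
    simp only [Matrix.mulVec_add, mulVec_inv_cancel] at h
    have h1 : (g : Matrix ι ι F) *ᵥ a ∈ W := by
      rw [eq_sub_of_add_eq h]
      exact W.sub_mem hw (hgU b hb)
    have h2 : (g : Matrix ι ι F) *ᵥ a = 0 := Submodule.disjoint_def.mp hdis _ h1 (hgW a ha)
    have ha0 : a = 0 := by
      have := congrArg (fun x => ((g⁻¹ : GL ι F) : Matrix ι ι F) *ᵥ x) h2
      simpa [inv_mulVec_cancel] using this
    rw [← hab, ha0, zero_add]
    exact hb
  let g₁ := Matrix.toLin' (g : Matrix ι ι F)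
  let g₂ := Matrix.toLin' ((g⁻¹ : GL ι F) : Matrix ι ι F)
  let δ : W →ₗ[F] W →ₗ[F] F := ((QuadraticMap.polarBilin Q).compl₂ W.subtype).comp ((g₂ - g₁) ∘ₗ W.subtype)
  have halt : ∀ v : W, δ v v = 0 := by
    intro v
    show polar ⇑Q (g₂ (v : ι → F) - g₁ (v : ι → F)) (v : ι → F) = 0
    rw [polar_sub_left, Matrix.toLin'_apply, Matrix.toLin'_apply, ← polar_iso hgI, mulVec_inv_cancel,
      polar_comm, sub_self]
  have heven := Cfsg.Agent.Lib.AlternatingRank.even_finrank_range_of_alt _ (rfl : Module.finrank F W = _) δ halt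
  have hWperp : polarPerp Q W = W := by
    refine (Submodule.eq_of_le_of_finrank_eq (fun w hw => mem_polarPerp.mpr fun a ha => ?_) ?_).symm
    · rw [QuadraticMap.polar, hW _ (W.add_mem ha hw), hW a ha, hW w hw]; simp
    · rw [finrank_polarPerp hQ, hWd]; omega
  let φ : W →ₗ[F] (ι → F) := (LinearMap.id + g₁) ∘ₗ W.subtype
  have hφinj : Function.Injective φ := by
    rw [← LinearMap.ker_eq_bot, LinearMap.ker_eq_bot']
    intro w hw
    have h : (w : ι → F) + (g : Matrix ι ι F) *ᵥ (w : ι → F) = 0 := hw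
    have : (w : ι → F) ∈ U := by
      rw [eq_neg_of_add_eq_zero_left h]
      exact U.neg_mem (hgW _ w.2)
    exact Subtype.ext (Submodule.disjoint_def.mp hdis _ w.2 this)
  have hker : (LinearMap.ker δ).map φ = fixSpace g := by
    ext v
    constructor
    · rintro ⟨w, hw, rfl⟩
      have h1 : g₂ (w : ι → F) - g₁ (w : ι → F) ∈ W := by
        refine hWperp.le (mem_polarPerp.mpr ?_)
        intro a ha
        rw [polar_comm]
        exact LinearMap.congr_fun hw ⟨a, ha⟩
      have h2 : g₂ (w : ι → F) - g₁ (w : ι → F) ∈ U := by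
        rw [Matrix.toLin'_apply, Matrix.toLin'_apply]
        exact U.sub_mem (hinvW _ w.2) (hgW _ w.2)
      have h3 := Submodule.disjoint_def.mp hdis _ h1 h2
      rw [sub_eq_zero, Matrix.toLin'_apply, Matrix.toLin'_apply] at h3
      rw [mem_fixSpace]
      show (g : Matrix ι ι F) *ᵥ ((w : ι → F) + (g : Matrix ι ι F) *ᵥ (w : ι → F)) = _
      rw [Matrix.mulVec_add]
      conv_lhs => arg 2; rw [← h3, mulVec_inv_cancel]
      exact add_comm _ _
    · intro hv
      rw [mem_fixSpace] at hv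
      obtain ⟨w, hw, u, hu, rfl⟩ := Submodule.mem_sup.mp (hsup ▸ Submodule.mem_top : v ∈ W ⊔ U)
      rw [Matrix.mulVec_add] at hv
      have h1 : (g : Matrix ι ι F) *ᵥ u - w ∈ U := by
        rw [show (g : Matrix ι ι F) *ᵥ u - w = u - (g : Matrix ι ι F) *ᵥ w by
          linear_combination (norm := module) hv]
        exact U.sub_mem hu (hgW w hw)
      have h2 := sub_eq_zero.mp (Submodule.disjoint_def.mp hdis _ (W.sub_mem (hgU u hu) hw) h1)
      rw [h2, add_comm] at hv
      have h3 : u = (g : Matrix ι ι F) *ᵥ w := by linear_combination (norm := module) -hv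
      refine ⟨⟨w, hw⟩, LinearMap.ext fun a => ?_, by rw [h3]; rfl⟩
      show polar ⇑Q (g₂ w - g₁ w) (a : ι → F) = 0
      rw [Matrix.toLin'_apply, Matrix.toLin'_apply]
      have h4 : ((g⁻¹ : GL ι F) : Matrix ι ι F) *ᵥ w = (g : Matrix ι ι F) *ᵥ w := by
        conv_lhs => rw [← h2, inv_mulVec_cancel]
        exact h3
      rw [h4, sub_self, polar_zero_left]
  have e1 := δ.finrank_range_add_finrank_ker
  have e2 : Module.finrank F (fixSpace g) = Module.finrank F (LinearMap.ker δ) := by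
    rw [← hker]
    exact (Submodule.equivMapOfInjective φ hφinj _).finrank_eq.symm
  obtain ⟨l, hl⟩ := heven
  obtain ⟨j, hj⟩ := parity_of_mem_omega hQ hn4 hg
  obtain ⟨i, hi⟩ := hm
  omega

/-- A totally singular subspace one below the maximum lies in a maximal one with the same stabiliser. -/
theorem exists_maximal_singular (hQ : (QuadraticMap.polarBilin Q).Nondegenerate) (hplus : IsPlusTypeOn (⇑Q) ⊤)
    {W : Submodule F (ι → F)} (hW : IsTotallySingularQuad (⇑Q) W) {k : ℕ} (hk : 2 ≤ k)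
    (hd : Module.finrank F W = k) (hn : Fintype.card ι = 2 * (k + 1)) :
    ∃ W₁ : Submodule F (ι → F), W₁ ≠ ⊥ ∧ IsTotallySingularQuad (⇑Q) W₁ ∧ Module.finrank F W₁ = k + 1 ∧
      subspaceStabilizer W ⊓ omegaGL ⇑Q ≤ subspaceStabilizer W₁ := by
  classical
  have hpol : ∀ u ∈ W, ∀ v ∈ W, polar ⇑Q u v = 0 := fun u hu v hv => by
    rw [QuadraticMap.polar, hW _ (W.add_mem hu hv), hW u hu, hW v hv]; simp
  set C := polarPerp Q W with hC
  have hWC : W ≤ C := fun w hw => mem_polarPerp.mpr fun a ha => hpol a ha w hw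
  have hCd : Module.finrank F C = k + 2 := by rw [hC, finrank_polarPerp hQ, hd]; omega
  obtain ⟨P', hP'⟩ := Submodule.exists_isCompl (W.comap C.subtype)
  set P := P'.map C.subtype with hP
  have hPC : P ≤ C := Submodule.map_subtype_le C P'
  have hsupC : W ⊔ P = C := by
    have h := congrArg (Submodule.map C.subtype) hP'.sup_eq_top
    rw [Submodule.map_sup, Submodule.map_top, Submodule.range_subtype, Submodule.map_comap_subtype,
      inf_eq_right.mpr hWC] at h
    exact h
  have hdisP : W ⊓ P = ⊥ := by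
    rw [eq_bot_iff]
    rintro x ⟨hx, hxP⟩
    obtain ⟨y, hy, rfl⟩ := hxP
    have : y ∈ (W.comap C.subtype) ⊓ P' := ⟨hx, hy⟩
    rw [hP'.inf_eq_bot, Submodule.mem_bot] at this
    rw [this]
    exact Submodule.zero_mem _
  have hPd : Module.finrank F P = 2 := by
    have h := Submodule.finrank_sup_add_finrank_inf_eq W P
    rw [hsupC, hdisP, finrank_bot, hCd, hd] at h
    omega
  have hPnd : IsNondegenerateOn (polar ⇑Q) P := by
    intro w hw hw0
    have : ∃ x ∈ P, polar ⇑Q x w ≠ 0 := by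
      by_contra hcon
      push Not at hcon
      have hwW : w ∈ W := by
        rw [← polarPerp_polarPerp hQ W, ← hC, mem_polarPerp]
        intro c hc
        rw [← hsupC] at hc
        obtain ⟨a, ha, b, hb, rfl⟩ := Submodule.mem_sup.mp hc
        rw [polar_add_left, hcon b hb, mem_polarPerp.mp (hPC hw) a ha, add_zero]
      exact hw0 (by have h : w ∈ W ⊓ P := ⟨hwW, hw⟩; rwa [hdisP, Submodule.mem_bot] at h)
    obtain ⟨x, hx, hxw⟩ := this
    exact ⟨⟨x, hx, hxw⟩, ⟨x, hx, by rwa [polar_comm]⟩⟩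
  have hP2 := nondegenerateOn_polarPerp hQ hPnd
  have hP2d : Module.finrank F (polarPerp Q P) = 2 * k := by rw [finrank_polarPerp hQ, hPd]; omega
  have hplusP : IsPlusTypeOn (⇑Q) P := by
    have h := isPlusTypeOn_sup_iff hPnd hP2 (fun a ha b hb => mem_polarPerp.mp hb a ha) le_rfl
      (show 1 ≤ k by omega) (by omega) hP2d
    rw [(SingMax.isCompl_polarPerp hQ hPnd).sup_eq_top] at h
    exact (h.mp hplus).mpr ⟨W, fun w hw => mem_polarPerp.mpr fun a ha => by
      rw [polar_comm]; exact mem_polarPerp.mp (hPC ha) w hw, hW, by rw [hd, hP2d]⟩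
  obtain ⟨U, hUP, hUs, hUd⟩ := hplusP
  obtain ⟨x, hxU, hx0⟩ := U.ne_bot_iff.mp (ne_bot_of_finrank (by omega))
  have hx := hUP hxU
  have hxQ : Q x = 0 := hUs x hxU
  obtain ⟨y, hy, hyQ, hxy⟩ := SingMax.exists_partner_in hQ hPnd hx hx0 hxQ
  have hxW : ∀ a ∈ W, polar ⇑Q a x = 0 := mem_polarPerp.mp (hPC hx)
  have hyW : ∀ a ∈ W, polar ⇑Q a y = 0 := mem_polarPerp.mp (hPC hy)
  set W₁ := W ⊔ (F ∙ x) with hW₁
  have hW₁Q : IsTotallySingularQuad (⇑Q) W₁ := by
    intro v hv
    obtain ⟨a, ha, b, hb, rfl⟩ := Submodule.mem_sup.mp hv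
    obtain ⟨s, rfl⟩ := Submodule.mem_span_singleton.mp hb
    rw [QuadraticMap.map_add (⇑Q), hW a ha, QuadraticMap.map_smul, hxQ, polar_smul_right, hxW a ha]
    simp
  have hW₁d : Module.finrank F W₁ = k + 1 := by
    have hdis : W ⊓ (F ∙ x) = ⊥ := by
      rw [eq_bot_iff]
      exact le_trans (inf_le_inf_left W ((Submodule.span_singleton_le_iff_mem x P).mpr hx)) hdisP.le
    have h := Submodule.finrank_sup_add_finrank_inf_eq W (F ∙ x)
    rw [hdis, finrank_bot, hd, finrank_span_singleton hx0] at h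
    rw [hW₁]; omega
  refine ⟨W₁, ne_bot_of_finrank (by omega), hW₁Q, hW₁d, ?_⟩
  rintro g ⟨hgW, hgΩ⟩
  have hgI : g ∈ isometryGroup F ⇑Q := Subgroup.map_subtype_le _ hgΩ
  have hstab : ∀ w, w ∈ W ↔ (g : Matrix ι ι F) *ᵥ w ∈ W := hgW
  have hgC : ∀ w, w ∈ C ↔ (g : Matrix ι ι F) *ᵥ w ∈ C := stabilizer_le_polarPerp (Q := Q) W ⟨hgW, hgI⟩
  have hspanP : ∀ z ∈ P, ∃ a b : F, z = a • x + b • y := by
    intro z hz
    refine ⟨polar ⇑Q y z, polar ⇑Q x z, ?_⟩
    by_contra hne
    obtain ⟨⟨p, hp, hpz⟩, -⟩ := hPnd _ (P.sub_mem hz (P.add_mem (P.smul_mem _ hx) (P.smul_mem _ hy)))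
      (sub_ne_zero.mpr hne)
    have hsp : P = Submodule.span F (Set.range ![x, y]) := by
      refine (Submodule.eq_of_le_of_finrank_eq (Submodule.span_le.mpr ?_) ?_).symm
      · rintro _ ⟨i, rfl⟩; fin_cases i <;> assumption
      · rw [finrank_span_eq_card ?_, hPd, Fintype.card_fin]
        refine (LinearIndependent.pair_iff' hx0).mpr fun c hc => ?_
        rw [← hc, polar_smul_right, polar_self, hxQ] at hxy
        simp at hxy
    rw [hsp] at hp
    obtain ⟨f, rfl⟩ := (Submodule.mem_span_range_iff_exists_fun F).mp hp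
    apply hpz
    simp [Fin.sum_univ_two, polar_add_left, polar_add_right, polar_sub_right, polar_smul_left, polar_smul_right,
      polar_self, hxQ, hyQ, hxy, polar_comm (⇑Q) y x]
    ring
  have hgx := (hgC x).mp (hPC hx)
  rw [← hsupC] at hgx
  obtain ⟨w₀, hw₀, p, hp, hgxp⟩ := Submodule.mem_sup.mp hgx
  obtain ⟨a, b, rfl⟩ := hspanP p hp
  have hab : a * b = 0 := by
    have h := app_iso hgI x
    rw [← hgxp, hxQ, QuadraticMap.map_add (⇑Q), QuadraticMap.map_add (⇑Q) (a • x), hW w₀ hw₀,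
      QuadraticMap.map_smul, QuadraticMap.map_smul, hxQ, hyQ, polar_add_right, polar_smul_right, polar_smul_right,
      polar_smul_left, polar_smul_right, hxW w₀ hw₀, hyW w₀ hw₀, hxy] at h
    simpa [mul_comm] using h
  have hback : (∀ v ∈ W₁, (g : Matrix ι ι F) *ᵥ v ∈ W₁) → g ∈ subspaceStabilizer W₁ := fun h =>
    Forms.mem_stabilizing_of_mapsTo (toMat := glToMat ι F) W₁ fun v hv => by simpa using h v hv
  by_cases hb : b = 0
  · refine hback fun v hv => ?_
    obtain ⟨u, hu, s', hs', rfl⟩ := Submodule.mem_sup.mp hv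
    obtain ⟨s, rfl⟩ := Submodule.mem_span_singleton.mp hs'
    rw [Matrix.mulVec_add, Matrix.mulVec_smul, ← hgxp, hb, zero_smul, add_zero]
    exact W₁.add_mem (Submodule.mem_sup_left ((hstab u).mp hu)) (W₁.smul_mem _ (W₁.add_mem
      (Submodule.mem_sup_left hw₀) (W₁.smul_mem _ (Submodule.mem_sup_right (Submodule.mem_span_singleton_self x)))))
  exfalso
  have ha : a = 0 := (mul_eq_zero.mp hab).resolve_right hb
  rw [ha, zero_smul, zero_add] at hgxp
  -- a reflection carries the other maximal subspace back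
  have hvQ : Q (x + y) ≠ 0 := by rw [QuadraticMap.map_add (⇑Q), hxQ, hyQ, hxy]; simp
  set h : isometryGroup F ⇑Q := Forms.reflElem hvQ * ⟨g, hgI⟩ with hh
  have hQv : Q (x + y) = 1 := by rw [QuadraticMap.map_add (⇑Q), hxQ, hyQ, hxy]; simp
  have happ : ∀ v, ((h : GL ι F) : Matrix ι ι F) *ᵥ v =
      (g : Matrix ι ι F) *ᵥ v - polar ⇑Q (x + y) ((g : Matrix ι ι F) *ᵥ v) • (x + y) := fun v => by
    rw [hh, Subgroup.coe_mul, Units.val_mul, ← Matrix.mulVec_mulVec, Forms.reflElem_mulVec, hQv, inv_one, one_mul]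
  have hperpW : ∀ u ∈ W, polar ⇑Q (x + y) u = 0 := fun u hu => by
    rw [polar_add_left, polar_comm _ x, polar_comm _ y, hxW u hu, hyW u hu, add_zero]
  have hmap : ∀ v ∈ W₁, ((h : GL ι F) : Matrix ι ι F) *ᵥ v ∈ W₁ := by
    intro v hv
    obtain ⟨u, hu, s', hs', rfl⟩ := Submodule.mem_sup.mp hv
    obtain ⟨s, rfl⟩ := Submodule.mem_span_singleton.mp hs'
    rw [Matrix.mulVec_add, Matrix.mulVec_smul]
    refine W₁.add_mem ?_ (W₁.smul_mem _ ?_)
    · rw [happ, hperpW _ ((hstab u).mp hu), zero_smul, sub_zero]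
      exact Submodule.mem_sup_left ((hstab u).mp hu)
    · rw [happ, ← hgxp, polar_add_right, hperpW w₀ hw₀, zero_add, polar_smul_right, polar_add_left, polar_self,
        hxy, hyQ]
      rw [Submodule.mem_sup]
      refine ⟨w₀, hw₀, -(b • x), Submodule.neg_mem _ (Submodule.smul_mem _ _ (Submodule.mem_span_singleton_self x)),
        ?_⟩
      simp only [nsmul_zero, smul_eq_mul, mul_one, add_zero]
      module
  have hmem : (h : GL ι F) ∈ subspaceStabilizer W₁ :=
    Forms.mem_stabilizing_of_mapsTo (toMat := glToMat ι F) W₁ fun v hv => by simpa using hmap v hv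
  have hev := even_fixSpace_of_stabilises hQ hW₁Q hW₁d hn (g := (h : GL ι F)) h.2 fun v => hmem v
  have hp := Forms.parity_reflElem_mul hQ hvQ ⟨g, hgI⟩
  rw [← hh, parity_eq, parity_eq] at hp
  have hgev : (-1 : ℤˣ) ^ (Fintype.card ι + Module.finrank F (fixSpace g)) = 1 :=
    (parity_of_mem_omega hQ (by omega) hgΩ).neg_one_pow
  rw [hgev, hn] at hp
  obtain ⟨l, hl⟩ := hev
  rw [show 2 * (k + 1) + Module.finrank F (fixSpace (h : GL ι F)) = 2 * (k + 1 + l) by omega, pow_mul] at hp
  simp at hp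

end Cfsg.Agent.Lib.MaxClass.OrthEven
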