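import Mathlib
import Cfsg.Prelude.Def_GeometricClasses
import Cfsg.Agent.Lib.MaxClass.OrthEven.FieldForm
import Cfsg.Agent.Lib.MaxClass.OrthEven.Swap
import Cfsg.Agent.Lib.MaxClass.OrthEven.Involution

/-!
The cases peculiar to dimension ten: quadratic fields of similitudes from one element, alternating fields,
and pairs of singular halves.
-/

set_option autoImplicit false
set_option linter.style.haveILetI false
set_option linter.unusedSectionVars false

namespace Cfsg.Agent.Lib.MaxClass.OrthEven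

open Cfsg Cfsg.Geo Matrix QuadraticMap
open Cfsg.Agent.Lib Cfsg.Agent.Lib.Aschbacher Cfsg.Agent.Lib.MaxClass

variable {ι : Type} [Fintype ι] [DecidableEq ι] {F : Type*} [Field F] [Fintype F] {Q : QuadraticForm F (ι → F)}

/-- The square classes of minus one. -/
theorem card_mod_four (hodd : Odd (Fintype.card F)) :
    (IsSquare (-1 : F) → Fintype.card F % 4 = 1) ∧ (¬ IsSquare (-1 : F) → Fintype.card F % 4 = 3) := by
  have h := Nat.odd_iff.mp hodd
  rw [FiniteField.isSquare_neg_one_iff]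
  omega

/-- An element with `T * T = T - z` acting by similitudes spans a field of similitudes. -/
theorem exists_similar_field (hQ : (QuadraticMap.polarBilin Q).Nondegenerate) (hn : 1 ≤ Fintype.card ι)
    {H : Subgroup (GL ι F)} {T : Matrix ι ι F} {z : F} (hz : ∀ t : F, t ^ 2 + t + z ≠ 0)
    (hT : T * T = T - z • (1 : Matrix ι ι F)) (hQT : ∀ v, Q (T *ᵥ v) = z * Q v)
    (hQT' : ∀ v, Q ((1 - T) *ᵥ v) = z * Q v)
    (hconj : ∀ g ∈ H, (g : Matrix ι ι F) * T = T * (g : Matrix ι ι F) ∨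
      (g : Matrix ι ι F) * T = (1 - T) * (g : Matrix ι ι F)) :
    ∃ K : Subalgebra F (Matrix ι ι F), IsFieldSubalgebra 2 K ∧ IsAdjointClosedFor (polar ⇑Q) K ∧
      ¬ IsSelfAdjointFor (polar ⇑Q) K ∧ (∀ x ∈ K, ∃ c : F, ∀ v, Q (x *ᵥ v) = c * Q v) ∧
      H ≤ subalgebraNormalizer K := by
  classical
  haveI : Nonempty ι := Fintype.card_pos_iff.mp (by omega)
  have hz0 : z ≠ 0 := fun h => hz 0 (by rw [h]; ring)
  have hscal : ∀ c : F, T ≠ c • (1 : Matrix ι ι F) := by
    intro c hc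
    rw [hc, Matrix.smul_mul, one_mul, smul_smul, ← sub_smul] at hT
    have h := congrFun (congrFun hT (Classical.arbitrary ι)) (Classical.arbitrary ι)
    simp only [Matrix.smul_apply, Matrix.one_apply_eq, smul_eq_mul, mul_one] at h
    exact hz (-c) (by linear_combination h)
  have hadj : ∀ u v, polar ⇑Q (T *ᵥ u) v = polar ⇑Q u ((1 - T) *ᵥ v) := by
    intro u v
    have hpol : ∀ x y, polar ⇑Q (T *ᵥ x) (T *ᵥ y) = z * polar ⇑Q x y := fun x y => by
      simp only [QuadraticMap.polar, ← Matrix.mulVec_add, hQT]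
      ring
    have e : T *ᵥ ((1 - T) *ᵥ v) = z • v := by
      rw [Matrix.mulVec_mulVec, mul_sub, mul_one, hT, sub_sub_cancel, Matrix.smul_mulVec, Matrix.one_mulVec]
    have h := hpol u ((1 - T) *ᵥ v)
    rw [e, polar_smul_right, smul_eq_mul] at h
    exact mul_left_cancel₀ hz0 h
  have hvT : ∀ v, polar ⇑Q v (T *ᵥ v) = Q v := by
    intro v
    have h : Q (v - T *ᵥ v) = z * Q v := by rw [← hQT' v, Matrix.sub_mulVec, Matrix.one_mulVec]
    rw [sub_eq_add_neg, QuadraticMap.map_add (⇑Q), QuadraticMap.map_neg, polar_neg_right, hQT] at h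
    linear_combination -h
  have hli : LinearIndependent F ![(1 : Matrix ι ι F), T] :=
    (LinearIndependent.pair_iff' one_ne_zero).mpr fun a ha => hscal a ha.symm
  set S : Submodule F (Matrix ι ι F) := Submodule.span F (Set.range ![(1 : Matrix ι ι F), T]) with hS
  have hmem : ∀ x, x ∈ S ↔ ∃ a b : F, x = a • (1 : Matrix ι ι F) + b • T := by
    intro x
    rw [hS, Submodule.mem_span_range_iff_exists_fun]
    constructor
    · rintro ⟨f, rfl⟩
      exact ⟨f 0, f 1, by simp [Fin.sum_univ_two]⟩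
    · rintro ⟨a, b, rfl⟩
      exact ⟨![a, b], by simp [Fin.sum_univ_two]⟩
  have hmul : ∀ a b a' b' : F, (a • (1 : Matrix ι ι F) + b • T) * (a' • (1 : Matrix ι ι F) + b' • T) =
      (a * a' - b * b' * z) • (1 : Matrix ι ι F) + (a * b' + b * a' + b * b') • T := by
    intro a b a' b'
    simp only [add_mul, mul_add, Matrix.smul_mul, Matrix.mul_smul, one_mul, mul_one, hT]
    module
  let K : Subalgebra F (Matrix ι ι F) := S.toSubalgebra ((hmem _).mpr ⟨1, 0, by simp⟩) fun x y hx hy => by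
    obtain ⟨a, b, rfl⟩ := (hmem _).mp hx
    obtain ⟨a', b', rfl⟩ := (hmem _).mp hy
    exact (hmem _).mpr ⟨_, _, hmul a b a' b'⟩
  have hKmem : ∀ x, x ∈ K ↔ ∃ a b : F, x = a • (1 : Matrix ι ι F) + b • T := hmem
  have hTK : T ∈ K := (hKmem T).mpr ⟨0, 1, by simp⟩
  refine ⟨K, ⟨?_, ?_, ?_⟩, ?_, ?_, ?_, fun g hg x => ?_⟩
  · intro x hx y hy
    obtain ⟨a, b, rfl⟩ := (hKmem _).mp hx
    obtain ⟨a', b', rfl⟩ := (hKmem _).mp hy
    rw [hmul, hmul]
    module
  · intro x hx hx0
    obtain ⟨a, b, rfl⟩ := (hKmem _).mp hx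
    have hN : a * a + a * b + z * (b * b) ≠ 0 := by
      intro hN
      by_cases hb : b = 0
      · subst hb
        have ha : a = 0 := mul_self_eq_zero.mp (by linear_combination hN)
        exact hx0 (by rw [ha, zero_smul, zero_smul, add_zero])
      · exact hz (a / b) (by field_simp; linear_combination hN)
    refine ⟨((a + b) / (a * a + a * b + z * (b * b))) • (1 : Matrix ι ι F) +
      (-b / (a * a + a * b + z * (b * b))) • T, (hKmem _).mpr ⟨_, _, rfl⟩, ?_⟩
    rw [hmul]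
    set N := a * a + a * b + z * (b * b) with hNdef
    have e1 : a * ((a + b) / N) - b * (-b / N) * z = 1 := by
      rw [show a * ((a + b) / N) - b * (-b / N) * z = (a * a + a * b + z * (b * b)) / N by ring, ← hNdef, div_self hN]
    have e2 : a * (-b / N) + b * ((a + b) / N) + b * (-b / N) = 0 := by ring
    rw [e1, e2, one_smul, zero_smul, add_zero]
  · show Module.finrank F S = 2
    rw [hS, finrank_span_eq_card hli, Fintype.card_fin]
  · intro x hx
    obtain ⟨a, b, rfl⟩ := (hKmem _).mp hx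
    refine ⟨(a + b) • (1 : Matrix ι ι F) + (-b) • T, (hKmem _).mpr ⟨_, _, rfl⟩, fun u v => ?_⟩
    simp only [Matrix.add_mulVec, Matrix.smul_mulVec, Matrix.one_mulVec, polar_add_left, polar_add_right,
      polar_smul_left, polar_smul_right, smul_eq_mul, hadj, Matrix.sub_mulVec, polar_sub_right]
    ring
  · intro hsa
    have h2T : (2 : F) • T = (1 : Matrix ι ι F) := by
      refine Matrix.ext_iff_mulVec.mpr fun v => ?_
      rw [Matrix.smul_mulVec, Matrix.one_mulVec]
      refine sub_eq_zero.mp (hQ.1 _ fun u => ?_)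
      show polar ⇑Q _ u = 0
      have h := (hsa T hTK v u).symm.trans (hadj v u)
      rw [Matrix.sub_mulVec, Matrix.one_mulVec, polar_sub_right] at h
      rw [polar_sub_left, polar_smul_left, smul_eq_mul, hsa T hTK v u]
      linear_combination h
    by_cases h2 : (2 : F) = 0
    · rw [h2, zero_smul] at h2T
      exact zero_ne_one h2T
    · exact hscal (2 : F)⁻¹ (by rw [← h2T, smul_smul, inv_mul_cancel₀ h2, one_smul])
  · intro x hx
    obtain ⟨a, b, rfl⟩ := (hKmem _).mp hx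
    refine ⟨a * a + a * b + z * (b * b), fun v => ?_⟩
    rw [Matrix.add_mulVec, Matrix.smul_mulVec, Matrix.smul_mulVec, Matrix.one_mulVec, QuadraticMap.map_add (⇑Q),
      QuadraticMap.map_smul, QuadraticMap.map_smul, hQT, polar_smul_left, polar_smul_right, hvT]
    simp only [smul_eq_mul]
    ring
  · -- both conjugates of the generator lie in the field
    obtain ⟨hgT, hgT'⟩ : (g : Matrix ι ι F) * T * ((g⁻¹ : GL ι F) : Matrix ι ι F) ∈ K ∧
        ((g⁻¹ : GL ι F) : Matrix ι ι F) * T * (g : Matrix ι ι F) ∈ K := by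
      have h1T : 1 - T ∈ K := K.sub_mem K.one_mem hTK
      rcases hconj g hg with h | h
      · refine ⟨?_, ?_⟩
        · rwa [h, mul_assoc, Units.mul_inv, mul_one]
        · rwa [mul_assoc, ← h, ← mul_assoc, Units.inv_mul, one_mul]
      · refine ⟨?_, ?_⟩
        · rwa [h, mul_assoc, Units.mul_inv, mul_one]
        · have h' : T * (g : Matrix ι ι F) = (g : Matrix ι ι F) * (1 - T) := by
            rw [mul_sub, mul_one, h, sub_mul, one_mul, sub_sub_cancel]
          rwa [mul_assoc, h', ← mul_assoc, Units.inv_mul, one_mul]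
    have hstab : ∀ P P' : Matrix ι ι F, P * P' = 1 → P * T * P' ∈ K → ∀ y ∈ K, P * y * P' ∈ K := by
      intro P P' hPP hPT y hy
      obtain ⟨a, b, rfl⟩ := (hKmem _).mp hy
      rw [mul_add, add_mul, Matrix.mul_smul, Matrix.smul_mul, mul_one, hPP, Matrix.mul_smul, Matrix.smul_mul]
      exact K.add_mem (K.smul_mem K.one_mem a) (K.smul_mem hPT b)
    refine ⟨hstab _ _ (Units.mul_inv g) hgT x, fun h => ?_⟩
    have h' := hstab _ _ (Units.inv_mul g) hgT' _ h
    rwa [← mul_assoc, ← mul_assoc, Units.inv_mul, one_mul, mul_assoc, Units.inv_mul, mul_one] at h'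

/-- In characteristic two a field of alternating self-adjoint elements needs a dimension divisible by four. -/
theorem false_of_alternating_field (hQ : (QuadraticMap.polarBilin Q).Nondegenerate) (hn : Fintype.card ι = 10)
    {K : Subalgebra F (Matrix ι ι F)} (hK : IsFieldSubalgebra 2 K) (hsa : IsSelfAdjointFor (polar ⇑Q) K)
    (halt : ∀ k ∈ K, ∀ v, polar ⇑Q (k *ᵥ v) v = 0) : False := by
  classical
  have step : ∀ W : Submodule F (ι → F), IsNondegenerateOn (polar ⇑Q) W →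
      (∀ k ∈ K, ∀ w ∈ W, k *ᵥ w ∈ W) → W ≠ ⊥ → ∃ P : Submodule F (ι → F), P ≤ W ∧
        IsNondegenerateOn (polar ⇑Q) P ∧ Module.finrank F P = 4 ∧ ∀ k ∈ K, ∀ p ∈ P, k *ᵥ p ∈ P := by
    intro W hW hinv hW0
    obtain ⟨v, hv, hv0⟩ := W.ne_bot_iff.mp hW0
    obtain ⟨w, hw, hwv⟩ := (hW v hv hv0).1
    let φ : K × K →ₗ[F] (ι → F) :=
      { toFun := fun p => (p.1 : Matrix ι ι F) *ᵥ v + (p.2 : Matrix ι ι F) *ᵥ w
        map_add' := fun p p' => by
          simp only [Prod.fst_add, Prod.snd_add, AddMemClass.coe_add, Matrix.add_mulVec]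
          abel
        map_smul' := fun c p => by
          simp only [Prod.smul_fst, Prod.smul_snd, SetLike.val_smul, Matrix.smul_mulVec, RingHom.id_apply,
            smul_add] }
    have hpair : ∀ p : K × K, p ≠ 0 → ∃ y ∈ LinearMap.range φ, polar ⇑Q (φ p) y ≠ 0 := by
      intro p hp
      have hφ : φ p = (p.1 : Matrix ι ι F) *ᵥ v + (p.2 : Matrix ι ι F) *ᵥ w := rfl
      by_cases hk : (p.1 : Matrix ι ι F) = 0
      · have hl : (p.2 : Matrix ι ι F) ≠ 0 := fun hl => hp (Prod.ext (Subtype.ext hk) (Subtype.ext hl))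
        obtain ⟨m, hm, hlm⟩ := hK.inv _ p.2.2 hl
        refine ⟨φ (⟨m, hm⟩, 0), LinearMap.mem_range_self φ _, ?_⟩
        rw [hφ, hk, Matrix.zero_mulVec, zero_add]
        show polar ⇑Q _ (m *ᵥ v + (0 : Matrix ι ι F) *ᵥ w) ≠ 0
        rw [Matrix.zero_mulVec, add_zero, hsa _ p.2.2, Matrix.mulVec_mulVec, hlm, Matrix.one_mulVec]
        exact hwv
      · obtain ⟨m, hm, hkm⟩ := hK.inv _ p.1.2 hk
        refine ⟨φ (0, ⟨m, hm⟩), LinearMap.mem_range_self φ _, ?_⟩
        rw [hφ]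
        show polar ⇑Q _ ((0 : Matrix ι ι F) *ᵥ v + m *ᵥ w) ≠ 0
        rw [Matrix.zero_mulVec, zero_add, polar_add_left, hsa _ p.1.2, hsa _ p.2.2, Matrix.mulVec_mulVec,
          Matrix.mulVec_mulVec, hkm, Matrix.one_mulVec, polar_comm _ w,
          halt _ (K.mul_mem p.2.2 hm), add_zero, polar_comm]
        exact hwv
    have hφinj : Function.Injective φ := by
      rw [← LinearMap.ker_eq_bot, LinearMap.ker_eq_bot']
      intro p hp
      by_contra h0
      obtain ⟨y, -, hy⟩ := hpair p h0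
      exact hy (by rw [hp, polar_zero_left])
    refine ⟨LinearMap.range φ, ?_, ?_, ?_, ?_⟩
    · rintro _ ⟨p, rfl⟩
      exact W.add_mem (hinv _ p.1.2 v hv) (hinv _ p.2.2 w hw)
    · rintro _ ⟨p, rfl⟩ hp
      obtain ⟨y, hy, hpy⟩ := hpair p fun h => hp (by rw [h, map_zero])
      exact ⟨⟨y, hy, by rwa [polar_comm]⟩, ⟨y, hy, hpy⟩⟩
    · rw [LinearMap.finrank_range_of_inj hφinj, Module.finrank_prod, hK.finrank_eq]
    · rintro k hk _ ⟨p, rfl⟩
      refine ⟨(⟨k, hk⟩ * p.1, ⟨k, hk⟩ * p.2), ?_⟩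
      show (k * (p.1 : Matrix ι ι F)) *ᵥ v + (k * (p.2 : Matrix ι ι F)) *ᵥ w = _
      rw [← Matrix.mulVec_mulVec, ← Matrix.mulVec_mulVec, ← Matrix.mulVec_add]
      rfl
  have hperp : ∀ P : Submodule F (ι → F), (∀ k ∈ K, ∀ p ∈ P, k *ᵥ p ∈ P) →
      ∀ k ∈ K, ∀ p ∈ polarPerp Q P, k *ᵥ p ∈ polarPerp Q P := fun P hP k hk p hp =>
    mem_polarPerp.mpr fun a ha => by rw [← hsa k hk]; exact mem_polarPerp.mp hp _ (hP k hk a ha)
  obtain ⟨P₁, -, hnd₁, hd₁, hi₁⟩ := step ⊤ (isNondegenerateOn_top hQ) (fun _ _ _ _ => Submodule.mem_top)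
    (ne_bot_of_finrank (by rw [finrank_top, Module.finrank_fintype_fun_eq_card]; omega))
  have hd₁' : Module.finrank F (polarPerp Q P₁) = 6 := by rw [finrank_polarPerp hQ]; omega
  obtain ⟨P₂, hP₂, hnd₂, hd₂, hi₂⟩ := step _ (nondegenerateOn_polarPerp hQ hnd₁) (hperp P₁ hi₁)
    (ne_bot_of_finrank (by omega))
  have ho : AreOrthogonalFor (polar ⇑Q) P₁ P₂ := fun a ha b hb => mem_polarPerp.mp (hP₂ hb) a ha
  have hnd := (orth_sup hnd₁ hnd₂ ho).1
  have hd : Module.finrank F (P₁ ⊔ P₂ : Submodule F (ι → F)) = 8 := by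
    rw [finrank_orth_sup hnd₁ hnd₂ ho]; omega
  have hd' : Module.finrank F (polarPerp Q (P₁ ⊔ P₂)) = 2 := by rw [finrank_polarPerp hQ]; omega
  obtain ⟨P₃, hP₃, -, hd₃, -⟩ := step _ (nondegenerateOn_polarPerp hQ hnd) (hperp _ (fun k hk x hx => by
    obtain ⟨a, ha, b, hb, rfl⟩ := Submodule.mem_sup.mp hx
    rw [Matrix.mulVec_add]
    exact Submodule.add_mem_sup (hi₁ k hk a ha) (hi₂ k hk b hb))) (ne_bot_of_finrank (by omega))
  have := Submodule.finrank_mono hP₃
  omega

/-- In the Omega group a pair of complementary singular halves of odd dimension is fixed memberwise. -/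
theorem stable_of_pair (hQ : (QuadraticMap.polarBilin Q).Nondegenerate) (hn4 : Fintype.card ι ≠ 4)
    {H : Subgroup (GL ι F)} (hH : H ≤ omegaGL ⇑Q) {k : ℕ} (hk : Odd k) (hn : Fintype.card ι = 2 * k)
    {D : Fin 2 → Submodule F (ι → F)} (hD : IsMDecomposition k D) (hts : ∀ i, IsTotallySingularQuad (⇑Q) (D i))
    (hle : H ≤ decompositionStabilizer D) : H ≤ subspaceStabilizer (D 0) := by
  intro g hg
  obtain ⟨σ, hσ⟩ := hle hg
  have hmem : ∀ i, ∀ w ∈ D i, (g : Matrix ι ι F) *ᵥ w ∈ D (σ i) := fun i w hw => by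
    rw [← hσ i]
    exact ⟨w, hw, Matrix.toLin'_apply _ _⟩
  rcases Fin.exists_fin_two.mp ⟨σ 0, rfl⟩ with h | h
  · show ∀ z, z ∈ D 0 ↔ (g : Matrix ι ι F) *ᵥ z ∈ D 0
    refine fun z => ⟨fun hz => h ▸ hmem 0 z hz, fun hz => ?_⟩
    have hz' : (g : Matrix ι ι F) *ᵥ z ∈ (D 0).map (Matrix.toLin' (g : Matrix ι ι F)) := by
      rw [hσ 0, h]; exact hz
    obtain ⟨y, hy, hyz⟩ := hz'
    have := congrArg (fun u => ((g⁻¹ : GL ι F) : Matrix ι ι F) *ᵥ u) hyz
    simp only [Matrix.toLin'_apply, inv_mulVec_cancel] at this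
    exact this ▸ hy
  · exfalso
    have h1 : σ 1 = 0 := by
      rcases Fin.exists_fin_two.mp ⟨σ 1, rfl⟩ with h1 | h1
      · exact h1
      · exact absurd (σ.injective (h1.trans h.symm)) (by decide)
    exact not_swap_of_odd hQ hn4 (hts 0) hk (hD.finrank_eq 0) (hD.finrank_eq 1) hn
      (hD.indep.pairwiseDisjoint (show (0 : Fin 2) ≠ 1 by decide)) (hH hg)
      (fun w hw => h ▸ hmem 0 w hw) (fun w hw => h1 ▸ hmem 1 w hw)

/-- An orthogonal ten-space with a self-adjoint field of degree five. -/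
theorem exists_pair_or_similar_field (hQ : (QuadraticMap.polarBilin Q).Nondegenerate) (hn : Fintype.card ι = 10)
    {H : Subgroup (GL ι F)} (hH : H ≤ isometryGroup F ⇑Q) {K : Subalgebra F (Matrix ι ι F)}
    (hK : IsFieldSubalgebra 5 K) (hle : H ≤ subalgebraNormalizer K) (hsa : IsSelfAdjointFor (polar ⇑Q) K)
    (halt : ∀ k ∈ K, ∀ v, (2 : F) = 0 → polar ⇑Q (k *ᵥ v) v = 0) :
    (∃ D : Fin 2 → Submodule F (ι → F), IsMDecomposition 5 D ∧ (∀ i, IsTotallySingularQuad (⇑Q) (D i)) ∧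
      H ≤ decompositionStabilizer D) ∨
    (∃ K' : Subalgebra F (Matrix ι ι F), IsFieldSubalgebra 2 K' ∧ IsAdjointClosedFor (polar ⇑Q) K' ∧
      ¬ IsSelfAdjointFor (polar ⇑Q) K' ∧ (∀ x ∈ K', ∃ c : F, ∀ v, Q (x *ᵥ v) = c * Q v) ∧
      H ≤ subalgebraNormalizer K') := by
  rcases exists_pair_of_field (Q := Q) (r := 5) (by omega) (by norm_num) (by omega) hQ hK hsa halt hH hle with
    ⟨W, U, hW, hU, hWd, hUd, hdis, hperm⟩ | h
  · refine Or.inl ⟨![W, U], decomposition_pair hdis ?_ (by norm_num) hWd hUd, fun i => ?_, fun g hg =>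
      mem_decompositionStabilizer_pair (by omega) (hperm g hg)⟩
    · refine Submodule.eq_top_of_finrank_eq ?_
      have h := Submodule.finrank_sup_add_finrank_inf_eq W U
      rw [hdis.eq_bot, finrank_bot, add_zero] at h
      rw [Module.finrank_fintype_fun_eq_card, h]
      omega
    · fin_cases i
      · exact hW
      · exact hU
  · obtain ⟨T, z, hz, hT, hQT, hQT', hconj⟩ := h (by decide)
    exact Or.inr (exists_similar_field hQ (by omega) hz hT hQT hQT' hconj)

end Cfsg.Agent.Lib.MaxClass.OrthEven
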